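import Groth.Agent.PicField.Chart
import Groth.Agent.PicCurve.RelPicBC
import Groth.Agent.PicAux.SeesawAnyBase
import Groth.Agent.FBaseGeom.Dim
import Mathlib

/-!
# The charts cover the degree zero Picard sheaf
-/

universe u

open CategoryTheory CategoryTheory.Limits AlgebraicGeometry TopologicalSpace Opposite AlgSp
open Groth.Abvar.PicCalc
open Groth.ModelsGraphs.PicDim (degC_map degC_mulT degC_good)
open Groth.SpectralTopology Groth.PicAux.SeesawAnyBase

set_option maxHeartbeats 1600000
set_option backward.isDefEq.respectTransparency false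
set_option backward.defeqAttrib.useBackward true
set_option backward.isDefEq.respectTransparency.types false

noncomputable section

namespace Groth.PicField

open Groth.PicCurve

/-- An invertible module on the family over a ring comes from a finitely generated stage. -/
theorem exists_stage_module {R A : CommRingCat.{u}} [Algebra R A] {T : Scheme.{u}} (g : T ⟶ Spec R)
    [IsProper g] {L : (stageCone (A := A) g).pt.Modules} (hL : PicF.IsInvertible L) :
    ∃ (s : (AlgSub R A)ᵒᵖ) (L₀ : ((stageDiagram (A := A) g).obj s).Modules),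
      PicF.IsInvertible L₀ ∧
        Nonempty ((Scheme.Modules.pullback ((stageCone (A := A) g).π.app s)).obj L₀ ≅ L) := by
  have : ∀ {s t : (AlgSub R A)ᵒᵖ} (φ : s ⟶ t), IsAffineHom ((stageDiagram (A := A) g).map φ) :=
    isAffineHom_stageDiagram g
  have : ∀ s, IsAffine ((algSchemes R A).obj s) := fun s => inferInstanceAs (IsAffine (Spec _))
  have : ∀ s, CompactSpace ((stageDiagram (A := A) g).obj s) := fun s =>
    QuasiCompact.compactSpace_of_compactSpace (pullback.snd g (algToBase R A s))
  have : ∀ s, QuasiSeparatedSpace ((stageDiagram (A := A) g).obj s) := fun s =>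
    quasiSeparatedSpace_of_quasiSeparated (pullback.snd g (algToBase R A s))
  obtain ⟨hl⟩ := nonempty_isLimit_stageCone (A := A) g
  obtain ⟨s₀⟩ := (inferInstance : Nonempty (AlgSub R A)ᵒᵖ)
  obtain ⟨s, -, L₀, hL₀, hj⟩ :=
    Groth.PicAux.LimitInv.exists_stage_invertible (stageDiagram (A := A) g) (stageCone g) hl s₀ hL
  exact ⟨s, L₀, hL₀, hj⟩

variable {k : Type u} [Field k] {X : Scheme.{u}} {f : X ⟶ Spec (CommRingCat.of k)}
  {σ : Spec (CommRingCat.of k) ⟶ X} {hσ : σ ≫ f = 𝟙 (Spec (CommRingCat.of k))}

/-- The base change of a pointed curve to a field extension. -/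
theorem isPtCurve_baseChange (hf : IsPtCurve f) (σ : Spec (CommRingCat.of k) ⟶ X)
    (hσ : σ ≫ f = 𝟙 (Spec (CommRingCat.of k))) (K : Type u) [Field K] [Algebra k K] :
    IsPtCurve (pullback.snd f (Spec.map (CommRingCat.ofHom (algebraMap k K)))) := by
  let b := Spec.map (CommRingCat.ofHom (algebraMap k K))
  let s : Spec (CommRingCat.of K) ⟶ pullback f b :=
    pullback.lift (b ≫ σ) (𝟙 _) (by rw [Category.assoc, hσ]; simp)
  have := hf.geomInt
  refine isPtCurve ⟨MorphismProperty.pullback_snd _ _ hf.proper,
    MorphismProperty.pullback_snd _ _ hf.smooth,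
    GeometricallyIntegral.geometrically_isIntegral (f := f) b _ _ (IsPullback.of_hasPullback f b), ?_⟩
    s (pullback.lift_snd _ _ _)
  have := hf.smooth
  rw [← hf.dim, ← Groth.FBaseGeom.dim_bc f K]
  rfl

variable (K : Type u) [Field K] [Algebra k K]

variable (k) in
/-- The finitely generated subalgebras of an extension. -/
abbrev Stage : Type u :=
  (AlgSub (CommRingCat.of k) (CommRingCat.of K))ᵒᵖ

variable {K} [Algebra.IsSeparable k K]

/-- A stage as a test scheme. -/
abbrev stageObj (s : Stage k K) : Over (Spec (CommRingCat.of k)) :=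
  Over.mk (algToBase (CommRingCat.of k) (CommRingCat.of K) s)

theorem isField_stage (s : Stage k K) : IsField s.unop.1 :=
  Subalgebra.isField_of_algebraic s.unop.1

theorem subsingleton_stage (s : Stage k K) : Subsingleton (stageObj s).left := by
  let _ := (isField_stage s).toField
  exact inferInstanceAs (Subsingleton (PrimeSpectrum s.unop.1))

theorem etale_stage (s : Stage k K) : Etale (stageObj s).hom := by
  let _ := (isField_stage s).toField
  have h1 : Algebra.FiniteType k s.unop.1 := s.unop.1.fg_iff_finiteType.1 s.unop.2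
  have h2 : Algebra.IsSeparable k s.unop.1 :=
    Algebra.isSeparable_tower_bot_of_isSeparable k s.unop.1 K
  have : Module.Finite k s.unop.1 := Algebra.IsIntegral.finite
  have h3 : Algebra.Etale k s.unop.1 :=
    ⟨Algebra.FormallyEtale.of_isSeparable k _, Algebra.FinitePresentation.of_finiteType.1 h1⟩
  exact (HasRingHomProperty.Spec_iff (P := @Etale)).2 (RingHom.etale_algebraMap.2 h3)

/-- The indices of the charts. -/
structure Idx (K : Type u) [Field K] [Algebra k K] (hf : IsPtCurve f) : Type (u + 1) where
  /-- The stage. -/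
  s : Stage k K
  /-- The twist. -/
  N : PicLoc.PicSet (PicF.XT f (stageObj s))
  deg : ∀ e, degC (PicF.XTproj f (stageObj s)) N e = genus f

variable (hf : IsPtCurve f)

variable [IsSepClosed K]

variable (K) in
theorem exists_twist_at {T : Over (Spec (CommRingCat.of k))} (a : (zP hf σ hσ).obj (op T))
    (t : T.left) : ∃ (i : Idx K hf) (v : (locT hf i.N a).left),
      (opnHom _ _ ≫ prT T (stageObj i.s)).left v = t := by
  let b := Spec.map (CommRingCat.ofHom (algebraMap k K))
  let EK : Over (Spec (CommRingCat.of k)) := Over.mk b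
  let fK := pullback.snd f b
  have hfK : IsPtCurve fK := isPtCurve_baseChange hf σ hσ K
  let sK : Spec (CommRingCat.of K) ⟶ pullback f b :=
    pullback.lift (b ≫ σ) (𝟙 _) (by rw [Category.assoc, hσ]; simp)
  let TK : Over (Spec (CommRingCat.of K)) := Over.mk (pullback.snd T.hom b)
  let T' : Over (Spec (CommRingCat.of k)) := RelBC.toBase b TK
  let q : T' ⟶ T := Over.homMk (pullback.fst T.hom b) pullback.condition
  let eK : T' ⟶ EK := Over.homMk (pullback.snd T.hom b) rfl
  obtain ⟨z, hz, -⟩ := Scheme.Pullback.exists_preimage_pullback (f := T.hom) (g := b) t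
    (⟨⊥, Ideal.isPrime_bot⟩ : PrimeSpectrum K) (Subsingleton.elim (α := PrimeSpectrum k) _ _)
  let i := RelBC.xtIso f b TK
  let c := pull (PicF.XTmap f q) (toR hf a).1
  obtain ⟨M, hM⟩ := exists_goodC_twist hfK sK (pullback.lift_snd _ _ _) TK (pull i.hom c) z
  -- descend the twist to a stage
  obtain ⟨L, hL, rfl⟩ := PicGrp.exists_eq_cls M
  have hprop := hf.proper
  let A := CommRingCat.of K
  let R := CommRingCat.of k
  obtain ⟨s, L₀, hL₀, ⟨j⟩⟩ := exists_stage_module (R := R) (A := A) f (L := L) hL
  let hs : EK ⟶ stageObj s := Over.homMk ((algCone R A).π.app s) (algCone_π_toBase R A s)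
  let N : PicLoc.PicSet (PicF.XT f (stageObj s)) := cls hL₀
  have hNL : pull (PicF.XTmap f hs) N = cls hL := by
    rw [show PicF.XTmap f hs = (stageCone (A := A) f).π.app s by
      simp only [PicF.XTmap, stageCone, hs, pullback.map, Over.homMk_left]
      congr 1 <;> simp,
      pull_cls, ← nonempty_iso_iff]
    exact ⟨j⟩
  -- goodness over the base
  have hgood : GoodC (PicF.XTproj f T') (c * pull (PicF.XTmap f (eK ≫ hs)) N) z := by
    have := hf.isProper_proj T'
    have := hf.smooth_proj T'
    have hp : IsProper (PicF.XTproj fK TK) := hfK.isProper_proj TK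
    have := hfK.smooth_proj TK
    have sq : IsPullback i.hom (PicF.XTproj fK TK) (PicF.XTproj f T') (𝟙 _) :=
      IsPullback.of_horiz_isIso ⟨by rw [RelBC.xtIso_proj]; exact (Category.comp_id _).symm⟩
    refine (goodC_baseChange_iff _ sq _ z).1 ?_
    rw [map_mul]
    have e : pull i.hom (pull (PicF.XTmap f (eK ≫ hs)) N) = pull (pullback.fst fK TK.hom) (cls hL) := by
      rw [← hNL, ← pull_comp]
      refine Eq.trans ?_ (pull_comp (pullback.fst fK TK.hom) (PicF.XTmap f hs) N)
      rw [XTmap_comp', ← Category.assoc]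
      congr 3
      apply pullback.hom_ext
      · simp [i, RelBC.xtIso, PicF.XTmap, eK, fK, EK, pullback.lift_fst]
        exact pullbackLeftPullbackSndIso_hom_fst _ _ _
      · simp [i, RelBC.xtIso, PicF.XTmap, eK, fK, EK, pullback.lift_snd, pullback.condition]
        exact pullbackLeftPullbackSndIso_hom_snd_assoc _ _ _ _
    rw [e]
    exact hM
  have hdegN : ∀ e, degC (PicF.XTproj f (stageObj s)) N e = genus f := fun e => by
    have := subsingleton_stage s
    have h := degC_good hf hgood
    rw [degC_mulT hf, degC_map hf, degC_map hf,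
      show degC (PicF.XTproj f T) (toR hf a).1 (q.left z) = 0 from
        (show Groth.ModelsGraphs.PicDim.zeroClasses hf σ hσ T from a).2.2 _, zero_add] at h
    rwa [Subsingleton.elim e ((eK ≫ hs).left z)]
  let w : T' ⟶ prodE T (stageObj s) := Over.homMk (pullback.lift q.left (eK ≫ hs).left
    (by rw [Over.w q, Over.w (eK ≫ hs)])) (by
      show pullback.lift _ _ _ ≫ pullback.fst T.hom (stageObj s).hom ≫ T.hom = _
      rw [pullback.lift_fst_assoc, Over.w q])
  have hw₁ : w ≫ prT T (stageObj s) = q := Over.OverMorphism.ext (pullback.lift_fst _ _ _)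
  have hw₂ : w ≫ prE T (stageObj s) = eK ≫ hs := Over.OverMorphism.ext (pullback.lift_snd _ _ _)
  have hmem : w.left z ∈ goodOpens f hf (twCls hf N a) := by
    show GoodC _ _ _
    rw [← goodC_map_iff hf w, map_mul, ← pull_comp, ← pull_comp, ← XTmap_comp', ← XTmap_comp',
      hw₁, hw₂]
    exact hgood
  refine ⟨⟨s, N, hdegN⟩, ⟨w.left z, hmem⟩, ?_⟩
  show pullback.fst T.hom (stageObj s).hom (w.left z) = t
  refine (Scheme.Hom.comp_apply _ _ _).symm.trans ?_
  rw [show w.left ≫ pullback.fst T.hom (stageObj s).hom = q.left from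
    congrArg (fun m => m.left) hw₁]
  exact hz

end Groth.PicField
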