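import Groth.Agent.ModelsGraphs.PicDim.PicZero
import Groth.Agent.Curves1.RR.BaseChange
import Groth.Agent.LocFree.Basic
import Groth.Agent.PicAux.RigDescent
import Groth.Prelude.Def_ModFun2
import Mathlib

/-!
# The moduli problem of line bundles of degree `d` on a pointed curve, in terms of classes
-/

set_option autoImplicit false

universe u

open CategoryTheory CategoryTheory.Limits AlgebraicGeometry TopologicalSpace Opposite
open Groth.Abvar.PicCalc
open Groth.ModelsGraphs.PicDim (zeroClasses zeroClasses_map degC_map degC_mulT degC_invT degC_powT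
  degC_fst degC_base degC_norm exists_deg0_one exists_picZero deg0)

set_option maxHeartbeats 1600000
set_option backward.isDefEq.respectTransparency false
set_option backward.defeqAttrib.useBackward true
set_option backward.isDefEq.respectTransparency.types false

noncomputable section

namespace Groth.PicField

open Groth.PicCurve

/-- The degree at the point of the spectrum of a field is the degree over that field. -/
theorem degC_specField {Ω : Type u} [Field Ω] {Y : Scheme.{u}} (π : Y ⟶ Spec (CommRingCat.of Ω))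
    [IsProper π] {L : Y.Modules} (hL : PicF.IsInvertible L) (pt : Spec (CommRingCat.of Ω)) :
    degC π (cls hL) pt = (letI : Y.Over (Spec (CommRingCat.of Ω)) := ⟨π⟩; Curv2.deg Ω Y L 1) := by
  let K : Type u := (Spec (CommRingCat.of Ω)).residueField pt
  letI : Y.Over (Spec (CommRingCat.of Ω)) := ⟨π⟩
  haveI : IsProper (Y ↘ Spec (CommRingCat.of Ω)) := ‹IsProper π›
  letI : (π.fiber pt).Over (Spec (CommRingCat.of K)) := ⟨π.fiberToSpecResidueField pt⟩
  let φ : CommRingCat.of Ω ⟶ (Spec (CommRingCat.of Ω)).residueField pt :=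
    Spec.preimage ((Spec (CommRingCat.of Ω)).fromSpecResidueField pt)
  letI : Algebra Ω K := φ.hom.toAlgebra
  have hmap : Spec.map (CommRingCat.ofHom (algebraMap Ω K)) =
      (Spec (CommRingCat.of Ω)).fromSpecResidueField pt := Spec.map_preimage _
  have hsq : IsPullback (π.fiberι pt) (π.fiber pt ↘ Spec (CommRingCat.of K))
      (Y ↘ Spec (CommRingCat.of Ω)) (Spec.map (CommRingCat.ofHom (algebraMap Ω K))) := by
    rw [hmap]
    exact IsPullback.of_hasPullback π _
  rw [degC_eq_deg]
  exact Groth.Curves1.RR.deg_pullback hsq hL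

variable {k : Type u} [Field k] {X : Scheme.{u}} {f : X ⟶ Spec (CommRingCat.of k)}
  {σ : Spec (CommRingCat.of k) ⟶ X} {hσ : σ ≫ f = 𝟙 (Spec (CommRingCat.of k))}

/-- The degree of a family at every geometric point, in terms of the degree function. -/
theorem fibDeg_iff (hf : IsPtCurve f) (d : ℤ) (T : Over (Spec (CommRingCat.of k)))
    {E : (PicF.XT f T).Modules} (hE : PicF.IsInvertible E) :
    ModFun.FibDeg f 1 d T E ↔ ∀ t, degC (PicF.XTproj f T) (cls hE) t = d := by
  have key : ∀ (Ω : Type u) [Field Ω] (t : Spec (CommRingCat.of Ω) ⟶ T.left),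
      (letI : (PicF.XT f (Over.mk (t ≫ T.hom))).Over (Spec (CommRingCat.of Ω)) :=
          ⟨PicF.XTproj f (Over.mk (t ≫ T.hom))⟩
       Curv2.deg Ω (PicF.XT f (Over.mk (t ≫ T.hom)))
        ((Scheme.Modules.pullback (PicF.XTmap f
          (Over.homMk t rfl : Over.mk (t ≫ T.hom) ⟶ T))).obj E) 1) =
      degC (PicF.XTproj f T) (cls hE) (t (IsLocalRing.closedPoint Ω)) := fun Ω _ t => by
    let g : Over.mk (t ≫ T.hom) ⟶ T := Over.homMk t rfl
    have hgl : g.left = t := rfl
    have := hf.isProper_proj (Over.mk (t ≫ T.hom))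
    rw [← degC_specField (PicF.XTproj f (Over.mk (t ≫ T.hom)))
      (PicLoc.isInvertible_pullback (PicF.XTmap f g) hE) (IsLocalRing.closedPoint Ω), ← pull_cls]
    exact degC_map hf g (cls hE) _
  constructor
  · intro h t
    let Ω : Type u := AlgebraicClosure (T.left.residueField t)
    let q : Spec (CommRingCat.of Ω) ⟶ T.left :=
      Spec.map (CommRingCat.ofHom (algebraMap (T.left.residueField t) Ω)) ≫
        T.left.fromSpecResidueField t
    have hq : q (IsLocalRing.closedPoint Ω) = t := by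
      rw [Scheme.Hom.comp_apply]
      exact Scheme.fromSpecResidueField_apply t _
    have h1 := key Ω q
    rw [hq] at h1
    rw [← h1]
    exact h Ω q
  · intro h Ω _ _ t
    exact (key Ω t).trans (h _)

/-- Admissible families of degree `d`, in terms of classes. -/
theorem ok_iff (hf : IsPtCurve f) (d : ℤ) (T : Over (Spec (CommRingCat.of k)))
    (E : (ModFun.PicDeg f d).Fam T) :
    (ModFun.PicDeg f d).ok T E ↔
      ∃ hE : PicF.IsInvertible (Y := PicF.XT f T) E,
        ∀ t, degC (PicF.XTproj f T) (cls hE) t = d := by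
  constructor
  · rintro ⟨⟨-, h1⟩, h2⟩
    have hE := Groth.LocFree.isInvertible_iff_ofRank_one.2 h1
    exact ⟨hE, (fibDeg_iff hf d T hE).1 h2⟩
  · rintro ⟨hE, h⟩
    exact ⟨⟨trivial, Groth.LocFree.isInvertible_iff_ofRank_one.1 hE⟩, (fibDeg_iff hf d T hE).2 h⟩

/-- Pull-backs of admissible families are admissible. -/
theorem ok_pull (hf : IsPtCurve f) (d : ℤ) {T T' : Over (Spec (CommRingCat.of k))} (g : T' ⟶ T)
    {E : (ModFun.PicDeg f d).Fam T} (h : (ModFun.PicDeg f d).ok T E) :
    (ModFun.PicDeg f d).ok T' ((ModFun.PicDeg f d).pull g E) := by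
  obtain ⟨hE, hd⟩ := (ok_iff hf d T E).1 h
  refine (ok_iff hf d T' _).2 ⟨PicLoc.isInvertible_pullback (PicF.XTmap f g) hE, fun t => ?_⟩
  refine Eq.trans ?_ (hd (g.left t))
  rw [← pull_cls]
  exact degC_map hf g _ t

/-- Two invertible families are identified if and only if their classes differ by one from the
base. -/
theorem r_iff (d : ℤ) (T : Over (Spec (CommRingCat.of k))) {E E' : (PicF.XT f T).Modules}
    (hE : PicF.IsInvertible E) (hE' : PicF.IsInvertible E') :
    (ModFun.PicDeg f d).r T E E' ↔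
      ∃ b, cls hE' = cls hE * pull (PicF.XTproj f T) b := by
  constructor
  · rintro ⟨M, hM, hi⟩
    refine ⟨cls hM, ?_⟩
    have hp := PicLoc.isInvertible_pullback (PicF.XTproj f T) hM
    rw [pull_cls, ← cls_tensorMod hE hp]
    exact (nonempty_iso_iff hE' _).1 hi
  · rintro ⟨b, hb⟩
    obtain ⟨M, hM, rfl⟩ := PicGrp.exists_eq_cls b
    have hp := PicLoc.isInvertible_pullback (PicF.XTproj f T) hM
    refine ⟨M, hM, (nonempty_iso_iff hE' (isInvertible_tensorMod hE hp)).2 ?_⟩
    rw [cls_tensorMod hE hp, hb, pull_cls]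

/-- On a pointed curve over an algebraically closed field there is, for every natural number `d`,
a universal family of line bundles of degree `d`, over an abelian variety. -/
theorem exists_univFamily_picDeg [IsSepClosed k] (hf : IsPtCurve f) (hσ : σ ≫ f = 𝟙 _) (n : ℕ) :
    ∃ (J : Over (Spec (CommRingCat.of k))) (_ : GrpObj J) (ξ : (ModFun.PicDeg f (n : ℤ)).Fam J),
      IsProper J.hom ∧ Smooth J.hom ∧ GeometricallyIntegral J.hom ∧
      ModFun.IsUnivFamily ⊤ (ModFun.PicDeg f (n : ℤ)) J ξ ∧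
      ∀ T : Over (Spec (CommRingCat.of k)), Nonempty (T ⟶ J) := by
  obtain ⟨J, hG, -, e, -, hnat, hp, hs, hi, -⟩ := exists_picZero hf hσ
  obtain ⟨N, hN⟩ := exists_deg0_one hf hσ
  obtain ⟨ξ, hξ, hξc⟩ := PicGrp.exists_eq_cls ((e J (𝟙 J)).1 * tw J (N ^ n))
  have htw : ∀ (T : Over (Spec (CommRingCat.of k))) (t : T.left),
      degC (PicF.XTproj f T) (tw T (N ^ n)) t = n := fun T t => by
    rw [show tw (f := f) T (N ^ n) = (tw T N) ^ n from map_pow _ _ _, degC_powT hf, degC_fst hf, hN,
      _root_.mul_one]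
  have hcls : ∀ {T : Over (Spec (CommRingCat.of k))} (g : T ⟶ J),
      cls (PicLoc.isInvertible_pullback (PicF.XTmap f g) hξ) = (e T g).1 * tw T (N ^ n) := fun g => by
    rw [← pull_cls (PicF.XTmap f g) hξ, show cls hξ = _ from hξc.symm, map_mul, tw_map, ← hnat,
      Category.comp_id]
  refine ⟨J, hG, ξ, hp, hs, hi, ⟨(ok_iff hf _ J ξ).2 ⟨hξ, fun t => ?_⟩, fun T x _ hx => ?_⟩,
    fun T => ⟨(e T).symm 1⟩⟩
  · rw [show cls hξ = _ from hξc.symm, degC_mulT hf, htw, (e J (𝟙 J)).2.2 t, zero_add]
  obtain ⟨hE, hd⟩ := (ok_iff hf _ T x).1 hx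
  let c := norm f σ hσ T (cls hE * (tw T (N ^ n))⁻¹)
  let c' : zeroClasses hf σ hσ T := ⟨c.1, c.2, fun t => by
    rw [degC_norm hf, degC_mulT hf, degC_invT hf, htw, hd, add_neg_cancel]⟩
  refine ⟨(e T).symm c', (r_iff _ T (PicLoc.isInvertible_pullback _ hξ) hE).2
    ⟨pull (PicF.secT f σ hσ T) (cls hE * (tw T (N ^ n))⁻¹), ?_⟩, fun g hg => ?_⟩
  · rw [hcls, Equiv.apply_symm_apply]
    show _ = cls hE * _ * _ * _ * _
    rw [mul_right_comm _ (tw T (N ^ n)), inv_mul_cancel_right, inv_mul_cancel_right]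
  · obtain ⟨b, hb⟩ := (r_iff _ T (PicLoc.isInvertible_pullback _ hξ) hE).1 hg
    rw [hcls] at hb
    rw [Equiv.eq_symm_apply]
    apply Subtype.ext
    show (e T g).1 = c.1
    have h1 : cls hE * (tw T (N ^ n))⁻¹ = (e T g).1 * pull (PicF.XTproj f T) b := by
      rw [hb, mul_right_comm, mul_inv_cancel_right]
    show _ = (norm f σ hσ T _).1
    rw [h1, norm_mul_base]
    exact (congrArg Subtype.val (norm_self (⟨(e T g).1, (e T g).2.1⟩ : RS f σ hσ T))).symm

end Groth.PicField
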