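import Groth.Agent.PicField.JacobianAlbanese
import Groth.Agent.Curves1.RR.Powers
import Groth.Agent.Curves1.RR.Constants
import Groth.Agent.Abvar.AlgClosedAux
import Groth.Agent.S17807
import Mathlib

/-!
# The Abel map of a pointed curve of positive genus is a closed immersion
-/

set_option autoImplicit false
set_option linter.style.haveILetI false

universe u

open CategoryTheory CategoryTheory.Limits MonoidalCategory CartesianMonoidalCategory MonObj
  AlgebraicGeometry TopologicalSpace Opposite
open Groth.Abvar.PicCalc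
open Groth.HilbPts (pullObj)
open Groth.PicAux (pullSec)
open Groth.ModelsGraphs.PicDim (zeroClasses degC_map degC_mulT degC_powT degC_dC)

set_option maxHeartbeats 1600000
set_option backward.isDefEq.respectTransparency false
set_option backward.defeqAttrib.useBackward true
set_option backward.isDefEq.respectTransparency.types false

noncomputable section

namespace Groth.PicField

open Groth.PicCurve Groth.DivNorm

/-- Over a field the ranks on the only fibre are the ranks of cohomology. -/
theorem fiberRank_specField {K : Type u} [Field K] {Y : Scheme.{u}}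
    (π : Y ⟶ Spec (CommRingCat.of K)) [IsProper π] {L : Y.Modules} (hL : PicF.IsInvertible L)
    (i : ℕ) (pt : Spec (CommRingCat.of K)) :
    CohIII.fiberRank π L i pt =
      (letI : Y.Over (Spec (CommRingCat.of K)) := ⟨π⟩; Module.finrank K (Coh.HH Y L i)) := by
  let κ : Type u := (Spec (CommRingCat.of K)).residueField pt
  letI : Y.Over (Spec (CommRingCat.of K)) := ⟨π⟩
  haveI : IsProper (Y ↘ Spec (CommRingCat.of K)) := ‹IsProper π›
  letI : (π.fiber pt).Over (Spec (CommRingCat.of κ)) := ⟨π.fiberToSpecResidueField pt⟩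
  let φ : CommRingCat.of K ⟶ (Spec (CommRingCat.of K)).residueField pt :=
    Spec.preimage ((Spec (CommRingCat.of K)).fromSpecResidueField pt)
  letI : Algebra K κ := φ.hom.toAlgebra
  have hmap : Spec.map (CommRingCat.ofHom (algebraMap K κ)) =
      (Spec (CommRingCat.of K)).fromSpecResidueField pt := Spec.map_preimage _
  have hsq : IsPullback (π.fiberι pt) (π.fiber pt ↘ Spec (CommRingCat.of κ))
      (Y ↘ Spec (CommRingCat.of K)) (Spec.map (CommRingCat.ofHom (algebraMap K κ))) := by
    rw [hmap]
    exact IsPullback.of_hasPullback π _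
  exact Groth.Curves1.RR.finrank_pullback hsq L (Groth.EulerDeg.isCoh_of_isInvertible hL).1 i

variable {k : Type u} [Field k] {X : Scheme.{u}} {f : X ⟶ Spec (CommRingCat.of k)}
  {σ : Spec (CommRingCat.of k) ⟶ X} {hσ : σ ≫ f = 𝟙 (Spec (CommRingCat.of k))}
  (hf : IsPtCurve f)

include hf in
/-- The genus of a curve obtained by extension of the field is the genus. -/
theorem genus_XTproj {K : Type u} [Field K] (s : Spec (CommRingCat.of K) ⟶ Spec (CommRingCat.of k)) :
    genus (PicF.XTproj f (Over.mk s)) = genus f := by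
  let φ : CommRingCat.of k ⟶ CommRingCat.of K := Spec.preimage s
  letI : Algebra k K := φ.hom.toAlgebra
  have hs : Spec.map (CommRingCat.ofHom (algebraMap k K)) = s := Spec.map_preimage s
  exact (congrArg (fun r => genus (pullback.snd f r)) hs.symm).trans (genus_baseChange hf K)

/-- The class of a sum of two families of divisors. -/
theorem dC_mul {d e m : ℕ} {T : Over (Spec (CommRingCat.of k))} (W : HilbD.Obj f d T)
    (W' : HilbD.Obj f e T) (V : HilbD.Obj f m T) (h : V.1 = W.1 * W'.1) :
    dC hf V = dC hf W * dC hf W' := by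
  have := hf.smoothOne_proj T
  have hA := (isEffCartierIdeal_of_finLocFree (PicF.XTproj f T) W.2).1
  have hB := (isEffCartierIdeal_of_finLocFree (PicF.XTproj f T) W'.2).1
  have hV := (isEffCartierIdeal_of_finLocFree (PicF.XTproj f T) V.2).1
  have hAB : BlowUp.IsEffCartierIdeal (W.1 * W'.1) := h ▸ hV
  refine (divCls_congr h hV hAB).trans ?_
  obtain ⟨i⟩ := Groth.PicAux.idealMod_mul hA hB
  show (cls _)⁻¹ = (cls _)⁻¹ * (cls _)⁻¹
  rw [← mul_inv, ← cls_tensorMod, inv_inj]
  exact ((nonempty_iso_iff _ _).1 ⟨i⟩).symm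

section Extend

variable {K : Type u} [Field K] [IsAlgClosed K]
  (s : Spec (CommRingCat.of K) ⟶ Spec (CommRingCat.of k))

include hf in
/-- Over an algebraically closed field a class with one section becomes good after adding points. -/
theorem exists_good_extend (hg : 0 < genus f) (hσ : σ ≫ f = 𝟙 _) : ∀ (n : ℕ)
    (c : PicLoc.PicSet (PicF.XT f (Over.mk s))),
    (∃ (L : (PicF.XT f (Over.mk s)).Modules) (hL : PicF.IsInvertible L), cls hL = c ∧
      CohIII.fiberRank (PicF.XTproj f (Over.mk s)) L 0 (IsLocalRing.closedPoint K) = 1 ∧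
      CohIII.fiberRank (PicF.XTproj f (Over.mk s)) L 1 (IsLocalRing.closedPoint K) = n) →
    ∃ z : Fin n → (Over.mk s ⟶ Over.mk f),
      GoodC (PicF.XTproj f (Over.mk s)) (c * ∏ i, clsPt hf (z i)) (IsLocalRing.closedPoint K) := by
  let T : Over (Spec (CommRingCat.of k)) := Over.mk s
  let pt : T.left := IsLocalRing.closedPoint K
  let π := PicF.XTproj f T
  have := hf.isProper_proj T
  letI : (PicF.XT f T).Over (Spec (CommRingCat.of K)) := ⟨π⟩
  have hp : IsProper (PicF.XT f T ↘ Spec (CommRingCat.of K)) := ‹IsProper π›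
  intro n
  induction n with
  | zero =>
    rintro c ⟨L, hL, rfl, h0, h1⟩
    refine ⟨Fin.elim0, ?_⟩
    rw [Finset.univ_eq_empty, Finset.prod_empty, _root_.mul_one, goodC_cls]
    refine ⟨?_, h0⟩
    letI : (π.fiber pt).Over (Spec (CommRingCat.of (T.left.residueField pt))) :=
      ⟨π.fiberToSpecResidueField pt⟩
    haveI : IsProper (π.fiber pt ↘ Spec (CommRingCat.of (T.left.residueField pt))) :=
      MorphismProperty.pullback_snd (P := @IsProper) _ _ ‹IsProper π›
    haveI : Module.Finite (T.left.residueField pt) (CohIII.fiberH π L pt 1) :=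
      Groth.EulerDeg.finite_HH (T.left.residueField pt) (π.fiber pt)
        (Groth.EulerDeg.isCoh_of_isInvertible (Groth.PicAux.isInvertible_pullback (π.fiberι pt) hL)) 1
    exact Module.finrank_zero_iff.1 h1
  | succ n ih =>
    rintro c ⟨L, hL, rfl, h0, h1⟩
    have hsm : Smooth (PicF.XT f T ↘ Spec (CommRingCat.of K)) := hf.smooth_proj T
    have hgc : GeometricallyConnected (PicF.XT f T ↘ Spec (CommRingCat.of K)) :=
      MorphismProperty.pullback_snd _ _ hf.geomConn
    have hdim : topologicalKrullDim ↥(PicF.XT f T) = 1 := by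
      have hu : π ⁻¹' {pt} = Set.univ :=
        Set.eq_univ_of_forall fun _ => Subsingleton.elim (α := PrimeSpectrum K) _ _
      rw [← hf.dim_fiber T pt]
      exact (((π.fiberHomeo pt).trans ((Homeomorph.setCongr hu).trans
        (Homeomorph.Set.univ _))).isHomeomorph.topologicalKrullDim_eq).symm
    have hgK : 0 < Curv2.genus K (PicF.XT f T) := by
      rw [← genus_eq (k := K) (PicF.XT f T)]
      show 0 < genus π
      rw [genus_XTproj hf s]
      exact hg
    let z₀ := zSec σ hσ T
    obtain ⟨U, hU, hUdrop⟩ := Groth.Agent.S17807.result K (PicF.XT f T) hdim hgK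
      (Groth.HilbPts.graph f T z₀.left (Over.w z₀)) (Groth.HilbPts.graph_snd f T _ _) L hL (by
        have e := fiberRank_specField π hL 1 pt
        rw [h1] at e
        omega)
    -- a rational point in the open
    have : LocallyOfFiniteType π := inferInstance
    have : JacobsonSpace T.left := inferInstanceAs (JacobsonSpace (Spec (CommRingCat.of K)))
    have : JacobsonSpace (PicF.XT f T) := LocallyOfFiniteType.jacobsonSpace π
    obtain ⟨x, hxU, hxc⟩ := nonempty_inter_closedPoints hU U.isOpen.isLocallyClosed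
    have : LocallyOfFiniteType (Over.mk π).hom := ‹_›
    obtain ⟨q, hq⟩ := Groth.Abvar.exists_rationalPoint (Over.mk π) hxc
    have hqπ : q.left ≫ π = 𝟙 _ := Over.w q
    let z : T ⟶ Over.mk f := Over.homMk (q.left ≫ pullback.fst f T.hom) (by
      show (q.left ≫ pullback.fst f T.hom) ≫ f = T.hom
      rw [Category.assoc, pullback.condition, ← Category.assoc]
      exact (congrArg (· ≫ T.hom) hqπ).trans (Category.id_comp _))
    have hgraph : Groth.HilbPts.graph f T z.left (Over.w z) = q.left := by
      apply pullback.hom_ext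
      · rw [Groth.HilbPts.graph_fst]; rfl
      · rw [Groth.HilbPts.graph_snd]; exact hqπ.symm
    have := hf.smoothOne_proj T
    have hIz : BlowUp.IsEffCartierIdeal (gr z) :=
      (isEffCartierIdeal_of_finLocFree (PicF.XTproj f T) (ptD hf z).2).1
    obtain ⟨M, hM, hMc⟩ := PicGrp.exists_eq_cls (cls hL * clsPt hf z)
    have hiso : Nonempty (CohB1.tensorMod M (ClSub.idealMod q.left.ker) ≅ L) := by
      rw [show q.left.ker = gr z by rw [← hgraph]; rfl]
      refine (nonempty_iso_iff (isInvertible_tensorMod hM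
        (Groth.PicAux.isInvertible_idealMod hIz)) hL).2 ?_
      rw [cls_tensorMod hM (Groth.PicAux.isInvertible_idealMod hIz), show cls hM = _ from hMc.symm,
        show clsPt hf z = (cls (Groth.PicAux.isInvertible_idealMod hIz))⁻¹ from rfl,
        inv_mul_cancel_right]
    have hdrop := (hUdrop q.left hqπ M hM hiso).1 fun p => by
      rw [Subsingleton.elim (α := PrimeSpectrum K) p (IsLocalRing.closedPoint K)]
      exact hq ▸ hxU
    rw [← fiberRank_specField π hM 1 pt, ← fiberRank_specField π hL 1 pt, h1] at hdrop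
    have hM0 : CohIII.fiberRank π M 0 pt = 1 := by
      have e := degC_mulT hf (cls hL) (clsPt hf z) pt
      rw [show cls hL * clsPt hf z = cls hM from hMc, degC_cls, degC_cls,
        fibEuler_eq_sub π (hf.dim_fiber T), fibEuler_eq_sub π (hf.dim_fiber T) L,
        show clsPt hf z = dC hf (ptD hf z) from rfl, degC_dC hf, h0, h1, hdrop] at e
      push_cast at e
      omega
    obtain ⟨zs, hzs⟩ := ih (cls hM) ⟨M, hM, rfl, hM0, by simpa using hdrop⟩
    refine ⟨Fin.cons z zs, ?_⟩
    rw [Fin.prod_univ_succ, Fin.cons_zero, ← _root_.mul_assoc]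
    simp only [Fin.cons_succ]
    rw [show cls hL * clsPt hf z = cls hM from hMc]
    exact hzs

include hf in
/-- Over an algebraically closed field every point lies in a good divisor. -/
theorem exists_good_through (hσ : σ ≫ f = 𝟙 _) {n : ℕ} (hn : genus f = n + 1)
    (y : Over.mk s ⟶ Over.mk f) :
    ∃ z : Fin n → (Over.mk s ⟶ Over.mk f),
      GoodC (PicF.XTproj f (Over.mk s)) (clsPt hf y * ∏ i, clsPt hf (z i))
        (IsLocalRing.closedPoint K) := by
  let T : Over (Spec (CommRingCat.of k)) := Over.mk s
  let pt : T.left := IsLocalRing.closedPoint K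
  let π := PicF.XTproj f T
  have := hf.isProper_proj T
  have := hf.smooth_proj T
  have := hf.smoothOne_proj T
  have := hf.geomInt_proj T
  letI : (PicF.XT f T).Over (Spec (CommRingCat.of K)) := ⟨π⟩
  have hp : IsProper (PicF.XT f T ↘ Spec (CommRingCat.of K)) := ‹IsProper π›
  have hI := (isEffCartierIdeal_of_finLocFree π (ptD hf y).2).1
  obtain ⟨L, hL, sec, hz, hc⟩ := exists_section hI
  have hs : FibNZ (W := ⊤) π L sec := fibNZ_of_zero π hL (d := 1) (hz ▸ (ptD hf y).2)
  have hcl : cls hL = clsPt hf y := hc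
  have hdeg : degC π (cls hL) pt = 1 := by
    rw [hcl, clsPt]
    exact_mod_cast degC_dC hf (ptD hf y) pt
  have hgK : Curv2.genus K (PicF.XT f T) = genus f := by
    rw [← genus_eq (k := K) (PicF.XT f T)]
    exact genus_XTproj hf s
  have hdim : topologicalKrullDim ↥(PicF.XT f T) = 1 := by
    have hu : π ⁻¹' {pt} = Set.univ :=
      Set.eq_univ_of_forall fun _ => Subsingleton.elim (α := PrimeSpectrum K) _ _
    rw [← hf.dim_fiber T pt]
    exact (((π.fiberHomeo pt).trans ((Homeomorph.setCongr hu).trans
      (Homeomorph.Set.univ _))).isHomeomorph.topologicalKrullDim_eq).symm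
  have hpos : 0 < CohIII.fiberRank π L 0 pt := by
    letI : (π.fiber pt).Over (Spec (CommRingCat.of (T.left.residueField pt))) :=
      ⟨π.fiberToSpecResidueField pt⟩
    haveI : IsProper (π.fiber pt ↘ Spec (CommRingCat.of (T.left.residueField pt))) :=
      MorphismProperty.pullback_snd (P := @IsProper) _ _ ‹IsProper π›
    haveI : Module.Finite (T.left.residueField pt) (CohIII.fiberH π L pt 0) :=
      Groth.EulerDeg.finite_HH (T.left.residueField pt) (π.fiber pt)
        (Groth.EulerDeg.isCoh_of_isInvertible (Groth.PicAux.isInvertible_pullback (π.fiberι pt) hL)) 0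
    let e := Groth.EulerDeg.h0Equiv (T.left.residueField pt)
      ((Scheme.Modules.pullback (π.fiberι pt)).obj L)
    have : Nontrivial (CohIII.fiberH π L pt 0) :=
      ⟨⟨e.symm (pullSec (π.fiberι pt) L sec), 0, fun h => hs pt trivial (by
        have := congrArg e h
        rwa [LinearEquiv.apply_symm_apply, map_zero] at this)⟩⟩
    exact Module.finrank_pos
  have hL0 : CohIII.fiberRank π L 0 pt = 1 := by
    have hd : Curv2.deg K (PicF.XT f T) L 1 = 1 := (degC_specField π hL pt).symm.trans hdeg
    have hint : IsIntegral (PicF.XT f T) := by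
      have : GeometricallyIntegral (Over.mk π).hom := ‹GeometricallyIntegral π›
      exact Groth.Abvar.isIntegral_left (Over.mk π)
    have h00 := Groth.Curves1.RR.h0_eq_one_of_deg_eq_one (k := K) hdim.le L hd
    rw [fiberRank_specField π hL 0 pt] at hpos ⊢
    have : Nontrivial (Coh.HH (PicF.XT f T) L 0) := Module.nontrivial_of_finrank_pos hpos
    have h2 := (Groth.Curves1.RR.h0_le_deg_add_one (k := K) hdim.le h00 hL ‹_›).2
    by_contra hne
    have h3 := Groth.Curves1.RR.genus_eq_zero_of_h0_eq (k := K) hdim.le h00 hL (by omega) (by omega)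
    omega
  have hL1 : CohIII.fiberRank π L 1 pt = n := by
    letI : (π.fiber pt).Over (Spec (CommRingCat.of (T.left.residueField pt))) :=
      ⟨π.fiberToSpecResidueField pt⟩
    rw [degC_cls, fibEuler_eq_sub π (hf.dim_fiber T), fibEuler_structure, hL0] at hdeg
    rw [show Curv2.euler _ _ _ = _ from hf.euler_fiber T pt, hn] at hdeg
    push_cast at hdeg
    omega
  rw [← hcl]
  exact exists_good_extend hf s (by omega) hσ n (cls hL) ⟨L, hL, rfl, hL0, hL1⟩

end Extend

include hf in
/-- Points with linearly equivalent divisors are equal. -/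
theorem eq_of_ajPt_eq (hg : 0 < genus f) {T : Over (Spec (CommRingCat.of k))}
    (a b : T ⟶ Over.mk f) (h : ajPt σ hσ hf a = ajPt σ hσ hf b) : a = b := by
  have := hf.proper
  have := hf.smooth
  have := hf.smoothOne
  obtain ⟨n, hn⟩ := Nat.exists_eq_succ_of_ne_zero hg.ne'
  obtain ⟨H, Z, hZ, hHp, hHs⟩ := Groth.CurveDiv.exists_proper_smooth k X f hf.curve n
  let T' : Over (Spec (CommRingCat.of k)) := Over.mk (pullback.fst T.hom H.hom ≫ T.hom)
  let pT : T' ⟶ T := Over.homMk (pullback.fst T.hom H.hom) rfl
  let pH : T' ⟶ H := Over.homMk (pullback.snd T.hom H.hom) pullback.condition.symm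
  have := hf.smoothOne_proj T'
  let mk : (T ⟶ Over.mk f) → HilbD.Obj f (genus f) T' := fun x =>
    ⟨(ptD hf (pT ≫ x)).1 * (pullObj pH Z).1, by
      have := Groth.CurveDiv.isFinLocFreeOfDeg_mul (PicF.XTproj f T') (ptD hf (pT ≫ x)).2
        (pullObj pH Z).2
      rwa [show (1 + n) = genus f by omega] at this⟩
  have hmk : ∀ x, dC hf (mk x) = clsPt hf (pT ≫ x) * dC hf (pullObj pH Z) := fun x =>
    dC_mul hf _ _ _ rfl
  let G : T'.left.Opens := goodOpens f hf (dC hf (mk a))
  let jG : Over.mk (G.ι ≫ T'.hom) ⟶ T' := Over.homMk G.ι rfl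
  let c := jG ≫ pT
  have : Flat (pullback.fst T.hom H.hom) := MorphismProperty.pullback_fst (P := @Flat) _ _ inferInstance
  have : LocallyOfFinitePresentation (pullback.fst T.hom H.hom) :=
    MorphismProperty.pullback_fst (P := @LocallyOfFinitePresentation) _ _ inferInstance
  have hcl : c.left = G.ι ≫ pullback.fst T.hom H.hom := rfl
  have : Flat c.left := by rw [hcl]; infer_instance
  have : LocallyOfFinitePresentation c.left := by rw [hcl]; infer_instance
  have : Surjective c.left := ⟨fun t => by
    let K : Type u := AlgebraicClosure (T.left.residueField t)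
    let q : Spec (CommRingCat.of K) ⟶ T.left :=
      Spec.map (CommRingCat.ofHom (algebraMap (T.left.residueField t) K)) ≫
        T.left.fromSpecResidueField t
    have hq : q (IsLocalRing.closedPoint K) = t := by
      rw [Scheme.Hom.comp_apply]
      exact Scheme.fromSpecResidueField_apply t _
    let TK : Over (Spec (CommRingCat.of k)) := Over.mk (q ≫ T.hom)
    let qo : TK ⟶ T := Over.homMk q rfl
    obtain ⟨z, hz⟩ := exists_good_through hf (σ := σ) (q ≫ T.hom) hσ hn (qo ≫ a)
    obtain ⟨e, he, -⟩ := hZ TK (sumD hf z)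
    let w : TK ⟶ T' := Over.homMk (pullback.lift q e.left (Over.w e).symm) (by
      show pullback.lift _ _ _ ≫ pullback.fst T.hom H.hom ≫ T.hom = _
      rw [pullback.lift_fst_assoc]
      rfl)
    have hw₁ : w ≫ pT = qo := Over.OverMorphism.ext (pullback.lift_fst _ _ _)
    have hw₂ : w ≫ pH = e := Over.OverMorphism.ext (pullback.lift_snd _ _ _)
    have hmem : w.left (IsLocalRing.closedPoint K) ∈ G := by
      show GoodC _ (dC hf (mk a)) _
      rw [← goodC_map_iff hf w, hmk, map_mul, pull_clsPt, ← Category.assoc, hw₁, pull_dC hf,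
        dC_congr hf (W' := sumD hf z) (by
          show HilbD.pull f w (HilbD.pull f pH Z.1) = (sumD hf z).1
          rw [Groth.HilbPts.pull_pull, hw₂, he]), dC_sumD]
      exact hz
    refine ⟨⟨_, hmem⟩, ?_⟩
    show pullback.fst T.hom H.hom (w.left (IsLocalRing.closedPoint K)) = t
    refine (Scheme.Hom.comp_apply _ _ _).symm.trans ?_
    rw [show w.left ≫ pullback.fst T.hom H.hom = q from congrArg (fun m => m.left) hw₁]
    exact hq⟩
  have hgood : ∀ z, GoodC (PicF.XTproj f _) (dC hf (pullObj jG (mk a))) z := fun z => by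
    rw [← pull_dC hf, goodC_map_iff hf]
    exact z.2
  have hnorm : norm f σ hσ _ (dC hf (pullObj jG (mk a))) =
      norm f σ hσ _ (dC hf (pullObj jG (mk b))) := by
    have hab : normHom σ hσ T (clsPt hf a) = normHom σ hσ T (clsPt hf b) := by
      have h1 := congrArg Subtype.val h
      change normHom σ hσ T (clsPt hf a * _) = normHom σ hσ T (clsPt hf b * _) at h1
      rw [map_mul, map_mul] at h1
      exact mul_right_cancel h1
    have hab' : ∀ {R : Over (Spec (CommRingCat.of k))} (r : R ⟶ T),
        normHom σ hσ R (clsPt hf (r ≫ a)) = normHom σ hσ R (clsPt hf (r ≫ b)) := fun r => by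
      rw [← pull_clsPt, ← pull_clsPt]
      refine Eq.trans ?_ ((congrArg (pull (PicF.XTmap f r)) hab).trans ?_)
      · exact (congrArg Subtype.val (norm_map r _)).symm
      · exact congrArg Subtype.val (norm_map r _)
    apply Subtype.ext
    show normHom σ hσ _ _ = normHom σ hσ _ _
    rw [← pull_dC hf, ← pull_dC hf, hmk, hmk, map_mul, map_mul (pull (PicF.XTmap f jG)),
      map_mul (normHom σ hσ _), map_mul (normHom σ hσ _), pull_clsPt, pull_clsPt,
      ← Category.assoc, hab', Category.assoc]
  have heq := eq_of_norm_eq (σ := σ) (hσ := hσ) hf hgood hnorm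
  have hca : c ≫ a = c ≫ b := by
    have := hf.smoothOne_proj (Over.mk (G.ι ≫ T'.hom))
    change HilbD.pull f jG (gr (pT ≫ a) * _) = HilbD.pull f jG (gr (pT ≫ b) * _) at heq
    rw [Groth.CurveDiv.pull_mul, Groth.CurveDiv.pull_mul, pull_gr, pull_gr, mul_comm,
      mul_comm (gr (jG ≫ pT ≫ b))] at heq
    have h1 := Groth.CurveDiv.cancel (PicF.XTproj f _) (pullObj jG (pullObj pH Z)).2 heq
    refine Over.OverMorphism.ext ?_
    have h2 := Groth.HilbPts.secGraph_injective f h1
    simpa [c] using h2
  exact Over.OverMorphism.ext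
    ((cancel_epi c.left).1 (congrArg (fun z : Over.mk (G.ι ≫ T'.hom) ⟶ Over.mk f => z.left) hca))

variable {J : Over (Spec (CommRingCat.of k))} [GrpObj J] [IsCommMonObj J] [IsSeparated J.hom]

include hf in
/-- The Abel map is a closed immersion. -/
theorem isClosedImmersion_abel (hg : 0 < genus f)
    (e : ∀ T : Over (Spec (CommRingCat.of k)), (T ⟶ J) ≃ zeroClasses hf σ hσ T)
    (hnat : ∀ (T T' : Over (Spec (CommRingCat.of k))) (g : T' ⟶ T) (h : T ⟶ J),
      (e T' (g ≫ h)).1 = pull (PicF.XTmap f g) (e T h).1) :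
    IsClosedImmersion (abel e).left := by
  have := hf.proper
  let j := abel e
  have hw : j.left ≫ J.hom = f := Over.w j
  have : IsProper (j.left ≫ J.hom) := by rw [hw]; infer_instance
  have : IsProper j.left := IsProper.of_comp j.left J.hom
  refine (IsClosedImmersion.iff_isProper_and_mono j.left).2 ⟨‹_›, ⟨fun {Y} g₁ g₂ hg12 => ?_⟩⟩
  let T : Over (Spec (CommRingCat.of k)) := Over.mk (g₁ ≫ f)
  let a : T ⟶ Over.mk f := Over.homMk g₁ rfl
  let b : T ⟶ Over.mk f := Over.homMk g₂ (by
    show g₂ ≫ f = g₁ ≫ f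
    rw [← hw, ← reassoc_of% hg12])
  have hab : a ≫ j = b ≫ j := Over.OverMorphism.ext hg12
  have := eq_of_ajPt_eq hf hg a b (by rw [← e_comp_abel e hnat, ← e_comp_abel e hnat, hab])
  exact congrArg (fun z : T ⟶ Over.mk f => z.left) this

include hf in
/-- A pointed curve of positive genus embeds in an abelian variety, the base point at the origin. -/
theorem exists_closedImmersion_group (hg : 0 < genus f) :
    ∃ (A : Over (Spec (CommRingCat.of k))) (_ : GrpObj A) (j : Over.mk f ⟶ A),
      IsProper A.hom ∧ GeometricallyIntegral A.hom ∧ IsClosedImmersion j.left ∧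
      zSec σ hσ (𝟙_ _) ≫ j = η[A] := by
  obtain ⟨A, r, hp, hs, hi⟩ := exists_jacobian (hσ := hσ) hf
  let e : ∀ T : Over (Spec (CommRingCat.of k)), (T ⟶ A) ≃ zeroClasses hf σ hσ T := fun _ =>
    r.homEquiv
  have hnat : ∀ (T T' : Over (Spec (CommRingCat.of k))) (g : T' ⟶ T) (h : T ⟶ A),
      (e T' (g ≫ h)).1 = pull (PicF.XTmap f g) (e T h).1 := fun T T' g h => by
    show (show zeroClasses hf σ hσ T' from r.homEquiv (g ≫ h)).1 = _
    rw [r.homEquiv_comp]
    rfl
  obtain ⟨hG, hC, hmul⟩ := Groth.ModelsGraphs.PicDim.exists_grpObj_of_points (J := A)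
    (A := fun T => zeroClasses hf σ hσ T) e (fun {T T'} g => resZ hf g)
    (fun g h => Subtype.ext (hnat _ _ g h))
  have : GeometricallyReduced A.hom :=
    Groth.GrpschAbsch.FibreFlat.geometricallyReduced_of_smooth A.hom
  refine ⟨A, hG, abel e, hp,
    GeometricallyIntegral.of_geometricallyReduced_of_geometricallyIrreducible A.hom,
    isClosedImmersion_abel hf hg e hnat, (e _).injective ?_⟩
  rw [e_comp_abel e hnat, ajPt_zero, show (η[A] : 𝟙_ _ ⟶ A) = 1 by
    rw [Hom.one_def, toUnit_unique (toUnit (𝟙_ _)) (𝟙 _), Category.id_comp], e_one e hmul]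

end Groth.PicField
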