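import Groth.Agent.PicField.JacobianAlbanese
import Groth.Agent.Abvar.Rigidity
import Groth.Agent.LimitMod.FibreFunctions
import Groth.Agent.PicAux.FibTrivClosed
import Groth.Prelude.Def_Jac
import Mathlib

/-!
# Homomorphisms of Jacobians and divisorial correspondences
-/

set_option autoImplicit false
set_option linter.style.haveILetI false

universe u

open CategoryTheory CategoryTheory.Limits MonoidalCategory CartesianMonoidalCategory MonObj
  AlgebraicGeometry TopologicalSpace Opposite
open Groth.Abvar.PicCalc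
open Groth.ModelsGraphs.PicDim (zeroClasses zeroClasses_map degC_map)

set_option maxHeartbeats 1600000
set_option backward.isDefEq.respectTransparency false
set_option backward.defeqAttrib.useBackward true
set_option backward.isDefEq.respectTransparency.types false

noncomputable section

namespace Groth.PicField

open Groth.PicCurve Groth.DivNorm

theorem isTrivialCl_iff {Y : Scheme.{u}} {L : Y.Modules} (hL : PicF.IsInvertible L) :
    PicF.IsTrivialCl (PicF.cl L) ↔ cls hL = 1 := by
  rw [PicF.IsTrivialCl, PicGrp.cl_eq_cl_iff, nonempty_iso_structure_iff hL]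

/-- The degree of a class is locally constant in flat families. -/
theorem isLocallyConstant_degC_flat {Y T : Scheme.{u}} (π : Y ⟶ T) [IsProper π] [Flat π]
    [LocallyOfFinitePresentation π] (c : PicLoc.PicSet Y) : IsLocallyConstant (degC π c) := by
  obtain ⟨L, hL, rfl⟩ := PicGrp.exists_eq_cls c
  have h : ∀ M : Y.Modules, PicF.IsInvertible M →
      IsLocallyConstant (fun t : T => PicCurve.fibEuler π M t) := fun M hM =>
    LimitMod.isLocallyConstant_eulerChar π M (PicAux.FibTrivClosed.isFP_of_isInvertible hM)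
      (Abvar.Seesaw.isFlatOver_of_isInvertible _ hM)
  rw [funext (degC_cls π hL)]
  exact (h L hL).comp₂ (h _ (PicLoc.isInvertible_structureModule _)) (· - ·)

variable {k : Type u} [Field k] {X : Scheme.{u}} {f : X ⟶ Spec (CommRingCat.of k)}
  {σ : Spec (CommRingCat.of k) ⟶ X} {hσ : σ ≫ f = 𝟙 (Spec (CommRingCat.of k))}

/-- A rigidified class on a connected base, trivial at one rational point, has degree zero. -/
theorem mem_zeroClasses_of_connected (hf : IsPtCurve f) {T : Over (Spec (CommRingCat.of k))}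
    [PreconnectedSpace T.left] (p : 𝟙_ (Over (Spec (CommRingCat.of k))) ⟶ T)
    {c : PicLoc.PicSet (PicF.XT f T)} (hc : pull (PicF.secT f σ hσ T) c = 1)
    (hp : pull (PicF.XTmap f p) c = 1) : c ∈ zeroClasses hf σ hσ T := by
  refine ⟨hc, fun t => ?_⟩
  have := hf.isProper_proj T
  have := hf.smoothOne_proj T
  have : SmoothOfRelativeDimension 1 (PicF.XTproj f T) := inferInstance
  have : Smooth (PicF.XTproj f T) := SmoothOfRelativeDimension.smooth 1 _
  let o : (𝟙_ (Over (Spec (CommRingCat.of k)))).left := IsLocalRing.closedPoint k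
  rw [(isLocallyConstant_degC_flat (PicF.XTproj f T) c).apply_eq_of_preconnectedSpace t (p.left o),
    ← degC_map hf p c o, hp, degC_one]

variable {J : Over (Spec (CommRingCat.of k))}

/-- The class of a normalised universal family is the class of the identity. -/
theorem cls_univ (hf : IsPtCurve f) (ψ : (ModFun.PicDeg f 0).Hom ⊤ J)
    (e : ∀ T : Over (Spec (CommRingCat.of k)), (T ⟶ J) ≃ zeroClasses hf σ hσ T)
    (hψ : ∀ (T : Over (Spec (CommRingCat.of k))) (hT : (⊤ : ObjectProperty (Over _)) T)
      (L : (ModFun.PicDeg f 0).Fam T) (hL : (ModFun.PicDeg f 0).ok T L),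
      (e T (ψ.app T L hT hL)).1 = (PicCurve.norm f σ hσ T (cls ((ok_iff hf 0 T L).1 hL).1)).1)
    {Pu : (PicF.XT f J).Modules} (hok : (ModFun.PicDeg f 0).ok J Pu)
    (hPn : Jac.IsNormAlong f σ hσ J Pu) (hT : (⊤ : ObjectProperty (Over _)) J)
    (hPuψ : ψ.app J Pu hT hok = 𝟙 J) :
    cls ((ok_iff hf 0 J Pu).1 hok).1 = (e J (𝟙 J)).1 := by
  have hi := ((ok_iff hf 0 J Pu).1 hok).1
  rw [← hPuψ, hψ]
  refine (congrArg Subtype.val (norm_self (⟨cls hi, ?_⟩ : RS f σ hσ J))).symm
  rw [pull_cls]
  exact (isTrivialCl_iff _).1 hPn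

variable {hf : IsPtCurve f}
  (e : ∀ T : Over (Spec (CommRingCat.of k)), (T ⟶ J) ≃ zeroClasses hf σ hσ T)
  (hnat : ∀ (T T' : Over (Spec (CommRingCat.of k))) (g : T' ⟶ T) (h : T ⟶ J),
    (e T' (g ≫ h)).1 = pull (PicF.XTmap f g) (e T h).1)

include hnat in
theorem pull_univ {T : Over (Spec (CommRingCat.of k))} (g : T ⟶ J) :
    pull (PicF.XTmap f g) (e J (𝟙 J)).1 = (e T g).1 := by
  rw [← hnat, Category.comp_id]

end Groth.PicField
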