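import Groth.Agent.PicField.SymImage
import Groth.Agent.PicField.Correspondence
import Groth.Agent.CurveBridge.Omega
import Groth.Agent.CurveBridge.CliffordEquality
import Groth.Prelude.Def_Jac
import Mathlib

/-!
# The canonical point of the Jacobian
-/

set_option autoImplicit false
set_option linter.style.haveILetI false

universe u

open CategoryTheory CategoryTheory.Limits MonoidalCategory CartesianMonoidalCategory MonObj
  AlgebraicGeometry TopologicalSpace Opposite
open Groth.Abvar.PicCalc Groth.CurveBridge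
open Groth.ModelsGraphs.PicDim (zeroClasses)

set_option maxHeartbeats 1600000
set_option backward.isDefEq.respectTransparency false
set_option backward.defeqAttrib.useBackward true
set_option backward.isDefEq.respectTransparency.types false

noncomputable section

namespace Groth.PicField

open Groth.PicCurve Groth.DivNorm

variable {k : Type u} [Field k] {X : Scheme.{u}} [X.Over (Spec (CommRingCat.of k))]
  [IsProper (X ↘ Spec (CommRingCat.of k))] [IsIntegral X] {h : IsRegCurve X}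

/-- The ideal of a rational point has minus the point as a divisor. -/
theorem isDivCls_section (x : 𝟙_ _ ⟶ Over.mk (X ↘ Spec (CommRingCat.of k)))
    (s : Spec (CommRingCat.of k) ⟶ X) (hw : s ≫ (X ↘ Spec (CommRingCat.of k)) = 𝟙 _)
    (hs : x.left = s) (hi : PicF.IsInvertible (ClSub.idealMod s.ker)) :
    IsDivCls k h (cls hi) (-(Finsupp.single (plOf h x) 1)) := by
  obtain ⟨y, hy, -, hker⟩ := Groth.Agent.S17807.exists_point k X h s hw
  obtain ⟨-, χ, hχ⟩ := exists_divEmb_pointIdeal (k := k) h y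
  have : ∀ I, I = Scheme.IdealSheafData.vanishingIdeal ⟨{y.1}, y.2⟩ →
      ∀ hJ : PicF.IsInvertible (ClSub.idealMod I),
      IsDivCls k h (cls hJ) (-(Finsupp.single (placeAt (k := k) h y) 1)) := by
    rintro I rfl hJ
    exact ⟨_, hJ, χ, rfl, hχ⟩
  rw [plOf_eq (h := h) x y (by rw [hs]; exact hy _)]
  exact this _ hker hi

theorem IsDivCls.pow {c : PicLoc.PicSet X} {D : FunFld.Divisor k X.functionField}
    (hK : FunFld.IsFunctionField k X.functionField) (hc : IsDivCls k h c D) :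
    ∀ n : ℕ, IsDivCls k h (c ^ n) (n • D) := by
  intro n
  induction n with
  | zero => simpa using isDivCls_one hK
  | succ n ih =>
    rw [pow_succ, succ_nsmul]
    exact ih.mul hc

variable [IsAlgClosed k] [Smooth (X ↘ Spec (CommRingCat.of k))]
  {σ : Spec (CommRingCat.of k) ⟶ X}
  {hσ : σ ≫ (X ↘ Spec (CommRingCat.of k)) = 𝟙 (Spec (CommRingCat.of k))}
  {hf : IsPtCurve (X ↘ Spec (CommRingCat.of k))}
  {J : Over (Spec (CommRingCat.of k))}
  (e : ∀ T : Over (Spec (CommRingCat.of k)), (T ⟶ J) ≃ zeroClasses hf σ hσ T)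

/-- The point of `Ω ⊗ I_P^{2g−2}` has divisor a canonical one minus a multiple of the base point. -/
theorem exists_canonical_isPtDiv (hK : FunFld.IsFunctionField k X.functionField) (m : ℕ)
    (ψ : (ModFun.PicDeg (X ↘ Spec (CommRingCat.of k)) 0).Hom ⊤ J)
    (hψ : ∀ (T : Over (Spec (CommRingCat.of k))) (hT : (⊤ : ObjectProperty (Over _)) T)
      (L : (ModFun.PicDeg (X ↘ Spec (CommRingCat.of k)) 0).Fam T)
      (hL : (ModFun.PicDeg (X ↘ Spec (CommRingCat.of k)) 0).ok T L),
      (e T (ψ.app T L hT hL)).1 =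
        (PicCurve.norm (X ↘ Spec (CommRingCat.of k)) σ hσ T (cls ((ok_iff hf 0 T L).1 hL).1)).1)
    (Kf : (PicF.XT (X ↘ Spec (CommRingCat.of k)) (𝟙_ (Over (Spec (CommRingCat.of k))))).Modules)
    (hKf : Nonempty (Kf ≅ (Scheme.Modules.pullback (pullback.fst (X ↘ Spec (CommRingCat.of k))
      (𝟙_ (Over (Spec (CommRingCat.of k)))).hom)).obj
      (CohB1.tensorMod (Omega.sheaf (X ↘ Spec (CommRingCat.of k)))
        (CohB1.tensorPow (ClSub.idealMod σ.ker) m))))
    (hT₁ : (⊤ : ObjectProperty (Over (Spec (CommRingCat.of k))))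
      (𝟙_ (Over (Spec (CommRingCat.of k)))))
    (hKok : (ModFun.PicDeg (X ↘ Spec (CommRingCat.of k)) 0).ok
      (𝟙_ (Over (Spec (CommRingCat.of k)))) Kf)
    (κ : 𝟙_ (Over (Spec (CommRingCat.of k))) ⟶ J)
    (hκ : ψ.app (𝟙_ (Over (Spec (CommRingCat.of k)))) Kf hT₁ hKok = κ) :
    ∃ C₀ : FunFld.Divisor k X.functionField, FunFld.IsCanonical k X.functionField C₀ ∧
      IsPtDiv h e κ (C₀ - m • Finsupp.single (plOf h (zSec σ hσ (𝟙_ _))) 1) := by
  let f := X ↘ Spec (CommRingCat.of k)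
  let T := 𝟙_ (Over (Spec (CommRingCat.of k)))
  haveI : Subsingleton T.left := inferInstanceAs (Subsingleton (PrimeSpectrum k))
  have := hf.smoothOne
  have hΩ : PicF.IsInvertible (Omega.sheaf f) := Groth.CurveBridge.isInvertible_omega (X := X) hK
  obtain ⟨φ, C₀, hφ, hl0, hd0, -⟩ := exists_divEmb h hK hΩ
  obtain ⟨h0, -, hd⟩ := omega_numerics (k := k) h
  have hC : FunFld.IsCanonical k X.functionField C₀ :=
    (Groth.FunFld1.isCanonical_iff hK C₀).2
      ⟨by rw [← Groth.CurveBridge.genus_eq h hK, ← hl0]; exact h0,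
        by rw [← Groth.CurveBridge.genus_eq h hK, ← hd0]; exact hd⟩
  refine ⟨C₀, hC, ?_⟩
  have hI : BlowUp.IsEffCartierIdeal σ.ker := (Groth.Agent.S15990.result f σ hσ).1
  have hiσ := Groth.PicAux.isInvertible_idealMod hI
  have hM := isInvertible_tensorMod hΩ (isInvertible_tensorPow hiσ m)
  have hKi := ((ok_iff hf 0 T Kf).1 hKok).1
  have h1 : cls hKi = pull (pullback.fst f T.hom) (cls hM) := by
    rw [pull_cls]
    exact (nonempty_iso_iff _ _).1 hKf
  unfold IsPtDiv
  rw [← hκ, hψ]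
  show IsDivCls k h (pull toPtFibre (_ * (pull _ (pull _ _))⁻¹)) _
  rw [eq_one_of_subsingleton (pull (PicF.secT f σ hσ T) _), map_one, inv_one, _root_.mul_one, h1,
    ← pull_comp, show toPtFibre ≫ pullback.fst f T.hom = 𝟙 X from pullback.lift_fst _ _ _, pull_id,
    cls_tensorMod hΩ (isInvertible_tensorPow hiσ m), cls_tensorPow hiσ m, sub_eq_add_neg, ← neg_nsmul]
  exact IsDivCls.mul ⟨_, hΩ, φ, rfl, hφ⟩
    ((isDivCls_section (h := h) _ σ hσ (Category.id_comp σ) hiσ).pow hK m)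

variable {e} [GrpObj J] [IsCommMonObj J]
  (hK : FunFld.IsFunctionField k X.functionField)
  (hnat : ∀ (T T' : Over (Spec (CommRingCat.of k))) (g : T' ⟶ T) (h : T ⟶ J),
    (e T' (g ≫ h)).1 = pull (PicF.XTmap (X ↘ Spec (CommRingCat.of k)) g) (e T h).1)
  (hmul : ∀ (T : Over (Spec (CommRingCat.of k))) (g h : T ⟶ J), e T (g * h) = e T g * e T h)

omit [Smooth (X ↘ Spec (CommRingCat.of k))] in
include hK hnat hmul in
/-- A point is a sum of `n` points exactly when its class twisted by `n P` is effective. -/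
theorem exists_eq_prod_iff {n : ℕ} {z : 𝟙_ _ ⟶ J} {A : FunFld.Divisor k X.functionField}
    (hz : IsPtDiv h e z A)
    (hd : (A + n • Finsupp.single (plOf h (zSec σ hσ (𝟙_ _))) 1).deg = (n : ℤ)) :
    (∃ y : Fin n → (𝟙_ _ ⟶ Over.mk (X ↘ Spec (CommRingCat.of k))), z = ∏ i, y i ≫ abel e) ↔
      1 ≤ FunFld.ell (A + n • Finsupp.single (plOf h (zSec σ hσ (𝟙_ _))) 1) := by
  have hF := Groth.FunFld1.IsFF.of_isFunctionField hK
  constructor
  · rintro ⟨y, rfl⟩
    obtain ⟨w, hw, he⟩ := IsDivCls.linEquiv hK hz (isPtDiv_prod (h := h) hK hmul hnat y)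
    rw [sub_eq_iff_eq_add, add_right_comm] at he
    rw [← Groth.FunFld1.IsFF.ell_add_div hF _ hw, ← he]
    exact one_le_ell hK (Finset.sum_nonneg fun i _ => Finsupp.single_nonneg.mpr zero_le_one)
  · intro hl
    obtain ⟨Q, w, hw, hQ⟩ := exists_points_of_one_le_ell hK hd hl
    choose y hy using fun i => plOf_surjective (h := h) (Q i)
    refine ⟨y, IsPtDiv.eq hK hz (isPtDiv_prod hK hmul hnat y) hw ?_⟩
    simp only [hy, hQ]
    abel

omit [IsProper (X ↘ Spec (CommRingCat.of k))] [Smooth (X ↘ Spec (CommRingCat.of k))] in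
theorem deg_sum_single (hF : Groth.FunFld1.IsFF k X.functionField) : ∀ {n : ℕ}
    (P : Fin n → FunFld.Place k X.functionField),
    (∑ i, Finsupp.single (P i) 1 : FunFld.Divisor k X.functionField).deg = n := by
  intro n
  induction n with
  | zero => intro P; rw [Finset.univ_eq_empty, Finset.sum_empty, Groth.FunFld1.deg_zero]; rfl
  | succ n ih =>
    intro P
    rw [Fin.sum_univ_succ, Groth.FunFld1.deg_add, ih, Groth.FunFld1.deg_single,
      Groth.FunFld1.deg_eq_one_of_isAlgClosed hF]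
    push_cast; ring

variable {C₀ : FunFld.Divisor k X.functionField} (hC : FunFld.IsCanonical k X.functionField C₀)
  {κ : 𝟙_ (Over (Spec (CommRingCat.of k))) ⟶ J} {g : ℕ}
  (hg : FunFld.genus k X.functionField = g)
  (hκ : IsPtDiv h e κ (C₀ - (2 * g - 2) • Finsupp.single (plOf h (zSec σ hσ (𝟙_ _))) 1))

omit [Smooth (X ↘ Spec (CommRingCat.of k))] in
include hK hnat hmul hC hg hκ in
/-- The theta divisor is stable under the reflection in the canonical point. -/
theorem exists_reflect (hg1 : 1 ≤ g)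
    (y : Fin (g - 1) → (𝟙_ _ ⟶ Over.mk (X ↘ Spec (CommRingCat.of k)))) :
    ∃ y' : Fin (g - 1) → (𝟙_ _ ⟶ Over.mk (X ↘ Spec (CommRingCat.of k))),
      κ * (∏ i, y i ≫ abel e)⁻¹ = ∏ i, y' i ≫ abel e := by
  have hF := Groth.FunFld1.IsFF.of_isFunctionField hK
  have hA := hκ.mul hmul ((isPtDiv_prod (h := h) hK hmul hnat y).inv hK hmul)
  set S : FunFld.Divisor k X.functionField := ∑ i, Finsupp.single (plOf h (y i)) 1 with hS
  have e1 : C₀ - (2 * g - 2) • Finsupp.single (plOf h (zSec σ hσ (𝟙_ _))) 1 +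
      -(S - (g - 1) • Finsupp.single (plOf h (zSec σ hσ (𝟙_ _))) 1) +
      (g - 1) • Finsupp.single (plOf h (zSec σ hσ (𝟙_ _))) 1 = C₀ - S := by
    rw [show 2 * g - 2 = (g - 1) + (g - 1) by omega, add_nsmul]
    abel
  have hd : (C₀ - S).deg = ((g - 1 : ℕ) : ℤ) := by
    rw [Groth.FunFld1.deg_sub, hS, deg_sum_single hF, Groth.FunFld1.deg_canonical hK hC, hg]
    omega
  refine (exists_eq_prod_iff hK hnat hmul hA (by rw [e1]; exact hd)).2 ?_
  rw [e1]
  have hr := Groth.FunFld1.riemann_roch hK hC S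
  have h1 := one_le_ell hK (D := S) (Finset.sum_nonneg fun i _ => Finsupp.single_nonneg.mpr zero_le_one)
  rw [hS, deg_sum_single hF, hg, ← hS] at hr
  omega

omit [Smooth (X ↘ Spec (CommRingCat.of k))] in
include hK hnat hmul hC hg hκ in
/-- The two pieces of a residual intersection, one inclusion. -/
theorem exists_of_reflect {r s : ℕ} (hrs : r + s + 2 = g + 1) (hg2 : 2 ≤ g)
    (p : 𝟙_ _ ⟶ Over.mk (X ↘ Spec (CommRingCat.of k)))
    (u : Fin (r + 1) → (𝟙_ _ ⟶ Over.mk (X ↘ Spec (CommRingCat.of k))))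
    (q : Fin s → (𝟙_ _ ⟶ Over.mk (X ↘ Spec (CommRingCat.of k))))
    (w : Fin (g - 2) → (𝟙_ _ ⟶ Over.mk (X ↘ Spec (CommRingCat.of k))))
    (he : (∏ i, u i ≫ abel e) * (∏ i, q i ≫ abel e) * ∏ i, w i ≫ abel e = κ) :
    ∃ v : Fin (g - 1) → (𝟙_ _ ⟶ Over.mk (X ↘ Spec (CommRingCat.of k))),
      (∏ i, u i ≫ abel e) * (∏ i, q i ≫ abel e) * (p ≫ abel e)⁻¹ = ∏ i, v i ≫ abel e := by
  have hF := Groth.FunFld1.IsFF.of_isFunctionField hK
  set P₀ : FunFld.Divisor k X.functionField :=
    Finsupp.single (plOf h (zSec σ hσ (𝟙_ _))) 1 with hP₀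
  set D : FunFld.Divisor k X.functionField :=
    (∑ i, Finsupp.single (plOf h (u i)) 1) + ∑ i, Finsupp.single (plOf h (q i)) 1 with hD
  set S : FunFld.Divisor k X.functionField := ∑ i, Finsupp.single (plOf h (w i)) 1 with hS
  have hdD : D.deg = g := by
    rw [hD, Groth.FunFld1.deg_add, deg_sum_single hF, deg_sum_single hF]; omega
  have h1 := ((isPtDiv_prod (h := h) hK hmul hnat u).mul hmul (isPtDiv_prod (h := h) hK hmul hnat q)).mul hmul
    (isPtDiv_prod (h := h) hK hmul hnat w)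
  rw [he] at h1
  obtain ⟨m₀, hm, hc⟩ := IsDivCls.linEquiv hK h1 hκ
  rw [← hP₀, ← hS, show 2 * g - 2 = (r + 1) + s + (g - 2) by omega] at hc
  have hc' : C₀ - D = S + FunFld.div k m₀ := by
    rw [sub_eq_iff_eq_add] at hc
    simp only [add_nsmul, one_nsmul] at hc
    rw [hD, hc]
    abel
  have hr := Groth.FunFld1.riemann_roch hK hC D
  rw [hc', hF.ell_add_div _ hm, hdD, hg] at hr
  have hS1 := one_le_ell hK (D := S) (Finset.sum_nonneg fun i _ => Finsupp.single_nonneg.mpr zero_le_one)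
  have hdrop := Groth.CurveBridge.CliffordEquality.ell_le_sub_single hK hC D (plOf h p)
  have e1 : (∑ i, Finsupp.single (plOf h (u i)) 1 - (r + 1) • P₀) +
      (∑ i, Finsupp.single (plOf h (q i)) 1 - s • P₀) + -(Finsupp.single (plOf h p) 1 - P₀) +
      (g - 1) • P₀ = D - Finsupp.single (plOf h p) 1 := by
    have h2 : (r + 1) • P₀ + s • P₀ = (g - 1) • P₀ + P₀ := by
      rw [← add_nsmul, ← succ_nsmul]; congr 1; omega
    rw [hD, show (g - 1) • P₀ = (r + 1) • P₀ + s • P₀ - P₀ by rw [h2]; abel]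
    abel
  refine (exists_eq_prod_iff hK hnat hmul
    (((isPtDiv_prod (h := h) hK hmul hnat u).mul hmul (isPtDiv_prod (h := h) hK hmul hnat q)).mul hmul
      ((isPtDiv_abel (h := h) hK hnat p).inv hK hmul)) ?_).2 ?_
  · rw [e1, Groth.FunFld1.deg_sub, hdD, Groth.FunFld1.deg_single,
      Groth.FunFld1.deg_eq_one_of_isAlgClosed hF]
    push_cast
    omega
  · rw [e1]; omega

omit [Smooth (X ↘ Spec (CommRingCat.of k))] in
include hK hnat hmul hC hg hκ in
/-- The two pieces of a residual intersection, the other inclusion. -/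
theorem mem_or_reflect {r s : ℕ} (hrs : r + s + 2 = g + 1) (hg2 : 2 ≤ g)
    (p : 𝟙_ _ ⟶ Over.mk (X ↘ Spec (CommRingCat.of k)))
    (u : Fin (r + 1) → (𝟙_ _ ⟶ Over.mk (X ↘ Spec (CommRingCat.of k))))
    (q : Fin s → (𝟙_ _ ⟶ Over.mk (X ↘ Spec (CommRingCat.of k))))
    (v : Fin (g - 1) → (𝟙_ _ ⟶ Over.mk (X ↘ Spec (CommRingCat.of k))))
    (he : (∏ i, u i ≫ abel e) * (∏ i, q i ≫ abel e) = (p ≫ abel e) * ∏ i, v i ≫ abel e) :
    (∃ w : Fin (g - 2) → (𝟙_ _ ⟶ Over.mk (X ↘ Spec (CommRingCat.of k))),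
        (∏ i, u i ≫ abel e) * (∏ i, q i ≫ abel e) * ∏ i, w i ≫ abel e = κ) ∨
      (∃ i, u i = p) ∨ ∃ i, q i = p := by
  classical
  have hF := Groth.FunFld1.IsFF.of_isFunctionField hK
  set P₀ : FunFld.Divisor k X.functionField :=
    Finsupp.single (plOf h (zSec σ hσ (𝟙_ _))) 1 with hP₀
  set D : FunFld.Divisor k X.functionField :=
    (∑ i, Finsupp.single (plOf h (u i)) 1) + ∑ i, Finsupp.single (plOf h (q i)) 1 with hD
  set V : FunFld.Divisor k X.functionField :=
    Finsupp.single (plOf h p) 1 + ∑ i, Finsupp.single (plOf h (v i)) 1 with hV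
  have hdD : D.deg = g := by
    rw [hD, Groth.FunFld1.deg_add, deg_sum_single hF, deg_sum_single hF]; omega
  have huq := (isPtDiv_prod (h := h) hK hmul hnat u).mul hmul (isPtDiv_prod (h := h) hK hmul hnat q)
  by_cases hl : 2 ≤ FunFld.ell D
  · left
    have e1 : C₀ - (2 * g - 2) • P₀ + -((∑ i, Finsupp.single (plOf h (u i)) 1 - (r + 1) • P₀) +
        (∑ i, Finsupp.single (plOf h (q i)) 1 - s • P₀)) + (g - 2) • P₀ = C₀ - D := by
      rw [hD, show 2 * g - 2 = (r + 1) + s + (g - 2) by omega, add_nsmul, add_nsmul]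
      abel
    have hd : (C₀ - D).deg = ((g - 2 : ℕ) : ℤ) := by
      rw [Groth.FunFld1.deg_sub, hdD, Groth.FunFld1.deg_canonical hK hC, hg]
      omega
    have hr := Groth.FunFld1.riemann_roch hK hC D
    rw [hdD, hg] at hr
    obtain ⟨w, hw⟩ := (exists_eq_prod_iff hK hnat hmul (hκ.mul hmul (huq.inv hK hmul))
      (by rw [e1]; exact hd)).2 (by rw [e1]; omega)
    exact ⟨w, by rw [← hw, mul_comm κ, mul_inv_cancel_left]⟩
  · right
    have hpv := (isPtDiv_abel (h := h) hK hnat p).mul hmul (isPtDiv_prod (h := h) hK hmul hnat v)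
    rw [← he] at hpv
    obtain ⟨m₀, hm, hc⟩ := IsDivCls.linEquiv hK huq hpv
    rw [← hP₀] at hc
    have hc' : V = D + FunFld.div k m₀ := by
      have h2 : (r + 1) • P₀ + s • P₀ = P₀ + (g - 1) • P₀ := by
        rw [← add_nsmul, ← succ_nsmul']; congr 1; omega
      rw [hV, hD]
      have h3 : Finsupp.single (plOf h p) 1 + ∑ i, Finsupp.single (plOf h (v i)) 1 -
          (P₀ + (g - 1) • P₀) = (∑ i, Finsupp.single (plOf h (u i)) 1) +
          (∑ i, Finsupp.single (plOf h (q i)) 1) + FunFld.div k m₀ - ((r + 1) • P₀ + s • P₀) := by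
        rw [show Finsupp.single (plOf h p) 1 + ∑ i, Finsupp.single (plOf h (v i)) 1 -
          (P₀ + (g - 1) • P₀) = Finsupp.single (plOf h p) 1 - P₀ +
            (∑ i, Finsupp.single (plOf h (v i)) 1 - (g - 1) • P₀) by abel, hc]
        abel
      rw [h2] at h3
      exact sub_left_injective h3
    have hDV : D = V := by
      by_contra hne
      exact hl (two_le_ell hK
        (add_nonneg (Finset.sum_nonneg fun i _ => Finsupp.single_nonneg.mpr zero_le_one)
          (Finset.sum_nonneg fun i _ => Finsupp.single_nonneg.mpr zero_le_one))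
        (add_nonneg (Finsupp.single_nonneg.mpr zero_le_one)
          (Finset.sum_nonneg fun i _ => Finsupp.single_nonneg.mpr zero_le_one)) hne hm hc')
    by_contra hcon
    push Not at hcon
    have h4 := congrArg (fun E : FunFld.Divisor k X.functionField => E (plOf h p)) hDV
    simp only [hD, hV, Finsupp.add_apply, Finsupp.finsetSum_apply, Finsupp.single_eq_same] at h4
    rw [Finset.sum_eq_zero (fun i _ => Finsupp.single_eq_of_ne fun e => hcon.1 i (plOf_injective e.symm)),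
      Finset.sum_eq_zero (fun i _ => Finsupp.single_eq_of_ne fun e => hcon.2 i (plOf_injective e.symm))] at h4
    have h5 : (0 : ℤ) ≤ ∑ i, (Finsupp.single (plOf h (v i)) 1 : FunFld.Divisor k X.functionField)
        (plOf h p) := Finset.sum_nonneg fun i _ =>
      (Finsupp.single_nonneg.mpr zero_le_one : (0 : FunFld.Divisor k _) ≤ _) _
    omega

/-- Rational points in the image of a set under inversion. -/
theorem mem_image_inv_iff (z : 𝟙_ _ ⟶ J) (S : Set J.left) :
    z.left.base (IsLocalRing.closedPoint k) ∈ ((𝟙 J)⁻¹).left.base '' S ↔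
      (z⁻¹).left.base (IsLocalRing.closedPoint k) ∈ S := by
  have h1 : ((𝟙 J)⁻¹ : J ⟶ J) ≫ (𝟙 J)⁻¹ = 𝟙 J := by
    rw [GrpObj.comp_inv, Category.comp_id, inv_inv]
  have h2 := congrArg (fun f : J ⟶ J => f.left) h1
  rw [show ((𝟙 J)⁻¹ : J ⟶ J).left.base '' S = ((𝟙 J)⁻¹ : J ⟶ J).left.base ⁻¹' S from
    congrFun (Set.image_eq_preimage_of_inverse
      (fun x => (Scheme.Hom.comp_apply _ _ x).symm.trans (congrArg (fun f : J.left ⟶ J.left => f.base x) h2))
      (fun x => (Scheme.Hom.comp_apply _ _ x).symm.trans (congrArg (fun f : J.left ⟶ J.left => f.base x) h2))) S,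
    Set.mem_preimage]
  have : z ≫ (𝟙 J)⁻¹ = z⁻¹ := by rw [GrpObj.comp_inv, Category.comp_id]
  rw [← this]
  rfl

end Groth.PicField
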