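import Groth.Agent.PicField.Sheaf
import Groth.Agent.AlgSpBasic.RepWith
import Groth.Agent.AlgSpBasic.OpenSub
import Mathlib

/-!
# Etale charts of the degree zero Picard sheaf of a pointed curve over a field

For an etale test scheme `E` over the field and a class `N` on `X ×_k E` of degree the genus, the
divisors of degree the genus over `E` with one section and no first cohomology map etally to the
sheaf by `D ↦ O(D) ⊗ N⁻¹`.
-/

universe u

open CategoryTheory CategoryTheory.Limits AlgebraicGeometry TopologicalSpace Opposite AlgSp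
open Groth.Abvar.PicCalc Groth.AlgSpBasic
open Groth.ModelsGraphs.PicDim (zeroClasses zeroClasses_map degC_map degC_mulT degC_invT degC_norm degC_dC)
open Groth.HilbPts (pullObj)

set_option maxHeartbeats 1600000
set_option backward.isDefEq.respectTransparency false
set_option backward.defeqAttrib.useBackward true
set_option backward.isDefEq.respectTransparency.types false

noncomputable section

namespace Groth.PicField

open Groth.PicCurve

variable {k : Type u} [Field k] {X : Scheme.{u}} {f : X ⟶ Spec (CommRingCat.of k)}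
  {σ : Spec (CommRingCat.of k) ⟶ X} {hσ : σ ≫ f = 𝟙 (Spec (CommRingCat.of k))}
  (hf : IsPtCurve f)

/-- A section of the sheaf over `T`, as a map from `T`. -/
abbrev toMap {T : Over (Spec (CommRingCat.of k))} (a : (zP hf σ hσ).obj (op T)) :
    (yon _).obj T ⟶ zSp hf σ hσ :=
  (yEquiv (F := zSp hf σ hσ)).symm a

theorem toMap_comp {T T' : Over (Spec (CommRingCat.of k))} (g : T' ⟶ T)
    (a : (zP hf σ hσ).obj (op T)) :
    (yon _).map g ≫ toMap hf a = toMap hf ((zP hf σ hσ).map g.op a) :=
  ((AlgSp.J _).uliftYonedaEquiv_symm_naturality_left g (zSp hf σ hσ) a).trans rfl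

theorem toMap_eq_iff {T : Over (Spec (CommRingCat.of k))} (a b : (zP hf σ hσ).obj (op T)) :
    toMap hf a = toMap hf b ↔ toR hf a = toR hf b :=
  ⟨fun h => congrArg (toR hf) ((yEquiv (F := zSp hf σ hσ)).symm.injective h),
    fun h => congrArg _ (toR_injective hf h)⟩

variable (H : Over (Spec (CommRingCat.of k))) (Z : HilbD.Obj f (genus f) H)
  {E : Over (Spec (CommRingCat.of k))} (N : PicLoc.PicSet (PicF.XT f E))

/-- A scheme over the field times `E`. -/
abbrev prodE (T E : Over (Spec (CommRingCat.of k))) : Over (Spec (CommRingCat.of k)) :=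
  Over.mk (pullback.fst T.hom E.hom ≫ T.hom)

/-- The first projection. -/
abbrev prT (T E : Over (Spec (CommRingCat.of k))) : prodE T E ⟶ T :=
  Over.homMk (pullback.fst T.hom E.hom) rfl

/-- The second projection. -/
abbrev prE (T E : Over (Spec (CommRingCat.of k))) : prodE T E ⟶ E :=
  Over.homMk (pullback.snd T.hom E.hom) pullback.condition.symm

/-- The good divisors over `E`. -/
abbrev chartObj (E : Over (Spec (CommRingCat.of k))) : Over (Spec (CommRingCat.of k)) :=
  opn (prodE H E) (goodOpens f hf (dC hf (pullObj (prT H E) Z)))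

/-- The divisor of the chart. -/
abbrev chartDiv (E : Over (Spec (CommRingCat.of k))) : HilbD.Obj f (genus f) (chartObj hf H Z E) :=
  pullObj (opnHom _ _) (pullObj (prT H E) Z)

/-- The class of the chart. -/
abbrev chartPre : PicLoc.PicSet (PicF.XT f (chartObj hf H Z E)) :=
  dC hf (chartDiv hf H Z E) * (pull (PicF.XTmap f (opnHom _ _ ≫ prE H E)) N)⁻¹

variable (hN : ∀ e, degC (PicF.XTproj f E) N e = genus f)

/-- The section of the sheaf on the chart. -/
def chartCls : (zP hf σ hσ).obj (op (chartObj hf H Z E)) :=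
  (⟨(norm f σ hσ _ (chartPre hf H Z N)).1, (norm f σ hσ _ (chartPre hf H Z N)).2, fun t => by
    rw [degC_norm hf, degC_mulT hf, degC_invT hf, degC_dC hf, degC_map hf, hN, add_neg_cancel]⟩ :
    zeroClasses hf σ hσ _)

theorem toR_chartCls : toR hf (chartCls (σ := σ) (hσ := hσ) hf H Z N hN) =
    norm f σ hσ _ (chartPre hf H Z N) := rfl

/-- The chart. -/
abbrev chartMap : (yon _).obj (chartObj hf H Z E) ⟶ zSp hf σ hσ :=
  toMap hf (chartCls hf H Z N hN)

/-- The twist of a section by `N`, on the product with `E`. -/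
abbrev twCls {T : Over (Spec (CommRingCat.of k))} (a : (zP hf σ hσ).obj (op T)) :
    PicLoc.PicSet (PicF.XT f (prodE T E)) :=
  pull (PicF.XTmap f (prT T E)) (toR hf a).1 * pull (PicF.XTmap f (prE T E)) N

/-- Where a section lies in the chart. -/
abbrev locT {T : Over (Spec (CommRingCat.of k))} (a : (zP hf σ hσ).obj (op T)) :
    Over (Spec (CommRingCat.of k)) :=
  opn (prodE T E) (goodOpens f hf (twCls hf N a))

variable {hN}

theorem good_chartDiv (z : (chartObj hf H Z E).left) :
    GoodC (PicF.XTproj f _) (dC hf (chartDiv hf H Z E)) z := by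
  rw [← pull_dC hf, goodC_map_iff hf]
  exact z.2

variable (hZ : HilbD.IsUniversal f (genus f) H Z)

include hZ in
/-- The pullback of the chart to a test scheme. -/
theorem exists_chart_pullback {T : Over (Spec (CommRingCat.of k))}
    (a : (zP hf σ hσ).obj (op T)) :
    ∃ m : locT hf N a ⟶ chartObj hf H Z E,
      IsPullback ((yon _).map m) ((yon _).map (opnHom _ _ ≫ prT T E))
        (chartMap (σ := σ) (hσ := hσ) hf H Z N hN) (toMap hf a) := by
  let V := locT hf N a
  let j : V ⟶ prodE T E := opnHom _ _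
  let c := pull (PicF.XTmap f j) (twCls hf N a)
  have hc : ∀ v, GoodC (PicF.XTproj f V) c v := fun v => (goodC_map_iff hf j _ v).2 v.2
  obtain ⟨W, hW⟩ := exists_divisor (σ := σ) (hσ := hσ) hf c hc
  obtain ⟨t, ht, -⟩ := hZ V W
  let p : V ⟶ prodE H E := Over.homMk (pullback.lift t.left (j ≫ prE T E).left
    (by rw [Over.w t, Over.w (j ≫ prE T E)])) (by
      show pullback.lift _ _ _ ≫ pullback.fst H.hom E.hom ≫ H.hom = _
      rw [pullback.lift_fst_assoc, Over.w t])
  have hp₁ : p ≫ prT H E = t := Over.OverMorphism.ext (pullback.lift_fst _ _ _)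
  have hp₂ : p ≫ prE H E = j ≫ prE T E := Over.OverMorphism.ext (pullback.lift_snd _ _ _)
  have hpW : (pullObj p (pullObj (prT H E) Z)).1 = W.1 := by
    show HilbD.pull f p (HilbD.pull f (prT H E) Z.1) = W.1
    rw [Groth.HilbPts.pull_pull, hp₁, ht]
  have hrange : Set.range p.left ⊆ goodOpens f hf (dC hf (pullObj (prT H E) Z)) := by
    rintro _ ⟨v, rfl⟩
    show GoodC _ _ (p.left v)
    rw [← goodC_map_iff hf p, pull_dC, dC_congr hf (W' := W) hpW, ← mul_one (dC hf W),
      ← goodC_norm (σ := σ) (hσ := hσ) hf, hW, goodC_norm hf, mul_one]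
    exact hc v
  let m : V ⟶ chartObj hf H Z E := Over.homMk
    (IsOpenImmersion.lift _ p.left (hrange.trans (Scheme.Opens.range_ι _).ge)) (by
      show _ ≫ Scheme.Opens.ι _ ≫ (prodE H E).hom = _
      rw [IsOpenImmersion.lift_fac_assoc, Over.w p])
  have hm : m ≫ opnHom _ _ = p := Over.OverMorphism.ext (IsOpenImmersion.lift_fac _ _ _)
  -- the comparison of the classes
  have hcls : ∀ {Y : Over (Spec (CommRingCat.of k))} (u : Y ⟶ chartObj hf H Z E) (w : Y ⟶ T),
      (yon _).map u ≫ chartMap (σ := σ) (hσ := hσ) hf H Z N hN = (yon _).map w ≫ toMap hf a ↔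
      norm f σ hσ Y (dC hf (pullObj u (chartDiv hf H Z E))) =
        norm f σ hσ Y (pull (PicF.XTmap f w) (toR hf a).1 *
          pull (PicF.XTmap f (u ≫ opnHom _ _ ≫ prE H E)) N) := fun {Y} u w => by
    rw [toMap_comp, toMap_comp, toMap_eq_iff, toR_map, toR_map, toR_chartCls, norm_map,
      show (toR hf a).map w = norm f σ hσ Y (pull (PicF.XTmap f w) (toR hf a).1) from
        (norm_self ((toR hf a).map w)).symm]
    rw [map_mul, map_inv, pull_dC, ← pull_comp _ (PicF.XTmap f (opnHom _ _ ≫ prE H E)), ← XTmap_comp']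
    constructor
    · intro h
      apply Subtype.ext
      have h' := congrArg Subtype.val h
      rw [norm_mul] at h' ⊢
      rw [← h', mul_assoc, ← norm_mul, inv_mul_cancel]
      exact (mul_one _).symm.trans (congrArg _ (show (1 : PicLoc.PicSet (PicF.XT f Y)) = (norm f σ hσ Y 1).1 by
        show (1 : PicLoc.PicSet _) = 1 * _
        rw [map_one, map_one, inv_one, mul_one]))
    · intro h
      apply Subtype.ext
      rw [norm_mul, h, norm_mul, mul_assoc, ← norm_mul, mul_inv_cancel]
      exact (congrArg _ (show (norm f σ hσ Y 1).1 = (1 : PicLoc.PicSet (PicF.XT f Y)) by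
        show 1 * _ = (1 : PicLoc.PicSet _)
        rw [map_one, map_one, inv_one, mul_one])).trans (mul_one _)
  have hmW : (pullObj m (chartDiv hf H Z E)).1 = W.1 := by
    show HilbD.pull f m (HilbD.pull f (opnHom _ _) _) = _
    rw [Groth.HilbPts.pull_pull, hm]
    exact hpW
  have hmE : m ≫ opnHom _ _ ≫ prE H E = j ≫ prE T E := by rw [← Category.assoc, hm, hp₂]
  have hsq : (yon _).map m ≫ chartMap (σ := σ) (hσ := hσ) hf H Z N hN =
      (yon _).map (j ≫ prT T E) ≫ toMap hf a := by
    rw [hcls, dC_congr hf (W' := W) hmW, hW, hmE]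
    congr 1
    show pull _ (_ * _) = _
    rw [map_mul, ← pull_comp, ← pull_comp, ← XTmap_comp', ← XTmap_comp']
  refine ⟨m, isPullback_of_lifts hsq (fun Y b c' hbc => ?_) fun Y b b' h1 h2 => ?_⟩
  · obtain ⟨u, rfl⟩ := (yon _).map_surjective b
    obtain ⟨w, rfl⟩ := (yon _).map_surjective c'
    have hn := (hcls u w).1 hbc
    let q : Y ⟶ prodE T E := Over.homMk (pullback.lift w.left (u ≫ opnHom _ _ ≫ prE H E).left
      (by rw [Over.w w, Over.w (u ≫ opnHom _ _ ≫ prE H E)])) (by
        show pullback.lift _ _ _ ≫ pullback.fst T.hom E.hom ≫ T.hom = _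
        rw [pullback.lift_fst_assoc, Over.w w])
    have hq₁ : q ≫ prT T E = w := Over.OverMorphism.ext (pullback.lift_fst _ _ _)
    have hq₂ : q ≫ prE T E = u ≫ opnHom _ _ ≫ prE H E := Over.OverMorphism.ext (pullback.lift_snd _ _ _)
    have hqr : Set.range q.left ⊆ goodOpens f hf (twCls hf N a) := by
      rintro _ ⟨y, rfl⟩
      show GoodC _ _ (q.left y)
      rw [← goodC_map_iff hf q, map_mul, ← pull_comp, ← pull_comp, ← XTmap_comp', ← XTmap_comp',
        hq₁, hq₂, ← mul_one (_ * _), ← goodC_norm (σ := σ) (hσ := hσ) hf, ← hn, goodC_norm hf,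
        mul_one, ← pull_dC hf, goodC_map_iff hf]
      exact good_chartDiv hf H Z _
    let s : Y ⟶ V := Over.homMk
      (IsOpenImmersion.lift _ q.left (hqr.trans (Scheme.Opens.range_ι _).ge)) (by
        show _ ≫ Scheme.Opens.ι _ ≫ (prodE T E).hom = _
        rw [IsOpenImmersion.lift_fac_assoc, Over.w q])
    have hs : s ≫ j = q := Over.OverMorphism.ext (IsOpenImmersion.lift_fac _ _ _)
    have hsT : s ≫ j ≫ prT T E = w := by rw [← Category.assoc, hs, hq₁]
    refine ⟨(yon _).map s, ?_, by rw [← Functor.map_comp, hsT]⟩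
    rw [← Functor.map_comp]
    congr 1
    have hn' : norm f σ hσ Y (dC hf (pullObj (s ≫ m) (chartDiv hf H Z E))) =
        norm f σ hσ Y (dC hf (pullObj u (chartDiv hf H Z E))) := by
      rw [hn, (hcls (s ≫ m) w).1 (by rw [Functor.map_comp, Category.assoc, hsq,
        ← Category.assoc, ← Functor.map_comp, hsT])]
      rw [Category.assoc, hmE, ← Category.assoc, hs, hq₂]
    have heq := eq_of_norm_eq (σ := σ) (hσ := hσ) hf (fun z => by
      rw [← pull_dC, goodC_map_iff hf]; exact good_chartDiv hf H Z _) hn'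
    have e₁ : (s ≫ m) ≫ opnHom _ _ ≫ prT H E = u ≫ opnHom _ _ ≫ prT H E := by
      refine (hZ Y ⟨_, (pullObj (s ≫ m) (chartDiv hf H Z E)).2⟩).unique ?_ ?_
      · show HilbD.pull f _ Z.1 = HilbD.pull f _ (HilbD.pull f _ (HilbD.pull f _ Z.1))
        rw [Groth.HilbPts.pull_pull, Groth.HilbPts.pull_pull]
        simp only [Category.assoc]
      · show HilbD.pull f _ Z.1 = (pullObj (s ≫ m) (chartDiv hf H Z E)).1
        rw [heq]
        show HilbD.pull f _ Z.1 = HilbD.pull f _ (HilbD.pull f _ (HilbD.pull f _ Z.1))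
        rw [Groth.HilbPts.pull_pull, Groth.HilbPts.pull_pull]
        simp only [Category.assoc]
    have e₂ : (s ≫ m) ≫ opnHom _ _ ≫ prE H E = u ≫ opnHom _ _ ≫ prE H E := by
      rw [Category.assoc, hmE, ← Category.assoc, hs, hq₂]
    refine Over.OverMorphism.ext ((cancel_mono (Scheme.Opens.ι _)).1 (pullback.hom_ext ?_ ?_))
    · have := congrArg (fun x => x.left) e₁
      simpa using this
    · have := congrArg (fun x => x.left) e₂
      simpa using this
  · obtain ⟨s, rfl⟩ := (yon _).map_surjective b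
    obtain ⟨s', rfl⟩ := (yon _).map_surjective b'
    rw [← Functor.map_comp, ← Functor.map_comp] at h1 h2
    have e1 := (yon _).map_injective h1
    have e2 := (yon _).map_injective h2
    congr 1
    refine Over.OverMorphism.ext ((cancel_mono (Scheme.Opens.ι _)).1 (pullback.hom_ext ?_ ?_))
    · have := congrArg (fun x => x.left) e2
      simpa [j] using this
    · have h3 : s ≫ j ≫ prE T E = s' ≫ j ≫ prE T E := by
        rw [← hmE, reassoc_of% e1]
      have := congrArg (fun x => x.left) h3
      simpa [j] using this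

include hZ in
/-- The chart is etale. -/
theorem repWith_etale_chartMap [Etale E.hom] :
    RepWith @Etale (chartMap (σ := σ) (hσ := hσ) hf H Z N hN) := by
  refine repWith_of_exists fun T g => ?_
  obtain ⟨a, rfl⟩ : ∃ a, toMap hf a = g := ⟨_, (yEquiv (F := zSp hf σ hσ)).symm_apply_apply g⟩
  obtain ⟨m, hm⟩ := exists_chart_pullback (hN := hN) hf H Z N hZ a
  refine ⟨_, _, _, hm, ?_⟩
  have : Etale (pullback.fst T.hom E.hom) := MorphismProperty.pullback_fst (P := @Etale) _ _ ‹_›
  show Etale (Scheme.Opens.ι _ ≫ pullback.fst T.hom E.hom)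
  infer_instance

end Groth.PicField
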