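import Groth.Agent.PicField.Space
import Mathlib

/-!
# The Jacobian of a pointed curve over any field
-/

universe u

open CategoryTheory CategoryTheory.Limits AlgebraicGeometry TopologicalSpace Opposite AlgSp
open Groth.Abvar.PicCalc
open Groth.ModelsGraphs.PicDim (zeroClasses zeroClasses_map degC_map exists_picZero)

set_option maxHeartbeats 1600000
set_option backward.isDefEq.respectTransparency false
set_option backward.defeqAttrib.useBackward true
set_option backward.isDefEq.respectTransparency.types false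

noncomputable section

namespace Groth.PicField

open Groth.PicCurve

variable {k : Type u} [Field k] {X : Scheme.{u}} {f : X ⟶ Spec (CommRingCat.of k)}
  {σ : Spec (CommRingCat.of k) ⟶ X} {hσ : σ ≫ f = 𝟙 (Spec (CommRingCat.of k))}

/-- Degree zero on the fibres, in terms of the degree function. -/
theorem hasFibreDegreeZero_iff (hf : IsPtCurve f) (T : Over (Spec (CommRingCat.of k)))
    {L : (PicF.XT f T).Modules} (hL : PicF.IsInvertible L) :
    FGA.HasFibreDegreeZero f T L ↔ ∀ t, degC (PicF.XTproj f T) (cls hL) t = 0 := by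
  refine forall_congr' fun t => ?_
  let π := PicF.XTproj f T
  have : IsProper π := hf.isProper_proj T
  letI : (π.fiber t).Over (Spec (CommRingCat.of (T.left.residueField t))) :=
    ⟨π.fiberToSpecResidueField t⟩
  have : IsProper (π.fiber t ↘ Spec (CommRingCat.of (T.left.residueField t))) :=
    MorphismProperty.pullback_snd (P := @IsProper) _ _ ‹_›
  have := Groth.EulerDeg.isNoetherian_of_proper (T.left.residueField t) (X := π.fiber t)
  have eu : ∀ (N : (π.fiber t).Modules), N.IsQuasicoherent →
      Curv2.euler (T.left.residueField t) (π.fiber t) N =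
        FGA.eulerCharLE (T.left.residueField t) (π.fiber t) N 1 := fun N hN => by
    rw [Groth.EulerDeg.euler_eq_sub fun n hn =>
      Groth.EulerDeg.subsingleton_HH_of_dim_le_one _ (hf.dim_fiber T t).le N n hn]
    unfold FGA.eulerCharLE
    rw [Finset.sum_range_succ, Finset.sum_range_one]
    ring
  have hq := Groth.PicAux.isInvertible_pullback (π.fiberι t) hL
  rw [degC_cls, fibEuler_structure, fibEuler_eq, sub_eq_zero,
    eu _ (model_hyps (π := 𝟙 (π.fiber t)) hq).1,
    eu _ (model_hyps (π := 𝟙 (π.fiber t)) (PicLoc.isInvertible_structureModule _)).1]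
  rfl

/-- The genus is invariant under extension of the base field. -/
theorem genus_baseChange (hf : IsPtCurve f) (K : Type u) [Field K] [Algebra k K] :
    genus (pullback.snd f (Spec.map (CommRingCat.ofHom (algebraMap k K)))) = genus f := by
  have := hf.proper
  let b := Spec.map (CommRingCat.ofHom (algebraMap k K))
  have : (Coh.structureModule X).IsQuasicoherent :=
    (model_hyps (π := f) (L := Coh.structureModule X) (PicLoc.isInvertible_structureModule X)).1
  obtain ⟨e₁⟩ := Groth.PicAux.pullback_structure_iso (pullback.fst f b)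
  have hb := Groth.CohTwo.betti_baseChange (IsPullback.of_hasPullback f b)
    (Coh.structureModule X) (IsLocalRing.closedPoint K) 1
  let π := pullback.snd f b
  let t : Spec (CommRingCat.of K) := IsLocalRing.closedPoint K
  letI : (π.fiber t).Over (Spec (CommRingCat.of ((Spec (CommRingCat.of K)).residueField t))) :=
    ⟨π.fiberToSpecResidueField t⟩
  have h1 : CohIII.fiberRank π (Coh.structureModule (pullback f b)) 1 t =
      CohIII.fiberRank π ((Scheme.Modules.pullback (pullback.fst f b)).obj (Coh.structureModule X))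
        1 t :=
    (Groth.EulerDeg.finrank_congr (k := (Spec (CommRingCat.of K)).residueField t)
      ((Scheme.Modules.pullback (π.fiberι t)).mapIso e₁) 1).symm
  refine h1.trans (hb.trans ?_)
  show CohIII.fiberRank f (Coh.structureModule X) 1 (b (IsLocalRing.closedPoint K)) = genus f
  rw [Subsingleton.elim (α := PrimeSpectrum k) (b (IsLocalRing.closedPoint K))
    (IsLocalRing.closedPoint k)]
  rfl

/-- The Jacobian of a pointed curve over any field, with its dimension. -/
theorem exists_jacobian_dim (hf : IsPtCurve f) :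
    ∃ (J : Over (Spec (CommRingCat.of k))) (_ : (zP hf σ hσ).RepresentableBy J),
      IsProper J.hom ∧ Smooth J.hom ∧ GeometricallyIrreducible J.hom ∧
        topologicalKrullDim J.left = genus f := by
  let K := SeparableClosure k
  have := hf.geomConn
  obtain ⟨H, Z, hZ, -⟩ := Groth.CurveDiv.exists_proper_smooth k X f hf.curve (genus f)
  obtain ⟨J, ⟨r⟩⟩ :=
    (isRepresentable_zP (hσ := hσ) hf K H Z (hZ := hZ)).has_representation
  refine ⟨J, r, ?_⟩
  let b := Spec.map (CommRingCat.ofHom (algebraMap k K))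
  let sK : Spec (CommRingCat.of K) ⟶ pullback f b :=
    pullback.lift (b ≫ σ) (𝟙 _) (by rw [Category.assoc, hσ]; simp)
  have hsK : sK ≫ pullback.snd f b = 𝟙 _ := pullback.lift_snd _ _ _
  have hsb : sK ≫ pullback.fst f b = b ≫ σ := pullback.lift_fst _ _ _
  have hfK := isPtCurve_baseChange hf σ hσ K
  obtain ⟨J', _, _, eJ, -, hnat, hJp, hJs, hJi, hJd⟩ := exists_picZero hfK (σ := sK) hsK
  choose ez hez using fun T => exists_zero_equiv (hσ := hσ) hf K T sK hsK hsb hfK
  let cmp : ∀ T : Over (Spec (CommRingCat.of K)), (RelBC.toBase b T ⟶ J) ≃ (T ⟶ J') := fun T =>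
    r.homEquiv.trans ((ez T).trans (eJ T).symm)
  have hcmp : ∀ {T T' : Over (Spec (CommRingCat.of K))} (g : T' ⟶ T) (h : RelBC.toBase b T ⟶ J),
      cmp T' (RelBC.toBaseHom b g ≫ h) = g ≫ cmp T h := fun {T T'} g h => by
    apply (eJ T').injective
    apply Subtype.ext
    simp only [cmp, Equiv.trans_apply, Equiv.apply_symm_apply, hnat, hez]
    rw [show r.homEquiv (RelBC.toBaseHom b g ≫ h) = _ from r.homEquiv_comp _ _]
    refine Eq.trans ?_ ((congrArg (pull (PicF.XTmap (pullback.snd f b) g))
      (hez T (r.homEquiv h))).symm.trans (by rfl))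
    refine (hez T' _).trans ?_
    show pull _ (pull (PicF.XTmap f (RelBC.toBaseHom b g)) _) = pull _ (pull _ _)
    rw [← pull_comp, ← RelBC.xtIso_map, pull_comp]
    rfl
  let e' : RelBC.toBase b J' ⟶ J := (cmp J').symm (𝟙 J')
  have he' : ∀ {T : Over (Spec (CommRingCat.of K))} (w : T ⟶ J'),
      RelBC.toBaseHom b w ≫ e' = (cmp T).symm w := fun {T} w => by
    apply (cmp T).injective
    rw [hcmp, Equiv.apply_symm_apply, Equiv.apply_symm_apply, Category.comp_id]
  have he'w : e'.left ≫ J.hom = J'.hom ≫ b := Over.w e'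
  have sq : IsPullback e'.left J'.hom J.hom b := by
    refine ⟨⟨he'w⟩, ⟨PullbackCone.IsLimit.mk _
      (fun s => ((cmp (Over.mk s.snd)) (Over.homMk s.fst s.condition)).left)
      (fun s => ?_) (fun s => Over.w _) (fun s m h1 h2 => ?_)⟩⟩
    · have := congrArg (fun z => z.left)
        (he' ((cmp (Over.mk s.snd)) (Over.homMk s.fst s.condition)))
      simpa using this
    · let w : Over.mk s.snd ⟶ J' := Over.homMk m h2
      have h3 : RelBC.toBaseHom b w ≫ e' = Over.homMk s.fst s.condition :=
        Over.OverMorphism.ext h1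
      rw [he', Equiv.symm_apply_eq] at h3
      exact congrArg (fun z => z.left) h3
  have hb : Groth.EtaleBase.Fpqc b :=
    ⟨⟨Groth.SpLimit.surjective_specMap_field _, (HasRingHomProperty.Spec_iff (P := @Flat)).2
      (RingHom.flat_algebraMap_iff.2 inferInstance)⟩, inferInstance⟩
  have hp : IsProper J.hom := MorphismProperty.of_isPullback_of_descendsAlong (P := @IsProper)
    (Q := Groth.EtaleBase.Fpqc) sq.flip hb hJp
  have hs : Smooth J.hom := MorphismProperty.of_isPullback_of_descendsAlong (P := @Smooth)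
    (Q := Groth.EtaleBase.Fpqc) sq.flip hb hJs
  refine ⟨hp, hs, ?_⟩
  have : Surjective b := Groth.SpLimit.surjective_specMap_field _
  have : Surjective e'.left := MorphismProperty.of_isPullback (P := @Surjective) sq.flip ‹_›
  have := hJi
  have : IrreducibleSpace J'.left := by
    have : IsIntegral J'.left := GeometricallyIntegral.geometrically_isIntegral (f := J'.hom) (𝟙 _)
      (𝟙 _) J'.hom (IsPullback.of_horiz_isIso ⟨by simp⟩)
    infer_instance
  have : ConnectedSpace (RelBC.toBase b J').left := inferInstanceAs (ConnectedSpace J'.left)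
  have : ConnectedSpace J.left := e'.left.surjective.connectedSpace e'.left.continuous
  let T₀ : Over (Spec (CommRingCat.of k)) := Over.mk (𝟙 _)
  let o : T₀ ⟶ J := r.homEquiv.symm (1 : zeroClasses hf σ hσ T₀)
  have : GeometricallyConnected J.hom :=
    Groth.AlgGrp1.geometricallyConnected_of_point J.hom o.left (Over.w o)
  have : GeometricallyReduced J.hom :=
    Groth.GrpschAbsch.FibreFlat.geometricallyReduced_of_smooth J.hom
  refine ⟨Groth.SmoothWeil.geometricallyIrreducible_of_connected J.hom, ?_⟩
  have h1 : topologicalKrullDim J'.left = topologicalKrullDim ↥(FBase.bc J.hom K) :=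
    (Scheme.homeoOfIso sq.isoPullback).isHomeomorph.topologicalKrullDim_eq
  rw [← Groth.FBaseGeom.dim_bc J.hom K, ← h1, hJd, genus_baseChange hf K]

/-- The Jacobian of a pointed curve over any field. -/
theorem exists_jacobian (hf : IsPtCurve f) :
    ∃ (J : Over (Spec (CommRingCat.of k))) (_ : (zP hf σ hσ).RepresentableBy J),
      IsProper J.hom ∧ Smooth J.hom ∧ GeometricallyIrreducible J.hom := by
  obtain ⟨J, r, h1, h2, h3, -⟩ := exists_jacobian_dim (hσ := hσ) hf
  exact ⟨J, r, h1, h2, h3⟩

/-- The universal rigidified class of degree zero. -/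
theorem exists_universal (hf : IsPtCurve f) :
    ∃ (J : Over (Spec (CommRingCat.of k))) (ξ : PicF.Rig f σ hσ J),
      IsProper J.hom ∧ Smooth J.hom ∧ GeometricallyIrreducible J.hom ∧
      FGA.HasFibreDegreeZeroCl f J ξ.1 ∧
      ∀ (T : Over (Spec (CommRingCat.of k))) (c : PicF.Rig f σ hσ T),
        FGA.HasFibreDegreeZeroCl f T c.1 →
        ∃! g : T ⟶ J, PicF.pullCl (PicF.XTmap f g) ξ.1 = c.1 := by
  obtain ⟨J, r, h1, h2, h3⟩ := exists_jacobian (hσ := hσ) hf
  let x : zeroClasses hf σ hσ J := r.homEquiv (𝟙 J)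
  have toRig : ∀ {T : Over (Spec (CommRingCat.of k))} (c : zeroClasses hf σ hσ T),
      PicF.IsInvertibleCl c.1.1 ∧ PicF.IsTrivialCl (PicF.pullCl (PicF.secT f σ hσ T) c.1.1) :=
    fun {T} c => ⟨c.1.2, (congrArg Subtype.val c.2.1).trans PicGrp.one_val⟩
  have hdeg : ∀ {T : Over (Spec (CommRingCat.of k))} (c : PicLoc.PicSet (PicF.XT f T)),
      (∀ t, degC (PicF.XTproj f T) c t = 0) ↔ FGA.HasFibreDegreeZeroCl f T c.1 := by
    intro T c
    obtain ⟨L, hL, rfl⟩ := PicGrp.exists_eq_cls c
    constructor
    · exact fun h => ⟨L, rfl, (hasFibreDegreeZero_iff hf T hL).2 h⟩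
    · rintro ⟨M, hM, hM0⟩
      have hMi : PicF.IsInvertible M := by
        obtain ⟨i⟩ := (PicGrp.cl_eq_cl_iff _ _).1 hM
        exact Groth.PicAux.isInvertible_of_iso hL i.symm
      have e : PicGrp.cls L hL = cls hMi := Subtype.ext hM.symm
      rw [e]
      exact (hasFibreDegreeZero_iff hf T hMi).1 hM0
  have hr : ∀ {T : Over (Spec (CommRingCat.of k))} (g : T ⟶ J),
      ((r.homEquiv g : zeroClasses hf σ hσ T)).1.1 = PicF.pullCl (PicF.XTmap f g) x.1.1 := fun g => by
    rw [r.homEquiv_eq g]
    rfl
  refine ⟨J, ⟨x.1.1, toRig x⟩, h1, h2, h3, (hdeg x.1).1 x.2.2, fun T c hc => ?_⟩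
  let c₁ : PicLoc.PicSet (PicF.XT f T) := ⟨c.1, c.2.1⟩
  let c' : zeroClasses hf σ hσ T :=
    ⟨c₁, Subtype.ext (c.2.2.trans PicGrp.one_val.symm), (hdeg c₁).2 hc⟩
  refine ⟨r.homEquiv.symm c', ?_, fun g hg => ?_⟩
  · show PicF.pullCl _ x.1.1 = c.1
    rw [← hr, Equiv.apply_symm_apply]
  · rw [Equiv.eq_symm_apply]
    exact Subtype.ext (Subtype.ext ((hr g).trans hg))

end Groth.PicField
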