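import Groth.Agent.PicField.JacobianBridge
import Groth.Agent.GrpschAbsch.AbVarEtale
import Groth.Agent.Curves1.RR.BaseChange
import Mathlib

/-!
# The Albanese property, for the curves and Jacobians of the milestones
-/

set_option autoImplicit false
set_option linter.style.haveILetI false

universe u

open CategoryTheory CategoryTheory.Limits MonoidalCategory CartesianMonoidalCategory MonObj
  AlgebraicGeometry TopologicalSpace Opposite
open Groth.Abvar.PicCalc
open Groth.ModelsGraphs.PicDim (zeroClasses zeroClasses_map exists_grpObj_of_points)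

set_option maxHeartbeats 1600000
set_option backward.isDefEq.respectTransparency false
set_option backward.defeqAttrib.useBackward true
set_option backward.isDefEq.respectTransparency.types false

noncomputable section

namespace Groth.PicField

open Groth.PicCurve Groth.DivNorm

variable {k : Type u} [Field k]

/-- The genus is the dimension of the first cohomology of the structure sheaf. -/
theorem genus_eq (X : Scheme.{u}) [X.Over (Spec (CommRingCat.of k))]
    [IsProper (X ↘ Spec (CommRingCat.of k))] :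
    genus (X ↘ Spec (CommRingCat.of k)) = Curv2.genus k X := by
  let π := X ↘ Spec (CommRingCat.of k)
  let pt : Spec (CommRingCat.of k) := IsLocalRing.closedPoint k
  let K : Type u := (Spec (CommRingCat.of k)).residueField pt
  letI : (π.fiber pt).Over (Spec (CommRingCat.of K)) := ⟨π.fiberToSpecResidueField pt⟩
  let φ : CommRingCat.of k ⟶ (Spec (CommRingCat.of k)).residueField pt :=
    Spec.preimage ((Spec (CommRingCat.of k)).fromSpecResidueField pt)
  letI : Algebra k K := φ.hom.toAlgebra
  have hmap : Spec.map (CommRingCat.ofHom (algebraMap k K)) =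
      (Spec (CommRingCat.of k)).fromSpecResidueField pt := Spec.map_preimage _
  have hsq : IsPullback (π.fiberι pt) (π.fiber pt ↘ Spec (CommRingCat.of K))
      (X ↘ Spec (CommRingCat.of k)) (Spec.map (CommRingCat.ofHom (algebraMap k K))) := by
    rw [hmap]
    exact IsPullback.of_hasPullback π _
  exact Groth.Curves1.RR.finrank_pullback hsq _
    (Groth.EulerDeg.isCoh_of_isInvertible (PicLoc.isInvertible_structureModule X)).1 1

/-- A smooth proper geometrically connected curve with a rational point is a pointed curve. -/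
theorem isPtCurve_of_connected {X : Scheme.{u}} (f : X ⟶ Spec (CommRingCat.of k)) [IsProper f]
    [Smooth f] [GeometricallyConnected f] (hdim : topologicalKrullDim X = 1)
    (σ : Spec (CommRingCat.of k) ⟶ X) (hσ : σ ≫ f = 𝟙 _) : IsPtCurve f := by
  have : GeometricallyIrreducible (Over.mk f).hom :=
    Groth.SmoothWeil.geometricallyIrreducible_of_connected f
  have : Smooth (Over.mk f).hom := ‹Smooth f›
  have : IsIntegral X := isIntegral_of_smooth (Over.mk f)
  exact isPtCurve ⟨‹_›, ‹_›, ‹_›, hdim⟩ σ hσ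

/-- A Jacobian with its Abel map is the Albanese variety of the pointed curve. -/
theorem existsUnique_hom_of_isJacobian {X : Scheme.{u}} {f : X ⟶ Spec (CommRingCat.of k)}
    (hf : IsPtCurve f) (hg : 0 < genus f) (σ : Spec (CommRingCat.of k) ⟶ X)
    (hσ : σ ≫ f = 𝟙 (Spec (CommRingCat.of k))) (J : Over (Spec (CommRingCat.of k)))
    [GrpObj J] [IsCommMonObj J] (ψ : (ModFun.PicDeg f 0).Hom ⊤ J) (hJ : Jac.IsJacobian f ⊤ J ψ)
    (j : Over.mk f ⟶ J) (hj : Jac.IsAbelJacobiAt f σ ψ j)
    {A : Over (Spec (CommRingCat.of k))} [GrpObj A] [IsCommMonObj A] [IsProper A.hom]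
    (φ : Over.mk f ⟶ A) (hφ : σ ≫ φ.left = η[A].left) :
    ∃! χ : J ⟶ A, IsMonHom χ ∧ j ≫ χ = φ := by
  obtain ⟨_, _, _, e, hnat, hmul, hψ⟩ := exists_points_equiv hf σ hσ ψ hJ
  rw [abel_eq hf ψ e hψ hj]
  refine existsUnique_hom_of_pointed e hnat hmul hg φ (Over.OverMorphism.ext ?_)
  simpa [zSec] using hφ

/-- Every pointed curve has a Jacobian which is an Albanese variety. -/
theorem exists_albanese {X : Scheme.{u}} {f : X ⟶ Spec (CommRingCat.of k)} (hf : IsPtCurve f)
    (hg : 0 < genus f) (σ : Spec (CommRingCat.of k) ⟶ X)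
    (hσ : σ ≫ f = 𝟙 (Spec (CommRingCat.of k))) :
    ∃ (J : Over (Spec (CommRingCat.of k))) (_ : GrpObj J) (j : Over.mk f ⟶ J),
      IsProper J.hom ∧ GeometricallyIntegral J.hom ∧ topologicalKrullDim J.left = genus f ∧
      zSec σ hσ (𝟙_ _) ≫ j = η[J] ∧
      ∀ (A : Over (Spec (CommRingCat.of k))) [GrpObj A] [IsProper A.hom]
        [GeometricallyIntegral A.hom] (φ : Over.mk f ⟶ A),
        zSec σ hσ (𝟙_ _) ≫ φ = η[A] → ∃! χ : J ⟶ A, IsMonHom χ ∧ j ≫ χ = φ := by
  obtain ⟨J, r, hp, hs, hi, hd⟩ := exists_jacobian_dim (hσ := hσ) hf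
  let e : ∀ T : Over (Spec (CommRingCat.of k)), (T ⟶ J) ≃ zeroClasses hf σ hσ T := fun _ =>
    r.homEquiv
  have hnat : ∀ (T T' : Over (Spec (CommRingCat.of k))) (g : T' ⟶ T) (h : T ⟶ J),
      (e T' (g ≫ h)).1 = pull (PicF.XTmap f g) (e T h).1 := fun T T' g h => by
    show (show zeroClasses hf σ hσ T' from r.homEquiv (g ≫ h)).1 = _
    rw [r.homEquiv_comp]
    rfl
  obtain ⟨hG, hC, hmul⟩ := exists_grpObj_of_points (J := J) (A := fun T => zeroClasses hf σ hσ T) e
    (fun {T T'} g => resZ hf g) (fun g h => Subtype.ext (hnat _ _ g h))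
  have : GeometricallyReduced J.hom :=
    Groth.GrpschAbsch.FibreFlat.geometricallyReduced_of_smooth J.hom
  refine ⟨J, hG, abel e, hp,
    GeometricallyIntegral.of_geometricallyReduced_of_geometricallyIrreducible J.hom, hd, ?_,
    fun A _ _ _ φ hφ => ?_⟩
  · apply (e _).injective
    rw [e_comp_abel e hnat, ajPt_zero, show (η[J] : 𝟙_ _ ⟶ J) = 1 by
      rw [Hom.one_def, toUnit_unique (toUnit (𝟙_ _)) (𝟙 _), Category.id_comp], e_one e hmul]
  · have := Groth.GrpschAbsch.isCommMonObj_of_isProper A
    exact existsUnique_hom_of_pointed e hnat hmul hg φ hφ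

end Groth.PicField
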