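import Groth.Agent.PicField.Jacobian
import Groth.Agent.PicField.PicDegree
import Groth.Agent.DivNorm.Albanese
import Groth.Prelude.Def_Jac
import Mathlib

/-!
# Points of a Jacobian given as a coarse moduli scheme
-/

set_option autoImplicit false
set_option linter.style.haveILetI false

universe u

open CategoryTheory CategoryTheory.Limits MonoidalCategory CartesianMonoidalCategory MonObj
  AlgebraicGeometry TopologicalSpace Opposite
open Groth.Abvar.PicCalc
open Groth.ModelsGraphs.PicDim (zeroClasses zeroClasses_map degC_norm)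

set_option maxHeartbeats 1600000
set_option backward.isDefEq.respectTransparency false
set_option backward.defeqAttrib.useBackward true
set_option backward.isDefEq.respectTransparency.types false

noncomputable section

namespace Groth.PicField

open Groth.PicCurve Groth.DivNorm

variable {k : Type u} [Field k] {X : Scheme.{u}} {f : X ⟶ Spec (CommRingCat.of k)}
  {σ : Spec (CommRingCat.of k) ⟶ X} {hσ : σ ≫ f = 𝟙 (Spec (CommRingCat.of k))}
  {J : Over (Spec (CommRingCat.of k))}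

/-- The points of the Jacobian are the rigidified classes of degree zero. -/
theorem exists_points_equiv (hf : IsPtCurve f) (σ : Spec (CommRingCat.of k) ⟶ X)
    (hσ : σ ≫ f = 𝟙 (Spec (CommRingCat.of k))) [GrpObj J]
    (ψ : (ModFun.PicDeg f 0).Hom ⊤ J) (hJ : Jac.IsJacobian f ⊤ J ψ) :
    IsProper J.hom ∧ Smooth J.hom ∧ GeometricallyIrreducible J.hom ∧
      ∃ e : ∀ T : Over (Spec (CommRingCat.of k)), (T ⟶ J) ≃ zeroClasses hf σ hσ T,
        (∀ (T T' : Over (Spec (CommRingCat.of k))) (g : T' ⟶ T) (h : T ⟶ J),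
          (e T' (g ≫ h)).1 = pull (PicF.XTmap f g) (e T h).1) ∧
        (∀ (T : Over (Spec (CommRingCat.of k))) (g h : T ⟶ J), e T (g * h) = e T g * e T h) ∧
        ∀ (T : Over (Spec (CommRingCat.of k))) (hT : (⊤ : ObjectProperty (Over _)) T)
          (L : (ModFun.PicDeg f 0).Fam T) (hL : (ModFun.PicDeg f 0).ok T L),
          (e T (ψ.app T L hT hL)).1 =
            (norm f σ hσ T (cls ((ok_iff hf 0 T L).1 hL).1)).1 := by
  obtain ⟨J₀, r, hp, hs, hi⟩ := exists_jacobian (hσ := hσ) hf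
  let e₀ : ∀ T : Over (Spec (CommRingCat.of k)), (T ⟶ J₀) ≃ zeroClasses hf σ hσ T :=
    fun T => r.homEquiv
  have hn₀ : ∀ {T T' : Over (Spec (CommRingCat.of k))} (g : T' ⟶ T) (h : T ⟶ J₀),
      (e₀ T' (g ≫ h)).1 = pull (PicF.XTmap f g) (e₀ T h).1 := fun g h => by
    show (show zeroClasses hf σ hσ _ from r.homEquiv (g ≫ h)).1 = _
    rw [r.homEquiv_comp]
    rfl
  -- classes of families
  let z : ∀ (T : Over (Spec (CommRingCat.of k))) (L : (ModFun.PicDeg f 0).Fam T),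
      (ModFun.PicDeg f 0).ok T L → zeroClasses hf σ hσ T := fun T L hL =>
    ⟨(norm f σ hσ T (cls ((ok_iff hf 0 T L).1 hL).1)).1,
      (norm f σ hσ T (cls ((ok_iff hf 0 T L).1 hL).1)).2, fun t => by
      rw [degC_norm hf]; exact ((ok_iff hf 0 T L).1 hL).2 t⟩
  have hfam : ∀ {T : Over (Spec (CommRingCat.of k))} (c : zeroClasses hf σ hσ T),
      ∃ (L : (PicF.XT f T).Modules) (hL : (ModFun.PicDeg f 0).ok T L),
        cls ((ok_iff hf 0 T L).1 hL).1 = c.1 := fun {T} c => by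
    obtain ⟨L, hL, hc⟩ := PicGrp.exists_eq_cls c.1
    refine ⟨L, (ok_iff hf 0 T L).2 ⟨hL, fun t => ?_⟩, hc.symm⟩
    have : cls hL = c.1 := hc.symm
    rw [this]
    exact c.2.2 t
  have hzc : ∀ {T : Over (Spec (CommRingCat.of k))} (c : zeroClasses hf σ hσ T)
      (L : (ModFun.PicDeg f 0).Fam T) (hL : (ModFun.PicDeg f 0).ok T L),
      cls ((ok_iff hf 0 T L).1 hL).1 = c.1 → z T L hL = c := fun c L hL h => by
    apply Subtype.ext
    show (norm f σ hσ _ _).1 = c.1
    rw [h]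
    exact congrArg Subtype.val (norm_self (⟨c.1, c.2.1⟩ : RS f σ hσ _))
  have hzr : ∀ {T : Over (Spec (CommRingCat.of k))} (L M : (ModFun.PicDeg f 0).Fam T)
      (hL : (ModFun.PicDeg f 0).ok T L) (hM : (ModFun.PicDeg f 0).ok T M),
      (ModFun.PicDeg f 0).r T L M ↔ z T L hL = z T M hM := fun {T} L M hL hM => by
    rw [r_iff 0 T ((ok_iff hf 0 T L).1 hL).1 ((ok_iff hf 0 T M).1 hM).1]
    constructor
    · rintro ⟨b, hb⟩
      exact Subtype.ext (by show (norm f σ hσ T _).1 = (norm f σ hσ T _).1; rw [hb, norm_mul_base])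
    · intro h
      exact ⟨_, eq_mul_base_of_norm (σ := σ) (hσ := hσ)
        (show norm f σ hσ T _ = norm f σ hσ T _ from
          Subtype.ext (congrArg Subtype.val h.symm : _))⟩
  have hzpull : ∀ {T T' : Over (Spec (CommRingCat.of k))} (g : T' ⟶ T)
      (L : (ModFun.PicDeg f 0).Fam T) (hL : (ModFun.PicDeg f 0).ok T L),
      (z T' _ (ok_pull hf 0 g hL)).1 = pull (PicF.XTmap f g) (z T L hL).1 := fun g L hL => by
    show (norm f σ hσ _ _).1 = pull _ (norm f σ hσ _ _).1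
    rw [show pull (PicF.XTmap f g) (norm f σ hσ _ (cls ((ok_iff hf 0 _ L).1 hL).1)).1 = _ from
      congrArg Subtype.val (norm_map g _), pull_cls]
    rfl
  let φ₀ : (ModFun.PicDeg f 0).Hom ⊤ J₀ :=
    { app := fun T L _ hL => (e₀ T).symm (z T L hL)
      natural := fun {T T'} g L _ _ hL hL' => by
        apply (e₀ T').injective
        apply Subtype.ext
        rw [hn₀, Equiv.apply_symm_apply, Equiv.apply_symm_apply]
        exact hzpull g L hL
      resp := fun {T} L M _ hL hM h => congrArg _ ((hzr L M hL hM).1 h) }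
  obtain ⟨α, hα, -⟩ := hJ.coarse.2.1 J₀ φ₀
  obtain ⟨ξ, hξ, hξc⟩ := hfam (e₀ J₀ (𝟙 J₀))
  let β : J₀ ⟶ J := ψ.app J₀ ξ trivial hξ
  have hβ : ∀ (T : Over (Spec (CommRingCat.of k))) (L : (ModFun.PicDeg f 0).Fam T)
      (hL : (ModFun.PicDeg f 0).ok T L),
      ψ.app T L trivial hL = φ₀.app T L trivial hL ≫ β := fun T L hL => by
    rw [← ψ.natural _ ξ trivial trivial hξ (ok_pull hf 0 _ hξ)]
    refine ψ.resp _ _ trivial hL _ ((hzr _ _ hL (ok_pull hf 0 _ hξ)).2 (Subtype.ext ?_))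
    rw [hzpull _ ξ hξ, hzc _ ξ hξ hξc, ← hn₀, Category.comp_id]
    show _ = (e₀ T ((e₀ T).symm (z T L hL))).1
    rw [Equiv.apply_symm_apply]
  have hαβ : α ≫ β = 𝟙 J := (hJ.coarse.2.1 J ψ).unique
    (fun T L hT hL => by rw [← Category.assoc, ← hα T L hT hL]; exact hβ T L hL)
    (fun T L hT hL => by rw [Category.comp_id])
  have hβα : β ≫ α = 𝟙 J₀ := by
    rw [← hα J₀ ξ trivial hξ]
    show (e₀ J₀).symm (z J₀ ξ hξ) = 𝟙 J₀
    rw [hzc _ ξ hξ hξc, Equiv.symm_apply_apply]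
  let i : J ≅ J₀ := ⟨α, β, hαβ, hβα⟩
  have : IsIso α.left :=
    ⟨β.left, congrArg (fun g : J ⟶ J => g.left) hαβ, congrArg (fun g : J₀ ⟶ J₀ => g.left) hβα⟩
  have hw : α.left ≫ J₀.hom = J.hom := Over.w α
  refine ⟨?_, ?_, ?_, fun T => ((Iso.homToEquiv i).trans (e₀ T)), ?_, ?_, ?_⟩
  · rw [← hw]; exact (MorphismProperty.cancel_left_of_respectsIso @IsProper _ _).2 hp
  · rw [← hw]; exact (MorphismProperty.cancel_left_of_respectsIso @Smooth _ _).2 hs
  · rw [← hw]
    exact (MorphismProperty.cancel_left_of_respectsIso @GeometricallyIrreducible _ _).2 hi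
  · intro T T' g h
    show (e₀ T' ((g ≫ h) ≫ α)).1 = pull _ (e₀ T (h ≫ α)).1
    rw [Category.assoc, hn₀]
  · intro T g h
    show e₀ T ((g * h) ≫ α) = e₀ T (g ≫ α) * e₀ T (h ≫ α)
    obtain ⟨L, hL, hLc⟩ := hfam (e₀ T (g ≫ α))
    obtain ⟨M, hM, hMc⟩ := hfam (e₀ T (h ≫ α))
    obtain ⟨N, hN, hNc⟩ := hfam (e₀ T (g ≫ α) * e₀ T (h ≫ α))
    have hiso : Nonempty (N ≅ CohB1.tensorMod L M) := by
      refine (nonempty_iso_iff ((ok_iff hf 0 T N).1 hN).1 (isInvertible_tensorMod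
        ((ok_iff hf 0 T L).1 hL).1 ((ok_iff hf 0 T M).1 hM).1)).2 ?_
      rw [cls_tensorMod ((ok_iff hf 0 T L).1 hL).1 ((ok_iff hf 0 T M).1 hM).1, hLc, hMc, hNc]
      rfl
    have hval : ∀ (P : (ModFun.PicDeg f 0).Fam T) (hP : (ModFun.PicDeg f 0).ok T P)
        (a : T ⟶ J), cls ((ok_iff hf 0 T P).1 hP).1 = (e₀ T (a ≫ α)).1 →
        ψ.app T P trivial hP = a := fun P hP a h => by
      rw [hβ T P hP]
      show (e₀ T).symm (z T P hP) ≫ β = a
      rw [hzc _ P hP h, Equiv.symm_apply_apply, Category.assoc, hαβ, Category.comp_id]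
    have h3 := hJ.mul T trivial L M N hL hM hN hiso
    rw [hval L hL g hLc, hval M hM h hMc] at h3
    rw [← h3, ← hα T N trivial hN]
    show e₀ T ((e₀ T).symm (z T N hN)) = _
    rw [Equiv.apply_symm_apply]
    exact hzc _ N hN hNc
  · intro T hT L hL
    show (e₀ T (ψ.app T L hT hL ≫ α)).1 = _
    rw [← hα T L hT hL]
    show (e₀ T ((e₀ T).symm (z T L hL))).1 = _
    rw [Equiv.apply_symm_apply]

/-- The Abel map at the base point sends a point `x` to `O(x − P)`. -/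
theorem abel_eq (hf : IsPtCurve f) [GrpObj J] (ψ : (ModFun.PicDeg f 0).Hom ⊤ J)
    (e : ∀ T : Over (Spec (CommRingCat.of k)), (T ⟶ J) ≃ zeroClasses hf σ hσ T)
    (hψ : ∀ (T : Over (Spec (CommRingCat.of k))) (hT : (⊤ : ObjectProperty (Over _)) T)
      (L : (ModFun.PicDeg f 0).Fam T) (hL : (ModFun.PicDeg f 0).ok T L),
      (e T (ψ.app T L hT hL)).1 = (norm f σ hσ T (cls ((ok_iff hf 0 T L).1 hL).1)).1)
    {j : Over.mk f ⟶ J} (hj : Jac.IsAbelJacobiAt f σ ψ j) : j = abel e := by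
  obtain ⟨hP, L, hL, ⟨hLi, hiso⟩, rfl⟩ := hj
  have := hf.proper
  have := hf.smoothOne
  let C : Over (Spec (CommRingCat.of k)) := Over.mk f
  have := hf.smoothOne_proj C
  apply (e C).injective
  apply Subtype.ext
  rw [hψ, abel, Equiv.apply_symm_apply]
  show (norm f σ hσ C _).1 = (norm f σ hσ C (clsPt hf (𝟙 C) * (clsPt hf (zSec σ hσ C) ^ 1)⁻¹)).1
  rw [pow_one]
  have hΔ : gr (𝟙 C) = (pullback.diagonal f).ker := rfl
  have hIΔ : BlowUp.IsEffCartierIdeal (gr (𝟙 C)) :=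
    (isEffCartierIdeal_of_finLocFree (PicF.XTproj f C) (ptD hf (𝟙 C)).2).1
  have hIσ : BlowUp.IsEffCartierIdeal σ.ker := (Groth.Agent.S15990.result f σ hσ).1
  have hpb : gr (zSec σ hσ C) = σ.ker.comap (pullback.fst f C.hom) := by
    refine Groth.HilbPts.ideal_ext fun W w => ?_
    rw [Groth.HilbPts.secGraph_le_ker, ← Scheme.IdealSheafData.le_map_iff_comap_le,
      Scheme.IdealSheafData.map_ker]
    have : IsClosedImmersion σ := by
      have : IsClosedImmersion (σ ≫ f) := by rw [hσ]; infer_instance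
      exact IsClosedImmersion.of_comp σ f
    rw [← Groth.HilbPts.exists_fac_iff_ker_le]
    have hcond : (w ≫ pullback.fst f C.hom) ≫ f = w ≫ pullback.snd f C.hom ≫ C.hom := by
      rw [Category.assoc, pullback.condition]
    constructor
    · intro h
      refine ⟨(w ≫ pullback.fst f C.hom) ≫ f, ?_⟩
      rw [h]
      simp [zSec, C, hσ]
    · rintro ⟨v, hv⟩
      show w ≫ pullback.fst f C.hom = w ≫ pullback.snd f C.hom ≫ C.hom ≫ σ
      have h2 : (w ≫ pullback.fst f C.hom) ≫ f ≫ σ = w ≫ pullback.fst f C.hom := by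
        rw [← hv, Category.assoc, ← Category.assoc σ f, hσ, Category.id_comp]
      calc w ≫ pullback.fst f C.hom = ((w ≫ pullback.fst f C.hom) ≫ f) ≫ σ := by
            rw [Category.assoc]; exact h2.symm
        _ = _ := by rw [hcond]; simp only [Category.assoc]
  have hIz : BlowUp.IsEffCartierIdeal (σ.ker.comap (pullback.fst f C.hom)) :=
    hpb ▸ (isEffCartierIdeal_of_finLocFree (PicF.XTproj f C) (ptD hf (zSec σ hσ C)).2).1
  have hz : clsPt hf (zSec σ hσ C) = pull (pullback.fst f C.hom) (divCls hIσ) :=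
    (divCls_congr hpb (isEffCartierIdeal_of_finLocFree (PicF.XTproj f C)
      (ptD hf (zSec σ hσ C)).2).1 hIz).trans (pull_divCls _ hIσ hIz).symm
  have hd : clsPt hf (𝟙 C) = (cls (Groth.PicAux.isInvertible_idealMod (hΔ ▸ hIΔ)))⁻¹ :=
    divCls_congr hΔ hIΔ (hΔ ▸ hIΔ)
  have hcl : cls ((ok_iff hf 0 C L).1 hL).1 * cls (Groth.PicAux.isInvertible_idealMod (hΔ ▸ hIΔ)) =
      (pull (pullback.fst f C.hom) (divCls hIσ))⁻¹ := by
    rw [divCls, map_inv, inv_inv, pull_cls, ← cls_tensorMod]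
    exact (nonempty_iso_iff _ _).1 hiso
  rw [hz, hd, ← hcl, mul_comm (_⁻¹), mul_inv_cancel_right]

end Groth.PicField
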