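import Groth.Agent.PicField.AbelMono
import Groth.Agent.CurveBridge.FamilyH0
import Groth.Agent.CurveBridge.LinSeries
import Groth.Agent.CurveBridge.FromDivisor
import Groth.Agent.AlgGrp1.Sub
import Mathlib

/-!
# Points of the Jacobian of a curve over an algebraically closed field, as divisors
-/

set_option autoImplicit false
set_option linter.style.haveILetI false

universe u

open CategoryTheory CategoryTheory.Limits MonoidalCategory CartesianMonoidalCategory MonObj
  AlgebraicGeometry TopologicalSpace Opposite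
open Groth.Abvar.PicCalc Groth.CurveBridge
open Groth.ModelsGraphs.PicDim (zeroClasses)

set_option maxHeartbeats 1600000
set_option backward.isDefEq.respectTransparency false
set_option backward.defeqAttrib.useBackward true
set_option backward.isDefEq.respectTransparency.types false

noncomputable section

namespace Groth.PicField

open Groth.PicCurve Groth.DivNorm

section FunctionField

open Groth.FunFld1

variable {k K : Type u} [Field k] [Field K] [Algebra k K]

/-- Two different effective divisors in a class span at least a pencil. -/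
theorem two_le_ell (hK : FunFld.IsFunctionField k K) {D E : FunFld.Divisor k K} (hD : 0 ≤ D)
    (hE : 0 ≤ E) (hne : D ≠ E) {m₀ : K} (hm₀ : m₀ ≠ 0) (h : E = D + FunFld.div k m₀) :
    2 ≤ FunFld.ell D := by
  have hF : IsFF k K := IsFF.of_isFunctionField hK
  haveI := hF.finiteDimensional_L D
  have h1 : (1 : K) ∈ FunFld.L D := L_mono hD (by
    rw [L_zero_eq hK]; exact Submodule.mem_one.mpr ⟨1, map_one _⟩)
  have hm : m₀ ∈ FunFld.L D := fun P => by
    rw [val_le_exp_iff P hm₀]
    have h2 : (0 : ℤ) ≤ E P := hE P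
    rw [h, Finsupp.add_apply, hF.div_apply] at h2
    omega
  have hc : m₀ ∉ Set.range (algebraMap k K) := by
    rintro ⟨c, rfl⟩
    apply hne
    rw [h]
    ext P
    rw [Finsupp.add_apply, hF.div_apply, ord_algebraMap, add_zero]
  have hli : LinearIndependent k ![1, m₀] := by
    rw [LinearIndependent.pair_iff]
    intro s t hst
    rcases eq_or_ne t 0 with ht | ht
    · subst ht
      simp only [zero_smul, add_zero, smul_eq_zero, one_ne_zero, or_false] at hst
      exact ⟨hst, rfl⟩
    · refine absurd ?_ hc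
      refine ⟨-s / t, ?_⟩
      have ht' : algebraMap k K t ≠ 0 := (map_ne_zero _).mpr ht
      rw [Algebra.smul_def, Algebra.smul_def, _root_.mul_one] at hst
      rw [map_div₀, map_neg, div_eq_iff ht']
      linear_combination -hst
  calc 2 = Module.finrank k (Submodule.span k (Set.range ![1, m₀])) := by
        rw [finrank_span_eq_card hli, Fintype.card_fin]
    _ ≤ FunFld.ell D := Submodule.finrank_mono (Submodule.span_le.mpr (by
        rintro _ ⟨i, rfl⟩
        fin_cases i
        · exact h1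
        · exact hm))

variable [IsAlgClosed k] (hK : FunFld.IsFunctionField k K)
include hK

/-- Two points in the same class are equal in positive genus. -/
theorem eq_of_single_linEquiv (hg : 0 < FunFld.genus k K) {P Q : FunFld.Place k K} {m₀ : K}
    (hm₀ : m₀ ≠ 0)
    (h : (Finsupp.single Q 1 : FunFld.Divisor k K) = Finsupp.single P 1 + FunFld.div k m₀) :
    P = Q := by
  by_contra hne
  have h2 := two_le_ell hK (Finsupp.single_nonneg.mpr zero_le_one)
    (Finsupp.single_nonneg.mpr zero_le_one)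
    (fun h' => hne ((Finsupp.single_eq_single_iff _ _ _ _).1 h' |>.elim (·.1) (by simp))) hm₀ h
  have h1 := ell_single_one_eq_one hK hg
    (deg_eq_one_of_isAlgClosed (IsFF.of_isFunctionField hK) P)
  omega

/-- Through a given point there is a rigid pair avoiding any given point, in genus at least two. -/
theorem exists_pair_ell_lt (hg : 2 ≤ FunFld.genus k K) (P Q : FunFld.Place k K) :
    ∃ R, R ≠ Q ∧ FunFld.ell (Finsupp.single P 1 + Finsupp.single R 1 : FunFld.Divisor k K) < 2 := by
  classical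
  have hF : IsFF k K := IsFF.of_isFunctionField hK
  haveI := infinite_place hF
  by_contra hcon
  push Not at hcon
  obtain ⟨R₁, hR₁⟩ := Infinite.exists_notMem_finset {Q}
  obtain ⟨R₂, hR₂⟩ := Infinite.exists_notMem_finset {Q, R₁}
  simp only [Finset.mem_insert, Finset.mem_singleton, not_or] at hR₁ hR₂
  have hd : ∀ R : FunFld.Place k K,
      (Finsupp.single P 1 + Finsupp.single R 1 : FunFld.Divisor k K).deg = 2 := fun R => by
    rw [deg_add, deg_single, deg_single, deg_eq_one_of_isAlgClosed hF P,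
      deg_eq_one_of_isAlgClosed hF R]
    rfl
  have hp : ∀ R : FunFld.Place k K,
      (0 : FunFld.Divisor k K) ≤ Finsupp.single P 1 + Finsupp.single R 1 := fun R =>
    add_nonneg (Finsupp.single_nonneg.mpr zero_le_one) (Finsupp.single_nonneg.mpr zero_le_one)
  obtain ⟨w, hw, he⟩ := linEquiv_of_effective_g12 hK hg (hp R₁) (hp R₂) (hd R₁) (hd R₂)
    (hcon R₁ hR₁) (hcon R₂ hR₂.1)
  refine hR₂.2 (eq_of_single_linEquiv hK (P := R₁) (Q := R₂) (by omega) hw ?_).symm
  have : (Finsupp.single P 1 + Finsupp.single R₂ 1 : FunFld.Divisor k K) =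
      Finsupp.single P 1 + (Finsupp.single R₁ 1 + FunFld.div k w) := by
    rw [← add_assoc, he, sub_add_cancel]
  exact add_left_cancel this

end FunctionField

variable (k : Type u) [Field k] {X : Scheme.{u}} [X.Over (Spec (CommRingCat.of k))]
  [IsProper (X ↘ Spec (CommRingCat.of k))] [IsIntegral X] (h : IsRegCurve X)

/-- A divisor of an invertible class. -/
def IsDivCls (c : PicLoc.PicSet X) (D : FunFld.Divisor k X.functionField) : Prop :=
  ∃ (L : X.Modules) (hL : PicF.IsInvertible L) (φ : L ⟶ constK X),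
    cls hL = c ∧ IsDivEmb h φ D

variable {k} (hK : FunFld.IsFunctionField k X.functionField)

include hK in
theorem exists_isDivCls (c : PicLoc.PicSet X) : ∃ D, IsDivCls k h c D := by
  obtain ⟨L, hL, rfl⟩ := PicGrp.exists_eq_cls c
  obtain ⟨φ, D, hφ, -⟩ := exists_divEmb h hK hL
  exact ⟨D, L, hL, φ, rfl, hφ⟩

variable {h}

theorem IsDivCls.mul {c d : PicLoc.PicSet X} {D E : FunFld.Divisor k X.functionField}
    (hc : IsDivCls k h c D) (hd : IsDivCls k h d E) : IsDivCls k h (c * d) (D + E) := by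
  obtain ⟨L, hL, φ, rfl, hφ⟩ := hc
  obtain ⟨M, hM, ψ, rfl, hψ⟩ := hd
  obtain ⟨χ, hχ⟩ := exists_divEmb_tensor h hL hM hφ hψ
  exact ⟨_, isInvertible_tensorMod hL hM, χ, cls_tensorMod hL hM, hχ⟩

theorem IsDivCls.add_div {c : PicLoc.PicSet X} {D : FunFld.Divisor k X.functionField}
    (hc : IsDivCls k h c D) {m₀ : X.functionField} (hm₀ : m₀ ≠ 0) :
    IsDivCls k h c (D + FunFld.div k m₀) := by
  obtain ⟨L, hL, φ, rfl, hφ⟩ := hc
  obtain ⟨ψ, hψ⟩ := exists_divEmb_add_div h hφ hm₀
  exact ⟨L, hL, ψ, rfl, hψ⟩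

include hK in
theorem IsDivCls.linEquiv {c : PicLoc.PicSet X} {D E : FunFld.Divisor k X.functionField}
    (hc : IsDivCls k h c D) (hd : IsDivCls k h c E) :
    ∃ m₀ : X.functionField, m₀ ≠ 0 ∧ E = D + FunFld.div k m₀ := by
  obtain ⟨L, hL, φ, rfl, hφ⟩ := hc
  obtain ⟨M, hM, ψ, hcl, hψ⟩ := hd
  exact linEquiv_of_iso h hK hL hM hφ hψ ((nonempty_iso_iff hL hM).2 hcl.symm).some

include hK in
theorem IsDivCls.eq {c d : PicLoc.PicSet X} {D E : FunFld.Divisor k X.functionField}
    (hc : IsDivCls k h c D) (hd : IsDivCls k h d E) {m₀ : X.functionField} (hm₀ : m₀ ≠ 0)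
    (he : E = D + FunFld.div k m₀) : c = d := by
  obtain ⟨L, hL, φ, rfl, hφ⟩ := hc
  obtain ⟨M, hM, ψ, rfl, hψ⟩ := hd
  exact (nonempty_iso_iff hL hM).1 (nonempty_iso_of_linEquiv h hK hL hM hφ hψ hm₀ he)

include hK in
theorem isDivCls_one : IsDivCls k h 1 0 := by
  obtain ⟨D, hD⟩ := exists_isDivCls h hK (1 : PicLoc.PicSet X)
  have h2 := hD.mul hD
  rw [_root_.one_mul] at h2
  obtain ⟨m₀, hm₀, he⟩ := hD.linEquiv hK h2
  have hF := isFF k X h.dim
  have h3 := hD.add_div (inv_ne_zero hm₀)
  rwa [hF.div_inv, show D = FunFld.div k m₀ from add_left_cancel he, add_neg_cancel] at h3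

include hK in
theorem IsDivCls.inv {c : PicLoc.PicSet X} {D : FunFld.Divisor k X.functionField}
    (hc : IsDivCls k h c D) : IsDivCls k h c⁻¹ (-D) := by
  obtain ⟨E, hE⟩ := exists_isDivCls h hK c⁻¹
  have h2 := hc.mul hE
  rw [mul_inv_cancel] at h2
  obtain ⟨m₀, hm₀, he⟩ := h2.linEquiv hK (isDivCls_one hK)
  have h3 := hE.add_div hm₀
  rwa [show E + FunFld.div k m₀ = -D by
    rw [eq_neg_iff_add_eq_zero, he]; abel] at h3

include hK in
theorem IsDivCls.prod {n : ℕ} {c : Fin n → PicLoc.PicSet X}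
    {D : Fin n → FunFld.Divisor k X.functionField} (hc : ∀ i, IsDivCls k h (c i) (D i)) :
    IsDivCls k h (∏ i, c i) (∑ i, D i) := by
  induction n with
  | zero => simpa using isDivCls_one hK
  | succ n ih =>
    rw [Fin.prod_univ_succ, Fin.sum_univ_succ]
    exact (hc 0).mul (ih fun i => hc i.succ)

/-! ### Rational points -/

variable (h) in
/-- The place of a rational point. -/
def plOf (x : 𝟙_ (Over (Spec (CommRingCat.of k))) ⟶ Over.mk (X ↘ Spec (CommRingCat.of k))) :
    FunFld.Place k X.functionField :=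
  placeAt (k := k) h ⟨x.left.base (IsLocalRing.closedPoint k), by
    let s : Spec (CommRingCat.of k) ⟶ X := x.left
    have hw : s ≫ (X ↘ Spec (CommRingCat.of k)) = 𝟙 (Spec (CommRingCat.of k)) := Over.w x
    have : IsClosedImmersion (s ≫ (X ↘ Spec (CommRingCat.of k))) := by
      rw [hw]; infer_instance
    have : IsClosedImmersion x.left := IsClosedImmersion.of_comp s (X ↘ Spec (CommRingCat.of k))
    have hr : Set.range x.left.base = {x.left.base (IsLocalRing.closedPoint k)} :=
      Set.eq_singleton_iff_unique_mem.2 ⟨⟨_, rfl⟩, by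
        rintro _ ⟨p, rfl⟩
        exact congrArg _ (Subsingleton.elim (α := PrimeSpectrum k) _ _)⟩
    exact hr ▸ x.left.isClosedEmbedding.isClosed_range⟩

theorem plOf_eq (x : 𝟙_ (Over (Spec (CommRingCat.of k))) ⟶ Over.mk (X ↘ Spec (CommRingCat.of k)))
    (y : Pt X) (hy : x.left.base (IsLocalRing.closedPoint k) = y.1) :
    plOf h x = placeAt (k := k) h y :=
  congrArg (placeAt (k := k) h) (Subtype.ext hy)

theorem plOf_injective [IsAlgClosed k] :
    Function.Injective (plOf h : _ → FunFld.Place k X.functionField) := by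
  intro x y hxy
  have h1 : x.left.base (IsLocalRing.closedPoint k) = y.left.base (IsLocalRing.closedPoint k) :=
    congrArg Subtype.val (placeAt_injective h hxy)
  let a : Spec (CommRingCat.of k) ⟶ X := x.left
  let b : Spec (CommRingCat.of k) ⟶ X := y.left
  exact Over.OverMorphism.ext (show a = b from ext_of_apply_closedPoint_eq
    (X ↘ Spec (CommRingCat.of k)) (Over.w x) (Over.w y) h1)

theorem plOf_surjective [IsAlgClosed k] :
    Function.Surjective (plOf h : _ → FunFld.Place k X.functionField) := by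
  intro P
  obtain ⟨y, rfl⟩ := placeAt_surjective h P
  exact ⟨Over.homMk (pointOfClosedPoint (X ↘ Spec (CommRingCat.of k)) y.1 y.2)
    (pointOfClosedPoint_comp _ y.1 y.2), plOf_eq (h := h) _ y
      (pointOfClosedPoint_apply (X ↘ Spec (CommRingCat.of k)) y.1 y.2 _)⟩

variable {σ : Spec (CommRingCat.of k) ⟶ X}
  {hσ : σ ≫ (X ↘ Spec (CommRingCat.of k)) = 𝟙 (Spec (CommRingCat.of k))}
  (hf : IsPtCurve (X ↘ Spec (CommRingCat.of k)))

/-- The curve as its own extension by the ground field. -/
def toPtFibre : X ⟶ PicF.XT (X ↘ Spec (CommRingCat.of k)) (𝟙_ (Over (Spec (CommRingCat.of k)))) :=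
  pullback.lift (𝟙 X) (X ↘ Spec (CommRingCat.of k)) (by simp [Over.tensorUnit_hom])

theorem gr_point {σ' : Spec (CommRingCat.of k) ⟶ X}
    (hσ' : σ' ≫ (X ↘ Spec (CommRingCat.of k)) = 𝟙 (Spec (CommRingCat.of k)))
    (T : Over (Spec (CommRingCat.of k))) :
    gr (zSec σ' hσ' T) = σ'.ker.comap (pullback.fst (X ↘ Spec (CommRingCat.of k)) T.hom) := by
  let f := X ↘ Spec (CommRingCat.of k)
  refine Groth.HilbPts.ideal_ext fun W w => ?_
  rw [Groth.HilbPts.secGraph_le_ker, ← Scheme.IdealSheafData.le_map_iff_comap_le,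
    Scheme.IdealSheafData.map_ker]
  have : IsClosedImmersion σ' := by
    have : IsClosedImmersion (σ' ≫ f) := by rw [hσ']; infer_instance
    exact IsClosedImmersion.of_comp σ' f
  rw [← Groth.HilbPts.exists_fac_iff_ker_le]
  have hcond : (w ≫ pullback.fst f T.hom) ≫ f = w ≫ pullback.snd f T.hom ≫ T.hom := by
    rw [Category.assoc, pullback.condition]
  constructor
  · intro h
    refine ⟨(w ≫ pullback.fst f T.hom) ≫ f, ?_⟩
    rw [h]
    simp [zSec, f, hσ']
  · rintro ⟨v, hv⟩
    show w ≫ pullback.fst f T.hom = w ≫ pullback.snd f T.hom ≫ T.hom ≫ σ'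
    have h2 : (w ≫ pullback.fst f T.hom) ≫ f ≫ σ' = w ≫ pullback.fst f T.hom := by
      rw [← hv, Category.assoc, ← Category.assoc σ' f, hσ', Category.id_comp]
    calc w ≫ pullback.fst f T.hom = ((w ≫ pullback.fst f T.hom) ≫ f) ≫ σ' := by
          rw [Category.assoc]; exact h2.symm
      _ = _ := by rw [hcond]; simp only [Category.assoc]

include hK in
/-- The class of a point has the point as a divisor. -/
theorem isDivCls_clsPt (x : 𝟙_ _ ⟶ Over.mk (X ↘ Spec (CommRingCat.of k))) :
    IsDivCls k h (pull toPtFibre (clsPt hf x)) (Finsupp.single (plOf h x) 1) := by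
  let f := X ↘ Spec (CommRingCat.of k)
  have := hf.proper
  have := hf.smoothOne
  obtain ⟨s, hw, rfl⟩ : ∃ (s : Spec (CommRingCat.of k) ⟶ X)
      (hw : s ≫ f = 𝟙 (Spec (CommRingCat.of k))),
      x = zSec s hw (𝟙_ _) :=
    ⟨x.left, Over.w x, Over.OverMorphism.ext (by simp [zSec])⟩
  have hI : BlowUp.IsEffCartierIdeal s.ker := (Groth.Agent.S15990.result f s hw).1
  have hI' : BlowUp.IsEffCartierIdeal
      (s.ker.comap (pullback.fst f (𝟙_ (Over (Spec (CommRingCat.of k)))).hom)) := by
    have := hf.smoothOne_proj (𝟙_ (Over (Spec (CommRingCat.of k))))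
    rw [← gr_point hw]
    exact (isEffCartierIdeal_of_finLocFree (PicF.XTproj f _)
      (ptD hf (zSec s hw (𝟙_ _))).2).1
  have hc : clsPt hf (zSec s hw (𝟙_ _)) = pull (pullback.fst f _) (divCls hI) := by
    rw [pull_divCls _ hI hI']
    exact divCls_congr (gr_point hw _)
      (isEffCartierIdeal_of_finLocFree (PicF.XTproj f _) (ptD hf (zSec s hw (𝟙_ _))).2).1 hI'
  have hid : toPtFibre ≫ pullback.fst f (𝟙_ (Over (Spec (CommRingCat.of k)))).hom = 𝟙 X :=
    pullback.lift_fst _ _ _
  rw [hc, ← pull_comp, hid, pull_id]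
  obtain ⟨y, hy, -, hker⟩ := Groth.Agent.S17807.exists_point k X h s hw
  obtain ⟨hiy, χ, hχ⟩ := exists_divEmb_pointIdeal (k := k) h y
  have key : IsDivCls k h (cls (Groth.PicAux.isInvertible_idealMod hI))
      (-(Finsupp.single (placeAt (k := k) h y) 1)) := by
    have : ∀ I, I = Scheme.IdealSheafData.vanishingIdeal ⟨{y.1}, y.2⟩ →
        ∀ hJ : PicF.IsInvertible (ClSub.idealMod I),
        IsDivCls k h (cls hJ) (-(Finsupp.single (placeAt (k := k) h y) 1)) := by
      rintro I rfl hJ
      exact ⟨_, hJ, χ, rfl, hχ⟩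
    exact this _ hker _
  have h2 := key.inv hK
  rw [neg_neg] at h2
  have hxy : (zSec s hw (𝟙_ (Over (Spec (CommRingCat.of k))))).left = s := Category.id_comp s
  rw [plOf_eq (h := h) _ y (by rw [hxy]; exact hy _)]
  exact h2

include hK in
/-- Equal sums of points in the Jacobian are linearly equivalent divisors. -/
theorem linEquiv_of_prod_ajPt {n : ℕ}
    (x y : Fin n → (𝟙_ _ ⟶ Over.mk (X ↘ Spec (CommRingCat.of k))))
    (he : ∏ i, ajPt σ hσ hf (x i) = ∏ i, ajPt σ hσ hf (y i)) :
    ∃ m₀ : X.functionField, m₀ ≠ 0 ∧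
      (∑ i, Finsupp.single (plOf h (y i)) 1 : FunFld.Divisor k X.functionField) =
        (∑ i, Finsupp.single (plOf h (x i)) 1) + FunFld.div k m₀ := by
  let f := X ↘ Spec (CommRingCat.of k)
  let T := 𝟙_ (Over (Spec (CommRingCat.of k)))
  haveI : Subsingleton T.left := inferInstanceAs (Subsingleton (PrimeSpectrum k))
  have hn : ∀ c, normHom σ hσ T c = c := fun c => by
    show (c * (pull _ (pull _ c))⁻¹ : PicLoc.PicSet (PicF.XT f T)) = c
    rw [eq_one_of_subsingleton (pull (PicF.secT f σ hσ T) c), map_one, inv_one, _root_.mul_one]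
  have hsum : ∀ w : Fin n → (T ⟶ Over.mk f), (∏ i, ajPt σ hσ hf (w i)).1 =
      (∏ i, clsPt hf (w i)) * (clsPt hf (zSec σ hσ T) ^ n)⁻¹ := fun w => by
    rw [← divPoint_sumD, ← dC_sumD]
    exact hn _
  have h2 := congrArg Subtype.val he
  rw [hsum, hsum] at h2
  have h3 := congrArg (pull toPtFibre) (mul_right_cancel h2)
  rw [map_prod, map_prod] at h3
  have hx := IsDivCls.prod hK fun i => isDivCls_clsPt hK hf (x i) (h := h)
  have hy := IsDivCls.prod hK fun i => isDivCls_clsPt hK hf (y i) (h := h)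
  rw [← h3] at hy
  exact hx.linEquiv hK hy

end Groth.PicField
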