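import Groth.Agent.PicAux.RigPoints
import Groth.Agent.Misc8.FppfSubCover
import Groth.Agent.ModelsGraphs.PicDim.PicZero
import Groth.Prelude.Def_AlgSpRep
import Mathlib

/-!
# The fppf sheaf of rigidified classes of degree zero on a pointed curve over a field
-/

universe u

open CategoryTheory CategoryTheory.Limits AlgebraicGeometry TopologicalSpace Opposite AlgSp
open Groth.Abvar.PicCalc
open Groth.Flatmor4.OverRep (piece pieceHom)
open Groth.ModelsGraphs.PicDim (zeroClasses zeroClasses_map degC_map)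
open Groth.PicAux.RigDescent

set_option maxHeartbeats 1600000
set_option backward.isDefEq.respectTransparency false
set_option backward.defeqAttrib.useBackward true
set_option backward.isDefEq.respectTransparency.types false

noncomputable section

namespace Groth.PicField

open Groth.PicCurve

variable {k : Type u} [Field k] {X : Scheme.{u}} {f : X ⟶ Spec (CommRingCat.of k)}
  {σ : Spec (CommRingCat.of k) ⟶ X} {hσ : σ ≫ f = 𝟙 (Spec (CommRingCat.of k))}

/-- Restriction of classes of degree zero, as a group homomorphism. -/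
def resZ (hf : IsPtCurve f) {T T' : Over (Spec (CommRingCat.of k))} (g : T' ⟶ T) :
    zeroClasses hf σ hσ T →* zeroClasses hf σ hσ T' :=
  MonoidHom.mk' (fun c => ⟨pull (PicF.XTmap f g) c.1, zeroClasses_map hf g c.2⟩)
    fun _ _ => Subtype.ext (map_mul _ _ _)

/-- The presheaf of groups of rigidified classes of degree zero. -/
def zGrp (hf : IsPtCurve f) (σ : Spec (CommRingCat.of k) ⟶ X)
    (hσ : σ ≫ f = 𝟙 (Spec (CommRingCat.of k))) :
    (Over (Spec (CommRingCat.of k)))ᵒᵖ ⥤ GrpCat.{u + 1} where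
  obj T := GrpCat.of (zeroClasses hf σ hσ T.unop)
  map g := GrpCat.ofHom (resZ hf g.unop)
  map_id T := GrpCat.hom_ext (MonoidHom.ext fun c => Subtype.ext (by
    show pull (PicF.XTmap f (𝟙 T.unop)) c.1 = c.1
    rw [XTmap_id', pull_id]))
  map_comp g h := GrpCat.hom_ext (MonoidHom.ext fun c => Subtype.ext (by
    show pull (PicF.XTmap f (h.unop ≫ g.unop)) c.1 = pull _ (pull _ c.1)
    rw [XTmap_comp', pull_comp]))

/-- The presheaf of sets of rigidified classes of degree zero. -/
def zP (hf : IsPtCurve f) (σ : Spec (CommRingCat.of k) ⟶ X)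
    (hσ : σ ≫ f = 𝟙 (Spec (CommRingCat.of k))) : PSp (Spec (CommRingCat.of k)) :=
  zGrp hf σ hσ ⋙ forget _

variable (hf : IsPtCurve f)

/-- A class of degree zero as a rigidified class. -/
def toR {T : Over (Spec (CommRingCat.of k))} (c : (zP hf σ hσ).obj (op T)) : RS f σ hσ T :=
  ⟨(show zeroClasses hf σ hσ T from c).1, (show zeroClasses hf σ hσ T from c).2.1⟩

theorem toR_injective {T : Over (Spec (CommRingCat.of k))} :
    Function.Injective (toR hf (σ := σ) (hσ := hσ) (T := T)) := fun c d h => by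
  have := congrArg Subtype.val h
  exact Subtype.ext this

theorem toR_map {T T' : Over (Spec (CommRingCat.of k))} (g : T' ⟶ T)
    (c : (zP hf σ hσ).obj (op T)) : toR hf ((zP hf σ hσ).map g.op c) = (toR hf c).map g := rfl

include hf in
theorem const_top (T : Over (Spec (CommRingCat.of k))) :
    Function.Bijective (PicF.XTproj f T).appTop := hf.constFun T ⊤

/-- A covering sieve is refined by faithfully flat maps onto the members of an open cover. -/
theorem exists_refine_sieve {S : Scheme.{u}} {T : Over S} {R : Sieve T} (hR : R ∈ AlgSp.J S T) :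
    ∃ (𝒰 : Scheme.OpenCover.{u} T.left) (U : 𝒰.I₀ → Over S) (v : ∀ i, U i ⟶ piece T 𝒰 i),
      ∀ i, Flat (v i).left ∧ LocallyOfFinitePresentation (v i).left ∧ Surjective (v i).left ∧
        R (v i ≫ pieceHom T 𝒰 i) := by
  choose V g hg hg' hx hgR using fun x => Groth.Misc8.FppfSubCover.exists_of_mem_J hR x
  have hC : Presieve.ofArrows (fun x => (V x).left) (fun x => (g x).left) ∈
      Scheme.fppfPrecoverage T.left := by
    rw [Scheme.fppfPrecoverage, Scheme.ofArrows_mem_precoverage_iff]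
    exact ⟨fun x => ⟨x, (hx x).choose, (hx x).choose_spec⟩, fun x => ⟨hg x, hg' x⟩⟩
  obtain ⟨𝒰, U, v, hv⟩ := Groth.PicAux.RigPoints.exists_refine T hC
  refine ⟨𝒰, U, v, fun i => ?_⟩
  obtain ⟨h1, h2, h3, W, u, hu, j, hj⟩ := hv i
  refine ⟨h1, h2, h3, ?_⟩
  rw [← hj]
  cases hu with
  | mk x =>
    refine R.downward_closed ?_ j
    convert R.downward_closed (hgR x) (Over.homMk (𝟙 (V x).left) (by simp) :
      AbDual.ovr T (g x).left ⟶ V x) using 1
    ext : 1
    simp

/-- Rigidified classes agreeing on a covering sieve agree. -/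
theorem ext_of_sieve {T : Over (Spec (CommRingCat.of k))} {R : Sieve T}
    (hR : R ∈ AlgSp.J _ T) {a b : RS f σ hσ T} (hf : IsPtCurve f)
    (h : ∀ ⦃Z : Over (Spec (CommRingCat.of k))⦄ (g : Z ⟶ T), R g → a.map g = b.map g) : a = b := by
  obtain ⟨𝒰, U, v, hv⟩ := exists_refine_sieve hR
  refine PicCurve.ext_of_cover hf.constFun 𝒰 fun i => ?_
  obtain ⟨_, _, _, hRi⟩ := hv i
  refine map_injective (v i) (mem_fpqc_XTmap (v i)) (const_top hf _) ?_
  show (a.map _).map _ = (b.map _).map _
  rw [PicCurve.map_map, PicCurve.map_map]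
  exact h _ hRi

/-- Rigidified classes of degree zero form an fppf sheaf. -/
theorem isSheaf_zP : Presheaf.IsSheaf (AlgSp.J (Spec (CommRingCat.of k))) (zP hf σ hσ) := by
  rw [isSheaf_iff_isSheaf_of_type]
  intro T R hR x hx
  obtain ⟨𝒰, U, v, hv⟩ := exists_refine_sieve hR
  let xr : ∀ ⦃Z : Over (Spec (CommRingCat.of k))⦄ (g : Z ⟶ T), R g → RS f σ hσ Z :=
    fun Z g hg => toR hf (x g hg)
  have hcomp : ∀ ⦃Z Z' W : Over (Spec (CommRingCat.of k))⦄ (g : Z ⟶ T) (g' : Z' ⟶ T)
      (hg : R g) (hg' : R g') (p : W ⟶ Z) (q : W ⟶ Z'), p ≫ g = q ≫ g' →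
      (xr g hg).map p = (xr g' hg').map q := fun Z Z' W g g' hg hg' p q e => by
    rw [← toR_map, ← toR_map]
    exact congrArg (toR hf) (hx p q hg hg' e)
  have hloc : ∀ i, ∃ c : RS f σ hσ (piece T 𝒰 i),
      c.map (v i) = xr (v i ≫ pieceHom T 𝒰 i) (hv i).2.2.2 := fun i => by
    obtain ⟨_, _, _, hRi⟩ := hv i
    exact exists_map_eq (v i) (mem_fpqc_XTmap (v i)) (const_top hf _) (const_top hf _) _
      (hcomp _ _ hRi hRi (pr₁ (v i)) (pr₂ (v i)) (by
        rw [← Category.assoc, ← Category.assoc, pr_condition]))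
  choose c hc using hloc
  have hsame : ∀ i {W : Over (Spec (CommRingCat.of k))} (p : W ⟶ piece T 𝒰 i)
      {Z : Over (Spec (CommRingCat.of k))} (g : Z ⟶ T) (hg : R g) (q : W ⟶ Z),
      p ≫ pieceHom T 𝒰 i = q ≫ g → (c i).map p = (xr g hg).map q := by
    intro i W p Z g hg q e
    obtain ⟨_, _, _, hRi⟩ := hv i
    let W' : Over (Spec (CommRingCat.of k)) := AbDual.ovr W (pullback.fst p.left (v i).left)
    let a : W' ⟶ W := AbDual.ovrHom W (pullback.fst p.left (v i).left)
    let b : W' ⟶ U i := Over.homMk (pullback.snd p.left (v i).left) (by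
      show _ = pullback.fst p.left (v i).left ≫ W.hom
      rw [← Over.w p, ← Over.w (v i), pullback.condition_assoc])
    have hab : a ≫ p = b ≫ v i := Over.OverMorphism.ext pullback.condition
    have : Flat a.left := MorphismProperty.pullback_fst (P := @Flat) _ _ ‹_›
    have : LocallyOfFinitePresentation a.left :=
      MorphismProperty.pullback_fst (P := @LocallyOfFinitePresentation) _ _ ‹_›
    have : Surjective a.left := MorphismProperty.pullback_fst (P := @Surjective) _ _ ‹_›
    refine map_injective a (mem_fpqc_XTmap a) (const_top hf _) ?_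
    show ((c i).map p).map a = ((xr g hg).map q).map a
    rw [PicCurve.map_map, hab, ← PicCurve.map_map, hc, PicCurve.map_map]
    exact hcomp _ _ hRi hg b (a ≫ q) (by rw [← Category.assoc, ← hab, Category.assoc, e, Category.assoc])
  obtain ⟨d, hd⟩ := PicCurve.exists_of_cover hf.constFun 𝒰 c fun i j W p q e => by
    refine ext_of_sieve ((AlgSp.J _).pullback_stable (p ≫ pieceHom T 𝒰 i) hR) hf fun Z g hg => ?_
    rw [PicCurve.map_map, PicCurve.map_map,
      hsame i (g ≫ p) _ hg (𝟙 Z) (by rw [Category.id_comp, Category.assoc]),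
      hsame j (g ≫ q) _ hg (𝟙 Z) (by rw [Category.id_comp, Category.assoc, e])]
  have hdg : ∀ ⦃Z : Over (Spec (CommRingCat.of k))⦄ (g : Z ⟶ T) (hg : R g),
      d.map g = xr g hg := fun Z g hg => by
    let 𝒱 : Scheme.OpenCover.{u} Z.left := 𝒰.pullback₁ g.left
    refine PicCurve.ext_of_cover hf.constFun 𝒱 fun i => ?_
    let p : piece Z 𝒱 i ⟶ piece T 𝒰 i := Over.homMk (pullback.snd g.left (𝒰.f i)) (by
      show pullback.snd g.left (𝒰.f i) ≫ 𝒰.f i ≫ T.hom = pullback.fst g.left (𝒰.f i) ≫ Z.hom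
      rw [← Over.w g, pullback.condition_assoc])
    have hp : p ≫ pieceHom T 𝒰 i = pieceHom Z 𝒱 i ≫ g :=
      Over.OverMorphism.ext pullback.condition.symm
    rw [PicCurve.map_map, ← hp, ← PicCurve.map_map, hd]
    exact hsame i p g hg _ hp
  have hdeg : ∀ t, degC (PicF.XTproj f T) d.1 t = 0 := fun t => by
    obtain ⟨V, g, -, -, ⟨y, rfl⟩, hg⟩ := Groth.Misc8.FppfSubCover.exists_of_mem_J hR t
    refine (degC_map hf g d.1 y).symm.trans ?_
    rw [show pull (PicF.XTmap f g) d.1 = (xr g hg).1 from congrArg Subtype.val (hdg g hg)]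
    exact (show zeroClasses hf σ hσ V from x g hg).2.2 y
  refine ⟨(⟨d.1, d.2, hdeg⟩ : zeroClasses hf σ hσ T), fun Z g hg => toR_injective hf ?_,
    fun e he => toR_injective hf (ext_of_sieve hR hf fun Z g hg => ?_)⟩
  · rw [toR_map]; exact hdg g hg
  · rw [← toR_map]
    exact (congrArg (toR hf) (he g hg)).trans (hdg g hg).symm

/-- The sheaf of rigidified classes of degree zero. -/
def zSp (hf : IsPtCurve f) (σ : Spec (CommRingCat.of k) ⟶ X)
    (hσ : σ ≫ f = 𝟙 (Spec (CommRingCat.of k))) : Sp (Spec (CommRingCat.of k)) :=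
  ⟨zP hf σ hσ, isSheaf_zP hf⟩

end Groth.PicField
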