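import Groth.Agent.PicField.Cover
import Groth.Agent.HenselPoint.SigmaRep
import Groth.Agent.AlgSpBasic.Quotient
import Groth.Agent.AlgSpBasic.Compact
import Groth.Agent.SpLimit.GroupScheme
import Groth.Agent.EtaleBase.FpqcDescent
import Mathlib

/-!
# The degree zero Picard sheaf of a pointed curve over a field is a scheme
-/

universe u

open CategoryTheory CategoryTheory.Limits AlgebraicGeometry TopologicalSpace Opposite AlgSp
open Groth.Abvar.PicCalc Groth.AlgSpBasic
open Groth.ModelsGraphs.PicDim (zeroClasses zeroClasses_map degC_map exists_picZero)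

set_option maxHeartbeats 1600000
set_option backward.isDefEq.respectTransparency false
set_option backward.defeqAttrib.useBackward true
set_option backward.isDefEq.respectTransparency.types false

noncomputable section

namespace Groth.PicField

open Groth.PicCurve

variable {k : Type u} [Field k] {X : Scheme.{u}} {f : X ⟶ Spec (CommRingCat.of k)}
  {σ : Spec (CommRingCat.of k) ⟶ X} {hσ : σ ≫ f = 𝟙 (Spec (CommRingCat.of k))}
  (hf : IsPtCurve f)
  (K : Type u) [Field K] [Algebra k K] [Algebra.IsSeparable k K] [IsSepClosed K]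

/-- Zero classes on a base change are zero classes. -/
theorem exists_zero_equiv (T : Over (Spec (CommRingCat.of K))) :
    let b := Spec.map (CommRingCat.ofHom (algebraMap k K))
    ∀ (sK : Spec (CommRingCat.of K) ⟶ pullback f b) (hsK : sK ≫ pullback.snd f b = 𝟙 _)
      (hsb : sK ≫ pullback.fst f b = b ≫ σ)
      (hfK : IsPtCurve (pullback.snd f b)),
    ∃ e : zeroClasses hf σ hσ (RelBC.toBase b T) ≃ zeroClasses hfK sK hsK T,
      ∀ c, (e c).1 = pull (RelBC.xtIso f b T).hom c.1 := by
  intro b sK hsK hsb hfK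
  let i := RelBC.xtIso f b T
  have hsec : PicF.secT (pullback.snd f b) sK hsK T ≫ i.hom = PicF.secT f σ hσ (RelBC.toBase b T) := by
    apply pullback.hom_ext
    · simp [i, RelBC.xtIso, PicF.secT, pullback.lift_fst, pullback.lift_fst_assoc]
      rw [hsb]
    · simp [i, RelBC.xtIso, PicF.secT, pullback.lift_snd]
  have : IsProper (PicF.XTproj f (RelBC.toBase b T)) := hf.isProper_proj _
  have := hf.smooth_proj (RelBC.toBase b T)
  have sq : IsPullback i.hom (PicF.XTproj (pullback.snd f b) T)
      (PicF.XTproj f (RelBC.toBase b T)) (𝟙 _) :=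
    IsPullback.of_horiz_isIso ⟨by rw [RelBC.xtIso_proj]; exact (Category.comp_id _).symm⟩
  let fwd : zeroClasses hf σ hσ (RelBC.toBase b T) → zeroClasses hfK sK hsK T := fun c =>
    ⟨pull i.hom c.1, by
      refine ⟨?_, fun t => ?_⟩
      · rw [← pull_comp, hsec]; exact c.2.1
      · rw [degC_baseChange _ sq]; exact c.2.2 _⟩
  refine ⟨Equiv.ofBijective fwd ⟨fun c d h => ?_, fun d => ?_⟩, fun c => rfl⟩
  · exact Subtype.ext (RelBC.pull_xtIso_injective (f := f) b T (congrArg Subtype.val h))
  · have hback : pull i.hom (pull i.inv d.1) = d.1 := by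
      rw [← pull_comp, Iso.hom_inv_id, pull_id]
    refine ⟨⟨pull i.inv d.1, ?_, fun t => ?_⟩, Subtype.ext hback⟩
    · rw [← hsec, pull_comp, hback]; exact d.2.1
    · refine Eq.trans ?_ (d.2.2 t)
      conv_rhs => rw [← hback, degC_baseChange _ sq]
      rfl

variable (H : Over (Spec (CommRingCat.of k))) (Z : HilbD.Obj f (genus f) H)

/-- A small set of indices. -/
abbrev SIdx : Type u :=
  Σ s : Stage k K, Shrink.{u} {N : PicLoc.PicSet (PicF.XT f (stageObj s)) //
    ∀ e, degC (PicF.XTproj f (stageObj s)) N e = genus f}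

/-- The twist of an index. -/
abbrev SIdx.N (i : SIdx K (f := f)) :
    {N : PicLoc.PicSet (PicF.XT f (stageObj i.1)) //
      ∀ e, degC (PicF.XTproj f (stageObj i.1)) N e = genus f} :=
  (equivShrink _).symm i.2

variable {hZ : HilbD.IsUniversal f (genus f) H Z}

include K hf hZ in
/-- The sheaf of rigidified classes of degree zero is an algebraic space. -/
theorem isAlgSpace_zSp : IsAlgSpace (zSp hf σ hσ) := by
  let V : SIdx K (f := f) → Over (Spec (CommRingCat.of k)) := fun i => chartObj hf H Z (stageObj i.1)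
  let x : ∀ i, (yon _).obj (V i) ⟶ zSp hf σ hσ := fun i =>
    chartMap (σ := σ) (hσ := hσ) hf H Z (SIdx.N K i).1 (SIdx.N K i).2
  obtain ⟨π, hπ, -⟩ := Groth.AlgSp2.exists_glue V x
  have he : RepWith @Etale π := Groth.HenselPoint.repWith_sigma π fun i => by
    rw [hπ i]
    have := etale_stage (K := K) i.1
    exact repWith_etale_chartMap hf H Z _ hZ
  refine isAlgSpace_of_chart he (repWith_of_representable he.rep fun T V' g fst snd sq => ⟨fun t => ?_⟩)
  obtain ⟨a, rfl⟩ : ∃ a, toMap hf a = g := ⟨_, (yEquiv (F := zSp hf σ hσ)).symm_apply_apply g⟩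
  obtain ⟨i, v, hv⟩ := exists_twist_at K hf a t
  let j : SIdx K (f := f) := ⟨i.s, equivShrink _ ⟨i.N, i.deg⟩⟩
  have hj : (SIdx.N K j).1 = i.N := by simp [SIdx.N, j]
  obtain ⟨m, hm⟩ := exists_chart_pullback (σ := σ) (hσ := hσ) (hN := i.deg) hf H Z _ hZ a
  have hxj : x j = chartMap (σ := σ) (hσ := hσ) hf H Z i.N i.deg := by
    simp only [x]
    refine congrArg (toMap hf) ?_
    exact toR_injective hf (by rw [toR_chartCls, toR_chartCls]; exact congrArg (fun N => PicCurve.norm f σ hσ _ (chartPre hf H Z N)) hj)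
  have hw : ((yon _).map m ≫ (yon _).map (Groth.AlgSp2.sigmaIncl V j)) ≫ π =
      (yon _).map (opnHom _ _ ≫ prT T (stageObj i.s)) ≫ toMap hf a := by
    rw [Category.assoc, hπ, hxj]
    exact hm.w
  obtain ⟨l, hl⟩ := (yon _).map_surjective (sq.lift _ _ hw)
  have hl₂ : l ≫ snd = opnHom _ _ ≫ prT T (stageObj i.s) := (yon _).map_injective (by
    rw [Functor.map_comp, hl, sq.lift_snd])
  refine ⟨l.left v, ?_⟩
  rw [← Scheme.Hom.comp_apply, ← Over.comp_left, hl₂]
  exact hv

include K hf hZ in
/-- The sheaf of rigidified classes of degree zero is quasi-separated. -/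
theorem isQuasiSeparatedSp_zSp : IsQuasiSeparatedSp (zSp hf σ hσ) := by
  have hA := isAlgSpace_zSp (hσ := hσ) hf K H Z (hZ := hZ)
  refine repWith_mono (fun _ _ g (_ : IsClosedImmersion g) => (inferInstance : QuasiCompact g))
    (repWith_of_representable hA.diag fun T V g fst snd sq => ?_)
  let b := Spec.map (CommRingCat.ofHom (algebraMap k K))
  let sK : Spec (CommRingCat.of K) ⟶ pullback f b :=
    pullback.lift (b ≫ σ) (𝟙 _) (by rw [Category.assoc, hσ]; simp)
  have hsK : sK ≫ pullback.snd f b = 𝟙 _ := pullback.lift_snd _ _ _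
  have hsb : sK ≫ pullback.fst f b = b ≫ σ := pullback.lift_fst _ _ _
  have hfK := isPtCurve_baseChange hf σ hσ K
  obtain ⟨J, _, _, eJ, -, hnat, hJp, -, -, -⟩ := exists_picZero hfK (σ := sK) hsK
  choose ez hez using fun T' => exists_zero_equiv (hσ := hσ) hf K T' sK hsK hsb hfK
  let a : (zP hf σ hσ).obj (op T) := yEquiv (F := zSp hf σ hσ) (g ≫ prod.fst)
  let c : (zP hf σ hσ).obj (op T) := yEquiv (F := zSp hf σ hσ) (g ≫ prod.snd)
  have ha : toMap hf a = g ≫ prod.fst := (yEquiv (F := zSp hf σ hσ)).symm_apply_apply _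
  have hc : toMap hf c = g ≫ prod.snd := (yEquiv (F := zSp hf σ hσ)).symm_apply_apply _
  -- the universal property of the pullback
  have hV : ∀ {Y : Over (Spec (CommRingCat.of k))} (w : Y ⟶ T),
      (∃ u : Y ⟶ V, u ≫ snd = w) ↔ (toR hf a).map w = (toR hf c).map w := fun {Y} w => by
    have key : (toR hf a).map w = (toR hf c).map w ↔
        (yon _).map w ≫ g ≫ prod.fst = (yon _).map w ≫ g ≫ prod.snd := by
      rw [← ha, ← hc, toMap_comp, toMap_comp, toMap_eq_iff, toR_map, toR_map]
    rw [key]
    constructor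
    · rintro ⟨u, rfl⟩
      rw [Functor.map_comp, Category.assoc, Category.assoc, ← reassoc_of% sq.w, prod.lift_fst,
        ← reassoc_of% sq.w, prod.lift_snd]
    · intro h
      have hw : ((yon _).map w ≫ g ≫ prod.fst) ≫ Limits.diag (zSp hf σ hσ) = (yon _).map w ≫ g := by
        apply prod.hom_ext
        · rw [Category.assoc, prod.lift_fst, Category.comp_id, Category.assoc]
        · rw [Category.assoc, prod.lift_snd, Category.comp_id, Category.assoc, h]
      obtain ⟨u, hu⟩ := (yon _).map_surjective (sq.lift _ _ hw)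
      exact ⟨u, (yon _).map_injective (by rw [Functor.map_comp, hu, sq.lift_snd])⟩
  have hmono : Mono snd := by
    constructor
    intro Y u v huv
    refine (yon _).map_injective (sq.hom_ext ?_ (by rw [← Functor.map_comp, ← Functor.map_comp, huv]))
    have h1 : ((yon _).map u ≫ fst) ≫ Limits.diag (zSp hf σ hσ) =
        ((yon _).map v ≫ fst) ≫ Limits.diag (zSp hf σ hσ) := by
      rw [Category.assoc, Category.assoc, sq.w, ← Category.assoc, ← Category.assoc,
        ← Functor.map_comp, ← Functor.map_comp, huv]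
    exact (cancel_mono (Limits.diag (zSp hf σ hσ))).1 h1
  have : Mono snd.left := inferInstanceAs (Mono ((Over.forget _).map snd))
  -- the base change to the separably closed field
  let TK : Over (Spec (CommRingCat.of K)) := Over.mk (pullback.snd T.hom b)
  let q : RelBC.toBase b TK ⟶ T := Over.homMk (pullback.fst T.hom b) pullback.condition
  let aK : TK ⟶ J := (eJ TK).symm (ez TK ⟨_, zeroClasses_map hf q (show zeroClasses hf σ hσ T from a).2⟩)
  let cK : TK ⟶ J := (eJ TK).symm (ez TK ⟨_, zeroClasses_map hf q (show zeroClasses hf σ hσ T from c).2⟩)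
  have : IsSeparated J.hom := hJp.toIsSeparated
  let Eq : Scheme.{u} := pullback (pullback.lift aK.left cK.left (by rw [Over.w aK, Over.w cK]))
    (pullback.diagonal J.hom)
  let ι : Eq ⟶ TK.left := pullback.fst _ _
  have : IsClosedImmersion ι := MorphismProperty.pullback_fst (P := @IsClosedImmersion) _ _ inferInstance
  have hE : ∀ {Y : Over (Spec (CommRingCat.of K))} (w : Y ⟶ TK),
      (∃ u : Y.left ⟶ Eq, u ≫ ι = w.left) ↔
        (toR hf a).map (RelBC.toBaseHom b w ≫ q) = (toR hf c).map (RelBC.toBaseHom b w ≫ q) := by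
    intro Y w
    have hw' : (∃ u : Y.left ⟶ Eq, u ≫ ι = w.left) ↔ w ≫ aK = w ≫ cK := by
      constructor
      · rintro ⟨u, hu⟩
        refine Over.OverMorphism.ext ?_
        have e1 := congrArg (fun m => u ≫ m ≫ pullback.fst J.hom J.hom)
          (pullback.condition : ι ≫ pullback.lift aK.left cK.left _ = _)
        have e2 := congrArg (fun m => u ≫ m ≫ pullback.snd J.hom J.hom)
          (pullback.condition : ι ≫ pullback.lift aK.left cK.left _ = _)
        simp only [Category.assoc, pullback.lift_fst, pullback.lift_snd, pullback.diagonal_fst,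
          pullback.diagonal_snd, Category.comp_id] at e1 e2
        rw [Over.comp_left, Over.comp_left, ← hu, Category.assoc, Category.assoc]
        exact e1.trans e2.symm
      · intro h
        refine ⟨pullback.lift w.left (w ≫ aK).left ?_, pullback.lift_fst _ _ _⟩
        apply pullback.hom_ext
        · rw [Category.assoc, pullback.lift_fst, Category.assoc, pullback.diagonal_fst, Category.comp_id]
          rfl
        · rw [Category.assoc, pullback.lift_snd, Category.assoc, pullback.diagonal_snd, Category.comp_id, h]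
          rfl
    rw [hw', ← (eJ Y).injective.eq_iff, Subtype.ext_iff, hnat, hnat]
    simp only [aK, cK, Equiv.apply_symm_apply, hez]
    rw [← pull_comp (PicF.XTmap (pullback.snd f b) w), ← pull_comp (PicF.XTmap (pullback.snd f b) w), RelBC.xtIso_map, pull_comp, pull_comp,
      (RelBC.pull_xtIso_injective (f := f) b Y).eq_iff, ← pull_comp, ← pull_comp, ← XTmap_comp']
    exact ⟨fun h => Subtype.ext h, fun h => congrArg Subtype.val h⟩
  obtain ⟨u₀, hu₀⟩ := (hV (Y := Over.mk (ι ≫ TK.hom ≫ b))
    (Over.homMk (ι ≫ q.left) (by simp [q, TK, pullback.condition]))).2 (by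
      have h := (hE (Y := Over.mk (ι ≫ TK.hom)) (Over.homMk ι rfl)).1 ⟨𝟙 _, Category.id_comp _⟩
      let α : Over.mk (ι ≫ TK.hom ≫ b) ⟶ RelBC.toBase b (Over.mk (ι ≫ TK.hom)) :=
        Over.homMk (𝟙 Eq) (by simp)
      have h' := congrArg (RS.map α) h
      rw [PicCurve.map_map, PicCurve.map_map] at h'
      convert h' using 2 <;> exact Over.OverMorphism.ext (by simp [α]))
  have hu₀' : u₀.left ≫ snd.left = ι ≫ q.left := congrArg (fun m => m.left) hu₀
  have sqE : IsPullback u₀.left ι snd.left q.left := by
    refine ⟨⟨hu₀'⟩, ⟨PullbackCone.IsLimit.mk _ (fun s => ?_) (fun s => ?_) (fun s => ?_) (fun s m h1 h2 => ?_)⟩⟩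
    rotate_left 1
    all_goals
      have hex : ∃ u : s.pt ⟶ Eq, u ≫ ι = s.snd := by
        let Y : Over (Spec (CommRingCat.of K)) := Over.mk (s.snd ≫ TK.hom)
        refine (hE (Y := Y) (Over.homMk s.snd rfl)).2 ?_
        refine (hV _).1 ⟨Over.homMk s.fst ?_, Over.OverMorphism.ext s.condition⟩
        rw [← Over.w snd, reassoc_of% s.condition]
        simp [Y, q, TK, pullback.condition]
    rotate_right 1
    · exact hex.choose
    · rw [← cancel_mono snd.left, Category.assoc, hu₀', reassoc_of% hex.choose_spec]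
      exact s.condition.symm
    · exact hex.choose_spec
    · exact (cancel_mono ι).1 (h2.trans hex.choose_spec.symm)
  have hq : Groth.EtaleBase.Fpqc q.left := by
    have : Surjective b := Groth.SpLimit.surjective_specMap_field _
    have : Flat b := (HasRingHomProperty.Spec_iff (P := @Flat)).2
      (RingHom.flat_algebraMap_iff.2 inferInstance)
    exact ⟨⟨MorphismProperty.pullback_fst (P := @Surjective) _ _ ‹_›,
      MorphismProperty.pullback_fst (P := @Flat) _ _ ‹_›⟩,
      MorphismProperty.pullback_fst (P := @QuasiCompact) _ _ inferInstance⟩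
  exact MorphismProperty.of_isPullback_of_descendsAlong (P := @IsClosedImmersion)
    (Q := Groth.EtaleBase.Fpqc) sqE.flip hq ‹_›

/-- The terminal sheaf. -/
abbrev topSp (k : Type u) [Field k] : Sp (Spec (CommRingCat.of k)) :=
  (yon _).obj (Over.mk (𝟙 (Spec (CommRingCat.of k))))

/-- The sheaf over the terminal sheaf. -/
abbrev zOver (hf : IsPtCurve f) (σ : Spec (CommRingCat.of k) ⟶ X)
    (hσ : σ ≫ f = 𝟙 (Spec (CommRingCat.of k))) : Over (topSp k) :=
  Over.mk ((IsTerminal.isTerminalObj (yon _) _ Over.mkIdTerminal).from (zSp hf σ hσ))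

include K hf hZ in
/-- The degree zero Picard sheaf is represented by a scheme. -/
theorem isRepresentable_zP : (zP hf σ hσ).IsRepresentable := by
  let Q := zGrp hf σ hσ
  let B := topSp k
  let F' := zOver hf σ hσ
  let fam : ∀ Y : Sp (Spec (CommRingCat.of k)), Subgroup (∀ T : Over (Spec (CommRingCat.of k)),
      Y.obj.obj (op T) → Q.obj (op T)) := fun Y =>
    { carrier := {a | ∀ (T' T : Over (Spec (CommRingCat.of k))) (h : T' ⟶ T) (y : Y.obj.obj (op T)),
        a T' (Y.obj.map h.op y) = Q.map h.op (a T y)}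
      one_mem' := fun T' T h y => by simp
      mul_mem' := fun {a b} ha hb T' T h y => by simp [ha T' T h y, hb T' T h y]
      inv_mem' := fun {a} ha T' T h y => by simp [ha T' T h y] }
  let Γ : (Over B)ᵒᵖ ⥤ GrpCat.{u + 1} :=
    { obj := fun H => GrpCat.of (fam H.unop.left)
      map := fun {H H'} κ => GrpCat.ofHom
        { toFun := fun a => (⟨fun T y => a.1 T (κ.unop.left.hom.app (op T) y), fun T' T h y => by
            exact (congrArg (a.1 T') (NatTrans.naturality_apply κ.unop.left.hom h.op y)).trans
              (a.2 T' T h _)⟩ : fam H'.unop.left)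
          map_one' := rfl
          map_mul' := fun _ _ => rfl }
      map_id := fun H => rfl
      map_comp := fun κ l => rfl }
  let R : (Γ ⋙ forget _).RepresentableBy F' :=
    { homEquiv := fun {H} =>
        { toFun := fun a => (⟨fun T y => a.left.hom.app (op T) y, fun T' T h y =>
            NatTrans.naturality_apply a.left.hom h.op y⟩ : fam H.left)
          invFun := fun a => Over.homMk
            (⟨{ app := fun T => ↾fun y => (a : fam H.left).1 T.unop y
                naturality := fun T T' h => by
                  ext y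
                  exact (a : fam H.left).2 _ _ h.unop y }⟩ : H.left ⟶ zSp hf σ hσ)
            ((IsTerminal.isTerminalObj (yon _) _ Over.mkIdTerminal).hom_ext _ _)
          left_inv := fun a => by apply Over.OverMorphism.ext; rfl
          right_inv := fun a => rfl }
      homEquiv_comp := fun _ _ => rfl }
  let _ : GrpObj F' := GrpObj.ofRepresentableBy F' Γ R
  exact Groth.SpLimit.isRepresentable_group F' (isAlgSpace_zSp (hσ := hσ) hf K H Z (hZ := hZ))
    (isQuasiSeparatedSp_zSp (hσ := hσ) hf K H Z (hZ := hZ))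

end Groth.PicField
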