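import Groth.Agent.PicField.PointDiv
import Groth.Agent.PicField.JacobianAlbanese
import Groth.Agent.FunFld1.RiemannRoch
import Groth.Prelude.Def_Jac
import Mathlib

/-!
# Translates of the images of symmetric powers in the Jacobian
-/

set_option autoImplicit false
set_option linter.style.haveILetI false

universe u

open CategoryTheory CategoryTheory.Limits MonoidalCategory CartesianMonoidalCategory MonObj
  AlgebraicGeometry TopologicalSpace Opposite
open Groth.Abvar.PicCalc Groth.CurveBridge
open Groth.ModelsGraphs.PicDim (zeroClasses)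

set_option maxHeartbeats 1600000
set_option backward.isDefEq.respectTransparency false
set_option backward.defeqAttrib.useBackward true
set_option backward.isDefEq.respectTransparency.types false

noncomputable section

namespace Groth.PicField

open Groth.PicCurve Groth.DivNorm

section FunctionField

open Groth.FunFld1

variable {k K : Type u} [Field k] [Field K] [Algebra k K] [IsAlgClosed k]
  (hK : FunFld.IsFunctionField k K)
include hK

theorem one_le_ell {D : FunFld.Divisor k K} (hD : 0 ≤ D) : 1 ≤ FunFld.ell D := by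
  haveI := (IsFF.of_isFunctionField hK).finiteDimensional_L D
  refine Submodule.one_le_finrank_iff.2 fun h => ?_
  have h1 : (1 : K) ∈ FunFld.L D := L_mono hD (by
    rw [L_zero_eq hK]; exact Submodule.mem_one.mpr ⟨1, map_one _⟩)
  rw [h] at h1
  exact one_ne_zero ((Submodule.mem_bot k).1 h1)

/-- An effective divisor is a sum of points. -/
theorem exists_points_of_nonneg : ∀ (n : ℕ) (E : FunFld.Divisor k K), 0 ≤ E → E.deg = n →
    ∃ y : Fin n → FunFld.Place k K, E = ∑ i, Finsupp.single (y i) 1 := by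
  classical
  have hF : IsFF k K := IsFF.of_isFunctionField hK
  have hsub : ∀ (E : FunFld.Divisor k K), 0 ≤ E → E ≠ 0 →
      ∃ P, 0 ≤ E - Finsupp.single P 1 ∧ (E - Finsupp.single P 1).deg = E.deg - 1 := fun E hE hne => by
    obtain ⟨P, hP⟩ := Finsupp.ne_iff.1 hne
    have hP1 : (0 : ℤ) ≤ E P := hE P
    rw [Finsupp.coe_zero, Pi.zero_apply] at hP
    refine ⟨P, fun Q => ?_, ?_⟩
    · have hQ : (0 : ℤ) ≤ E Q := hE Q
      rcases eq_or_ne Q P with rfl | hQP
      · simp only [Finsupp.coe_zero, Pi.zero_apply, Finsupp.sub_apply, Finsupp.single_eq_same]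
        omega
      · simp only [Finsupp.coe_zero, Pi.zero_apply, Finsupp.sub_apply,
          Finsupp.single_eq_of_ne hQP, sub_zero]
        exact hQ
    · have h1 : (E - Finsupp.single P 1).deg + FunFld.Divisor.deg (Finsupp.single P 1 : FunFld.Divisor k K) = E.deg := by
        rw [← deg_add, sub_add_cancel]
      rw [deg_single, deg_eq_one_of_isAlgClosed hF P] at h1
      push_cast at h1
      omega
  intro n
  induction n with
  | zero =>
    intro E hE hd
    refine ⟨Fin.elim0, ?_⟩
    rw [Finset.univ_eq_empty, Finset.sum_empty]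
    by_contra hne
    obtain ⟨P, h1, h2⟩ := hsub E hE hne
    have := one_le_ell hK h1
    rw [hF.ell_eq_zero_of_deg_neg (by rw [h2, hd]; norm_num)] at this
    omega
  | succ n ih =>
    intro E hE hd
    have hne : E ≠ 0 := by
      rintro rfl
      rw [deg_zero] at hd
      omega
    obtain ⟨P, h1, h2⟩ := hsub E hE hne
    obtain ⟨y, hy⟩ := ih _ h1 (by rw [h2, hd]; push_cast; ring)
    refine ⟨Fin.cons P y, ?_⟩
    simp only [Fin.sum_univ_succ, Fin.cons_zero, Fin.cons_succ]
    rw [← hy, add_sub_cancel]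

/-- A class with sections is the class of a sum of points. -/
theorem exists_points_of_one_le_ell {n : ℕ} {E : FunFld.Divisor k K} (hd : E.deg = n)
    (hl : 1 ≤ FunFld.ell E) : ∃ (y : Fin n → FunFld.Place k K) (w : K), w ≠ 0 ∧
      (∑ i, Finsupp.single (y i) 1 : FunFld.Divisor k K) = E + FunFld.div k w := by
  have hF : IsFF k K := IsFF.of_isFunctionField hK
  have hne : FunFld.L E ≠ ⊥ := fun h => by
    have h0 : FunFld.ell E = 0 := by unfold FunFld.ell; rw [h]; exact finrank_bot k K
    omega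
  obtain ⟨w, hw, hE⟩ := hF.exists_effective_of_ne_bot hne
  obtain ⟨y, hy⟩ := exists_points_of_nonneg hK n _ hE (by rw [deg_add, hF.deg_div, hd, add_zero])
  exact ⟨y, w, hw, hy.symm⟩

/-- A class without sections of degree at most `g − 2` stays so after adding some point. -/
theorem exists_ell_add_point_eq_zero {D : FunFld.Divisor k K} (h0 : FunFld.ell D = 0)
    (hd : D.deg + 2 ≤ FunFld.genus k K) :
    ∃ P : FunFld.Place k K, FunFld.ell (D + Finsupp.single P 1) = 0 := by
  classical
  have hF : IsFF k K := IsFF.of_isFunctionField hK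
  obtain ⟨C, hC⟩ := exists_isCanonical hK
  haveI := Groth.CurveBridge.infinite_place hF
  by_contra hcon
  push Not at hcon
  haveI := hF.finiteDimensional_L (C - D)
  have hr := riemann_roch hK hC D
  rw [h0] at hr
  have hne : FunFld.L (C - D) ≠ ⊥ := fun h => by
    have h1 : FunFld.ell (C - D) = 0 := by unfold FunFld.ell; rw [h]; exact finrank_bot k K
    rw [h1] at hr
    omega
  obtain ⟨x, hx, hx0⟩ := Submodule.exists_mem_ne_zero_of_ne_bot hne
  have hP : ∀ P : FunFld.Place k K, x ∈ FunFld.L (C - D - Finsupp.single P 1) := fun P => by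
    have hle : C - D - Finsupp.single P 1 ≤ C - D :=
      sub_le_self _ (Finsupp.single_nonneg.mpr zero_le_one)
    have hr' := riemann_roch hK hC (D + Finsupp.single P 1)
    rw [deg_add, deg_single, deg_eq_one_of_isAlgClosed hF P, ← sub_sub] at hr'
    push_cast at hr'
    have hl := hcon P
    have heq : FunFld.L (C - D - Finsupp.single P 1) = FunFld.L (C - D) := by
      refine Submodule.eq_of_le_of_finrank_le (L_mono hle) ?_
      show FunFld.ell (C - D) ≤ FunFld.ell (C - D - Finsupp.single P 1)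
      omega
    rw [heq]
    exact hx
  obtain ⟨P, hPn⟩ := Infinite.exists_notMem_finset ((C - D).support ∪ (FunFld.div k x).support)
  simp only [Finset.mem_union, Finsupp.mem_support_iff, not_or, not_not] at hPn
  have h3 : (0 : ℤ) ≤ (C - D - (Finsupp.single P 1 : FunFld.Divisor k K) + FunFld.div k x : FunFld.Divisor k K) P :=
    (hF.mem_L_iff hx0).1 (hP P) P
  simp only [Finsupp.add_apply, Finsupp.sub_apply, Finsupp.single_eq_same] at h3
  have h4 := hPn.1
  simp only [Finsupp.sub_apply] at h4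
  omega

/-- A class without sections stays so after adding suitable points. -/
theorem exists_ell_add_sum_eq_zero : ∀ (r : ℕ) (D : FunFld.Divisor k K), FunFld.ell D = 0 →
    D.deg + r + 1 ≤ FunFld.genus k K →
    ∃ x : Fin r → FunFld.Place k K, FunFld.ell (D + ∑ i, Finsupp.single (x i) 1) = 0 := by
  intro r
  induction r with
  | zero => exact fun D h0 _ => ⟨Fin.elim0, by simpa using h0⟩
  | succ r ih =>
    intro D h0 hd
    have hF : IsFF k K := IsFF.of_isFunctionField hK
    obtain ⟨P, hP⟩ := exists_ell_add_point_eq_zero hK h0 (by push_cast at hd; omega)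
    obtain ⟨x, hx⟩ := ih _ hP (by
      rw [deg_add, deg_single, deg_eq_one_of_isAlgClosed hF P]; push_cast at hd ⊢; omega)
    refine ⟨Fin.cons P x, ?_⟩
    simp only [Fin.sum_univ_succ, Fin.cons_zero, Fin.cons_succ]
    rwa [← add_assoc]

end FunctionField

variable {k : Type u} [Field k] {X : Scheme.{u}} [X.Over (Spec (CommRingCat.of k))]
  [IsProper (X ↘ Spec (CommRingCat.of k))] [IsIntegral X] (h : IsRegCurve X)
  {σ : Spec (CommRingCat.of k) ⟶ X}
  {hσ : σ ≫ (X ↘ Spec (CommRingCat.of k)) = 𝟙 (Spec (CommRingCat.of k))}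
  {hf : IsPtCurve (X ↘ Spec (CommRingCat.of k))}
  {J : Over (Spec (CommRingCat.of k))} [GrpObj J] [IsCommMonObj J]
  (e : ∀ T : Over (Spec (CommRingCat.of k)), (T ⟶ J) ≃ zeroClasses hf σ hσ T)

/-- A divisor of the class of a point of the Jacobian. -/
def IsPtDiv (z : 𝟙_ _ ⟶ J) (A : FunFld.Divisor k X.functionField) : Prop :=
  IsDivCls k h (pull toPtFibre (e _ z).1) A

variable {h} {e} (hK : FunFld.IsFunctionField k X.functionField)

omit [GrpObj J] [IsCommMonObj J] in
include hK in
theorem exists_isPtDiv (z : 𝟙_ _ ⟶ J) : ∃ A, IsPtDiv h e z A := exists_isDivCls h hK _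

omit [GrpObj J] [IsCommMonObj J] in
include hK in
theorem IsPtDiv.eq {z w : 𝟙_ _ ⟶ J} {A B : FunFld.Divisor k X.functionField}
    (hz : IsPtDiv h e z A) (hw : IsPtDiv h e w B) {m₀ : X.functionField} (hm : m₀ ≠ 0)
    (he : B = A + FunFld.div k m₀) : z = w := by
  apply (e _).injective
  apply Subtype.ext
  have h1 := IsDivCls.eq hK hz hw hm he
  have hid : pullback.fst (X ↘ Spec (CommRingCat.of k))
      (𝟙_ (Over (Spec (CommRingCat.of k)))).hom ≫ toPtFibre = 𝟙 _ := by
    refine pullback.hom_ext ?_ ?_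
    · rw [Category.assoc, Category.id_comp, toPtFibre, pullback.lift_fst, Category.comp_id]
    · rw [Category.assoc, Category.id_comp, toPtFibre, pullback.lift_snd, pullback.condition]
      simp [Over.tensorUnit_hom]
  have h2 := congrArg (pull (pullback.fst (X ↘ Spec (CommRingCat.of k))
      (𝟙_ (Over (Spec (CommRingCat.of k)))).hom)) h1
  rwa [← pull_comp, ← pull_comp, hid, pull_id, pull_id] at h2

variable (hmul : ∀ (T : Over (Spec (CommRingCat.of k))) (g h : T ⟶ J), e T (g * h) = e T g * e T h)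

include hmul in
theorem IsPtDiv.mul {z w : 𝟙_ _ ⟶ J} {A B : FunFld.Divisor k X.functionField}
    (hz : IsPtDiv h e z A) (hw : IsPtDiv h e w B) : IsPtDiv h e (z * w) (A + B) := by
  unfold IsPtDiv
  rw [hmul, Subgroup.coe_mul, map_mul]
  exact IsDivCls.mul hz hw

include hmul hK in
theorem IsPtDiv.inv {z : 𝟙_ _ ⟶ J} {A : FunFld.Divisor k X.functionField}
    (hz : IsPtDiv h e z A) : IsPtDiv h e z⁻¹ (-A) := by
  have h1 : e _ z⁻¹ = (e _ z)⁻¹ :=
    map_inv (MonoidHom.mk' (fun z : 𝟙_ _ ⟶ J => e _ z) fun a b => hmul _ a b) z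
  unfold IsPtDiv
  rw [h1, InvMemClass.coe_inv, map_inv]
  exact IsDivCls.inv hK hz

variable (hnat : ∀ (T T' : Over (Spec (CommRingCat.of k))) (g : T' ⟶ T) (h : T ⟶ J),
  (e T' (g ≫ h)).1 = pull (PicF.XTmap (X ↘ Spec (CommRingCat.of k)) g) (e T h).1)

include hmul hK in
theorem IsPtDiv.one : IsPtDiv h e 1 0 := by
  unfold IsPtDiv
  rw [show e _ (1 : 𝟙_ _ ⟶ J) = 1 from e_one e hmul _, OneMemClass.coe_one, map_one]
  exact isDivCls_one hK

include hnat hK in
theorem isPtDiv_abel (x : 𝟙_ _ ⟶ Over.mk (X ↘ Spec (CommRingCat.of k))) :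
    IsPtDiv h e (x ≫ abel e)
      (Finsupp.single (plOf h x) 1 - Finsupp.single (plOf h (zSec σ hσ (𝟙_ _))) 1) := by
  let T := 𝟙_ (Over (Spec (CommRingCat.of k)))
  haveI : Subsingleton T.left := inferInstanceAs (Subsingleton (PrimeSpectrum k))
  unfold IsPtDiv
  rw [e_comp_abel e hnat]
  show IsDivCls k h (pull toPtFibre (clsPt hf x * (clsPt hf (zSec σ hσ T) ^ 1)⁻¹ *
    (pull _ (pull _ _))⁻¹)) _
  rw [eq_one_of_subsingleton (pull (PicF.secT _ σ hσ T) _), map_one, inv_one, _root_.mul_one,
    pow_one, map_mul, map_inv, sub_eq_add_neg]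
  exact (isDivCls_clsPt hK hf x).mul ((isDivCls_clsPt hK hf _).inv hK)

include hnat hmul hK in
theorem isPtDiv_prod {n : ℕ} (x : Fin n → (𝟙_ _ ⟶ Over.mk (X ↘ Spec (CommRingCat.of k)))) :
    IsPtDiv h e (∏ i, x i ≫ abel e)
      ((∑ i, Finsupp.single (plOf h (x i)) 1) -
        n • Finsupp.single (plOf h (zSec σ hσ (𝟙_ _))) 1) := by
  induction n with
  | zero => simpa using IsPtDiv.one hK hmul
  | succ n ih =>
    rw [Fin.prod_univ_succ, Fin.sum_univ_succ, succ_nsmul', add_sub_add_comm]
    exact (isPtDiv_abel hK hnat (x 0)).mul hmul (ih fun i => x i.succ)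

include h hnat hmul hK in
/-- All translates `z W_r` lie in `W_{r+s}` exactly when `z` lies in `W_s`. -/
theorem forall_exists_prod_iff [IsAlgClosed k] {r s : ℕ}
    (hrs : r + s + 1 ≤ FunFld.genus k X.functionField) (z : 𝟙_ _ ⟶ J) :
    (∀ x : Fin r → (𝟙_ _ ⟶ Over.mk (X ↘ Spec (CommRingCat.of k))),
      ∃ y : Fin (r + s) → (𝟙_ _ ⟶ Over.mk (X ↘ Spec (CommRingCat.of k))),
        z * (∏ i, x i ≫ abel e) = ∏ i, y i ≫ abel e) ↔
    ∃ y : Fin s → (𝟙_ _ ⟶ Over.mk (X ↘ Spec (CommRingCat.of k))),
      z = ∏ i, y i ≫ abel e := by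
  have hF := Groth.FunFld1.IsFF.of_isFunctionField hK
  constructor
  · intro hz
    obtain ⟨A, hA⟩ := exists_isPtDiv (h := h) (e := e) hK z
    set P₀ : FunFld.Divisor k X.functionField :=
      Finsupp.single (plOf h (zSec σ hσ (𝟙_ _))) 1 with hP₀
    have hd1 : ∀ P : FunFld.Place k X.functionField, FunFld.Divisor.deg (Finsupp.single P 1 :
        FunFld.Divisor k X.functionField) = 1 := fun P => by
      rw [Groth.FunFld1.deg_single, Groth.FunFld1.deg_eq_one_of_isAlgClosed hF P]
      rfl
    have hdsum : ∀ {n : ℕ} (P : Fin n → FunFld.Place k X.functionField),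
        (∑ i, Finsupp.single (P i) 1 : FunFld.Divisor k X.functionField).deg = n := by
      intro n
      induction n with
      | zero => intro P; simp [Groth.FunFld1.deg_zero]
      | succ n ih =>
        intro P
        rw [Fin.sum_univ_succ, Groth.FunFld1.deg_add, hd1, ih]
        push_cast; ring
    -- each translate gives an effective divisor in the class
    have hE : ∀ x : Fin r → (𝟙_ _ ⟶ Over.mk (X ↘ Spec (CommRingCat.of k))),
        ∃ (B : FunFld.Divisor k X.functionField) (w : X.functionField), w ≠ 0 ∧ 0 ≤ B ∧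
          B.deg = (r + s : ℕ) ∧
          B = A + s • P₀ + (∑ i, Finsupp.single (plOf h (x i)) 1) + FunFld.div k w := fun x => by
      obtain ⟨y, hy⟩ := hz x
      have h1 := hA.mul hmul (isPtDiv_prod hK hmul hnat x)
      have h2 := isPtDiv_prod (h := h) hK hmul hnat y
      rw [← hy] at h2
      obtain ⟨w, hw, he⟩ := IsDivCls.linEquiv hK h1 h2
      refine ⟨∑ i, Finsupp.single (plOf h (y i)) 1, w, hw,
        Finset.sum_nonneg fun i _ => Finsupp.single_nonneg.mpr zero_le_one, hdsum _, ?_⟩
      rw [← hP₀, sub_eq_iff_eq_add] at he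
      rw [he, add_nsmul]
      abel
    have hdeg : (A + s • P₀).deg = s := by
      obtain ⟨B, w, hw, -, hB, he⟩ := hE fun _ => zSec σ hσ (𝟙_ _)
      have h1 := congrArg FunFld.Divisor.deg he
      rw [Groth.FunFld1.deg_add, Groth.FunFld1.deg_add, hF.deg_div, hB, hdsum] at h1
      push_cast at h1
      omega
    have hl : 1 ≤ FunFld.ell (A + s • P₀) := by
      by_contra hl
      obtain ⟨P, hP⟩ := exists_ell_add_sum_eq_zero hK r (A + s • P₀) (by omega)
        (by rw [hdeg]; omega)
      choose x hx using fun i => plOf_surjective (h := h) (P i)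
      obtain ⟨B, w, hw, hB0, -, he⟩ := hE x
      have h1 := one_le_ell hK hB0
      rw [he, Groth.FunFld1.IsFF.ell_add_div hF _ hw] at h1
      simp only [hx] at h1
      omega
    obtain ⟨Q, w, hw, hQ⟩ := exists_points_of_one_le_ell hK hdeg hl
    choose y hy using fun i => plOf_surjective (h := h) (Q i)
    refine ⟨y, IsPtDiv.eq hK hA (isPtDiv_prod hK hmul hnat y) hw ?_⟩
    simp only [hy, hQ, ← hP₀]
    abel
  · rintro ⟨y, rfl⟩ x
    refine ⟨Fin.append x y, ?_⟩
    rw [Fin.prod_univ_add, mul_comm]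
    simp only [Fin.append_left, Fin.append_right]

/-! ### Subsets of the Jacobian -/

section Sets

variable [IsAlgClosed k] {C : Over (Spec (CommRingCat.of k))} (j : C ⟶ J)

variable (C) in
/-- The fibre power. -/
abbrev powC (r : ℕ) : Over (Spec (CommRingCat.of k)) :=
  Over.mk (WidePullback.base fun _ : Fin r => C.hom)

variable (C) in
/-- The projections. -/
abbrev projC (r : ℕ) (i : Fin r) : powC C r ⟶ C :=
  Over.homMk (WidePullback.π (fun _ : Fin r => C.hom) i)
    (WidePullback.π_arrow (fun _ : Fin r => C.hom) i)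

omit [IsAlgClosed k] in
theorem comp_ofFn_prod {T : Over (Spec (CommRingCat.of k))} {r : ℕ} (t : T ⟶ powC C r) :
    t ≫ (List.ofFn fun i : Fin r => projC C r i ≫ j).prod = ∏ i, (t ≫ projC C r i) ≫ j := by
  rw [List.prod_ofFn]
  refine (map_prod (MonoidHom.mk' (fun a : powC C r ⟶ J => t ≫ a)
    fun a b => MonObj.comp_mul t a b) _ Finset.univ).trans ?_
  simp only [MonoidHom.mk'_apply, Category.assoc]

omit [IsCommMonObj J] in
/-- Rational points of the image of a morphism lift to rational points. -/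
theorem exists_lift_point {Q Y : Over (Spec (CommRingCat.of k))} [LocallyOfFiniteType Q.hom]
    [LocallyOfFiniteType Y.hom] (φ : Q ⟶ Y) (z : 𝟙_ _ ⟶ Y)
    (hz : z.left.base (IsLocalRing.closedPoint k) ∈ Set.range φ.left.base) :
    ∃ q : 𝟙_ _ ⟶ Q, q ≫ φ = z := by
  have := LocallyOfFiniteType.jacobsonSpace Q.hom
  let s : Spec (CommRingCat.of k) ⟶ Y.left := z.left
  have hs : s ≫ Y.hom = 𝟙 _ := Over.w z
  have hc : IsClosed ({z.left.base (IsLocalRing.closedPoint k)} : Set Y.left) :=
    ((pointEquivClosedPoint Y.hom) ⟨s, hs⟩).2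
  obtain ⟨q, hq, hqc⟩ := nonempty_inter_closedPoints (Z := φ.left.base ⁻¹'
    {z.left.base (IsLocalRing.closedPoint k)}) (by
      obtain ⟨q, hq⟩ := hz
      exact ⟨q, hq⟩) ((hc.preimage φ.left.continuous).isLocallyClosed)
  let t : Spec (CommRingCat.of k) ⟶ Q.left := pointOfClosedPoint Q.hom q hqc
  let tq : 𝟙_ (Over (Spec (CommRingCat.of k))) ⟶ Q :=
    Over.homMk t (pointOfClosedPoint_comp Q.hom q hqc)
  refine ⟨tq, Over.OverMorphism.ext (show t ≫ φ.left = s from
    ext_of_apply_closedPoint_eq Y.hom ?_ hs ?_)⟩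
  · rw [Category.assoc, Over.w φ]; exact pointOfClosedPoint_comp Q.hom q hqc
  · rw [Scheme.Hom.comp_apply, pointOfClosedPoint_apply]
    exact hq

theorem mem_range_ofFn_prod [IsProper C.hom] [LocallyOfFiniteType J.hom] (r : ℕ) (z : 𝟙_ _ ⟶ J) :
    z.left.base (IsLocalRing.closedPoint k) ∈
        Set.range (List.ofFn fun i : Fin r => projC C r i ≫ j).prod.left.base ↔
      ∃ x : Fin r → (𝟙_ _ ⟶ C), z = ∏ i, x i ≫ j := by
  have : IsProper (powC C r).hom := Groth.CurveBridge.FamilyH0.isProper_fibPow_base C.hom r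
  constructor
  · intro hz
    obtain ⟨q, hq⟩ := exists_lift_point _ z hz
    exact ⟨fun i => q ≫ projC C r i, hq.symm.trans (comp_ofFn_prod j q)⟩
  · rintro ⟨x, rfl⟩
    let t : 𝟙_ (Over (Spec (CommRingCat.of k))) ⟶ powC C r :=
      Over.homMk (WidePullback.lift (f := (𝟙_ (Over (Spec (CommRingCat.of k)))).hom)
        (fun i => (x i).left) fun i => Over.w (x i)) (WidePullback.lift_base _ _ _ _)
    have ht : t ≫ (List.ofFn fun i : Fin r => projC C r i ≫ j).prod = ∏ i, x i ≫ j := by
      rw [comp_ofFn_prod]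
      refine Finset.prod_congr rfl fun i _ => congrArg (· ≫ j) (Over.OverMorphism.ext ?_)
      exact WidePullback.lift_π _ _ _ _ i
    exact ⟨t.left.base (IsLocalRing.closedPoint k), by rw [← ht]; rfl⟩

theorem isClosed_range_ofFn_prod [IsProper C.hom] [IsSeparated J.hom] (r : ℕ) :
    IsClosed (Set.range (List.ofFn fun i : Fin r => projC C r i ≫ j).prod.left.base) := by
  let φ := (List.ofFn fun i : Fin r => projC C r i ≫ j).prod
  have : IsProper (powC C r).hom := Groth.CurveBridge.FamilyH0.isProper_fibPow_base C.hom r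
  have : IsProper (φ.left ≫ J.hom) := by rw [Over.w φ]; infer_instance
  have : IsProper φ.left := IsProper.of_comp φ.left J.hom
  exact φ.left.isClosedMap.isClosed_range

end Sets

section Transl

variable [IsAlgClosed k]

omit [IsCommMonObj J] in
theorem comp_transl {T : Over (Spec (CommRingCat.of k))} (z : T ⟶ J) (a : 𝟙_ _ ⟶ J) :
    z ≫ Jac.transl J a = z * (toUnit T ≫ a) := by
  rw [Jac.transl, MonObj.comp_mul, Category.comp_id, ← Category.assoc,
    toUnit_unique (z ≫ toUnit J) (toUnit T)]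

omit [IsAlgClosed k] in
theorem transl_inv_comp (a : 𝟙_ _ ⟶ J) :
    Jac.transl J a⁻¹ ≫ Jac.transl J a = 𝟙 J ∧ Jac.transl J a ≫ Jac.transl J a⁻¹ = 𝟙 J := by
  constructor <;>
  · rw [Jac.transl, Jac.transl, MonObj.comp_mul, Category.comp_id, ← Category.assoc,
      toUnit_unique (_ ≫ toUnit J) (toUnit J), _root_.mul_assoc, GrpObj.comp_inv]
    simp

omit [IsAlgClosed k] in
theorem image_transl (a : 𝟙_ _ ⟶ J) (S : Set J.left) :
    (Jac.transl J a).left.base '' S = (Jac.transl J a⁻¹).left.base ⁻¹' S := by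
  have h1 := congrArg (fun f : J ⟶ J => f.left) (transl_inv_comp a).1
  have h2 := congrArg (fun f : J ⟶ J => f.left) (transl_inv_comp a).2
  exact congrFun (Set.image_eq_preimage_of_inverse
    (fun x => (Scheme.Hom.comp_apply _ _ x).symm.trans (congrArg (fun f : J.left ⟶ J.left => f.base x) h2))
    (fun x => (Scheme.Hom.comp_apply _ _ x).symm.trans (congrArg (fun f : J.left ⟶ J.left => f.base x) h1))) S

theorem mem_image_transl_iff (a z : 𝟙_ _ ⟶ J) (S : Set J.left) :
    z.left.base (IsLocalRing.closedPoint k) ∈ (Jac.transl J a).left.base '' S ↔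
      (z * a⁻¹).left.base (IsLocalRing.closedPoint k) ∈ S := by
  rw [image_transl, Set.mem_preimage]
  have : z ≫ Jac.transl J a⁻¹ = z * a⁻¹ := by
    rw [comp_transl, toUnit_unique (toUnit (𝟙_ _)) (𝟙 _), Category.id_comp]
  rw [← this]
  rfl

omit [IsCommMonObj J] [GrpObj J] in
/-- Closed subsets are compared on rational points. -/
theorem subset_iff_forall_point [LocallyOfFiniteType J.hom] {S T : Set J.left} (hS : IsClosed S)
    (hT : IsClosed T) :
    S ⊆ T ↔ ∀ z : 𝟙_ _ ⟶ J, z.left.base (IsLocalRing.closedPoint k) ∈ S →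
      z.left.base (IsLocalRing.closedPoint k) ∈ T := by
  have := LocallyOfFiniteType.jacobsonSpace J.hom
  refine ⟨fun hST z hz => hST hz, fun hz => ?_⟩
  rw [← closure_inter_closedPoints hS]
  refine closure_minimal (fun p hp => ?_) hT
  let t : Spec (CommRingCat.of k) ⟶ J.left := pointOfClosedPoint J.hom p hp.2
  let tp : 𝟙_ (Over (Spec (CommRingCat.of k))) ⟶ J :=
    Over.homMk t (pointOfClosedPoint_comp J.hom p hp.2)
  have htp : tp.left.base (IsLocalRing.closedPoint k) = p := pointOfClosedPoint_apply J.hom p hp.2 _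
  rw [← htp]
  exact hz tp (by rw [htp]; exact hp.1)

end Transl

end Groth.PicField
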