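import Groth.Agent.PicField.ThetaPullback
import Groth.Agent.BlowUpBasics.EffCartier
import Mathlib

/-!
# The theta divisor pulled back along the family of translated Abel maps

The family `(x, y) ↦ j(x) - y` pulls the class of the inverse theta divisor back to the universal
class twisted by `g P`.
-/

set_option autoImplicit false
set_option linter.style.haveILetI false

universe u

open CategoryTheory CategoryTheory.Limits MonoidalCategory CartesianMonoidalCategory MonObj
  AlgebraicGeometry TopologicalSpace Opposite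
open Groth.Abvar.PicCalc Groth.CurveBridge
open Groth.HilbPts (pullObj)
open Groth.ModelsGraphs.PicDim (zeroClasses degC_map degC_mulT degC_invT degC_powT degC_dC degC_norm)

set_option maxHeartbeats 1600000
set_option backward.isDefEq.respectTransparency false
set_option backward.defeqAttrib.useBackward true
set_option backward.isDefEq.respectTransparency.types false

noncomputable section

namespace Groth.PicField

open Groth.PicCurve Groth.DivNorm

/-- Reduced ideals of closed subsets along isomorphisms. -/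
theorem comap_vanishingIdeal_of_isIso {Y Z : Scheme.{u}} (φ : Y ⟶ Z) [IsIso φ] (S : Closeds Z) :
    (Scheme.IdealSheafData.vanishingIdeal S).comap φ =
      Scheme.IdealSheafData.vanishingIdeal ⟨φ.base ⁻¹' S, S.isClosed.preimage φ.continuous⟩ := by
  let T : Closeds Y := ⟨φ.base ⁻¹' S, S.isClosed.preimage φ.continuous⟩
  have h : (Scheme.IdealSheafData.vanishingIdeal T).map φ = Scheme.IdealSheafData.vanishingIdeal S := by
    rw [Scheme.IdealSheafData.map_vanishingIdeal]
    congr 1
    apply TopologicalSpace.Closeds.ext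
    show closure (φ.base '' (φ.base ⁻¹' S)) = S
    rw [Set.image_preimage_eq _ φ.surjective]
    exact S.isClosed.closure_eq
  refine le_antisymm ?_ ?_
  · rw [← Scheme.IdealSheafData.le_map_iff_comap_le, h]
  · have h2 : ((Scheme.IdealSheafData.vanishingIdeal T).map φ).map (inv φ) =
        Scheme.IdealSheafData.vanishingIdeal T := by
      rw [← Scheme.IdealSheafData.map_comp, IsIso.hom_inv_id, Scheme.IdealSheafData.map_id]
    show Scheme.IdealSheafData.vanishingIdeal T ≤ _
    rw [← h2, h]
    have h4 : ((Scheme.IdealSheafData.vanishingIdeal S).map (inv φ)) ≤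
        ((Scheme.IdealSheafData.vanishingIdeal S).comap φ) := by
      refine le_trans (Scheme.IdealSheafData.map_mono _ (Scheme.IdealSheafData.le_map_comap
        (J := Scheme.IdealSheafData.vanishingIdeal S) (f := φ))) ?_
      show (((Scheme.IdealSheafData.vanishingIdeal S).comap φ).map φ).map (inv φ) ≤ _
      rw [← Scheme.IdealSheafData.map_comp, IsIso.hom_inv_id, Scheme.IdealSheafData.map_id]
    exact h4

section Main

variable {k : Type u} [Field k] [IsAlgClosed k] {X : Scheme.{u}} [X.Over (Spec (CommRingCat.of k))]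
  [IsProper (X ↘ Spec (CommRingCat.of k))] [IsIntegral X]
  {σ : Spec (CommRingCat.of k) ⟶ X}
  {hσ : σ ≫ (X ↘ Spec (CommRingCat.of k)) = 𝟙 (Spec (CommRingCat.of k))}
  {hf : IsPtCurve (X ↘ Spec (CommRingCat.of k))}
  {J : Over (Spec (CommRingCat.of k))} [GrpObj J] [IsCommMonObj J]
  (e : ∀ T : Over (Spec (CommRingCat.of k)), (T ⟶ J) ≃ zeroClasses hf σ hσ T)
  (hnat : ∀ (T T' : Over (Spec (CommRingCat.of k))) (g : T' ⟶ T) (h : T ⟶ J),
    (e T' (g ≫ h)).1 = pull (PicF.XTmap (X ↘ Spec (CommRingCat.of k)) g) (e T h).1)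
  (hmul : ∀ (T : Over (Spec (CommRingCat.of k))) (g h : T ⟶ J), e T (g * h) = e T g * e T h)
  {n : ℕ} (hn : genus (X ↘ Spec (CommRingCat.of k)) = n + 1)
  {S : Set J.left} (hSc : IsClosed S)
  (hS : ∀ z : 𝟙_ _ ⟶ J, z.left.base (IsLocalRing.closedPoint k) ∈ S ↔
    ∃ y : Fin n → (𝟙_ _ ⟶ Over.mk (X ↘ Spec (CommRingCat.of k))), z⁻¹ = ∏ i, y i ≫ abel e)
  (hI : BlowUp.IsEffCartierIdeal (Scheme.IdealSheafData.vanishingIdeal (X := J.left) ⟨S, hSc⟩))

/-- The family of translated Abel maps `(x, y) ↦ j(x) - y`. -/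
def abelFam : Over.mk (pullback.fst (X ↘ Spec (CommRingCat.of k)) J.hom ≫ (X ↘ Spec (CommRingCat.of k))) ⟶ J :=
  ((Over.homMk (pullback.fst (X ↘ Spec (CommRingCat.of k)) J.hom) rfl :
      Over.mk (pullback.fst (X ↘ Spec (CommRingCat.of k)) J.hom ≫ (X ↘ Spec (CommRingCat.of k))) ⟶
        Over.mk (X ↘ Spec (CommRingCat.of k))) ≫ abel e) *
    (Over.homMk (pullback.snd (X ↘ Spec (CommRingCat.of k)) J.hom) pullback.condition.symm :
      Over.mk (pullback.fst (X ↘ Spec (CommRingCat.of k)) J.hom ≫ (X ↘ Spec (CommRingCat.of k))) ⟶ J)⁻¹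

omit [IsProper (X ↘ Spec (CommRingCat.of k))] [IsIntegral X] in
/-- The family at a rational point is the translated Abel map. -/
theorem XTmap_comp_abelFam (a : 𝟙_ _ ⟶ J) :
    PicF.XTmap (X ↘ Spec (CommRingCat.of k)) a ≫ (abelFam e).left =
      pullback.fst (X ↘ Spec (CommRingCat.of k)) (𝟙_ (Over (Spec (CommRingCat.of k)))).hom ≫
        (abel e ≫ Jac.transl J a⁻¹).left := by
  let f := X ↘ Spec (CommRingCat.of k)
  let T₀ := 𝟙_ (Over (Spec (CommRingCat.of k)))
  let A : Over (Spec (CommRingCat.of k)) := Over.mk (pullback.fst f T₀.hom ≫ f)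
  let B : Over (Spec (CommRingCat.of k)) := Over.mk (pullback.fst f J.hom ≫ f)
  let p : A ⟶ Over.mk f := Over.homMk (pullback.fst f T₀.hom) rfl
  let m : A ⟶ B := Over.homMk (PicF.XTmap f a) (by
    show PicF.XTmap f a ≫ pullback.fst f J.hom ≫ f = _
    rw [← Category.assoc, Groth.HilbPts.XTmap_fst]; rfl)
  have key : m ≫ abelFam e = p ≫ abel e ≫ Jac.transl J a⁻¹ := by
    rw [← Category.assoc p, comp_transl, abelFam, MonObj.comp_mul, GrpObj.comp_inv, GrpObj.comp_inv]
    congr 1
    · rw [← Category.assoc]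
      exact congrArg (· ≫ abel e) (Over.OverMorphism.ext (Groth.HilbPts.XTmap_fst f a))
    · congr 1
      refine Over.OverMorphism.ext ?_
      show PicF.XTmap f a ≫ pullback.snd f J.hom = (toUnit A ≫ a).left
      rw [show PicF.XTmap f a ≫ pullback.snd f J.hom = pullback.snd f T₀.hom ≫ a.left from
        Groth.HilbPts.XTmap_proj f a]
      show _ = (toUnit A).left ≫ a.left
      congr 1
      have h1 : pullback.snd f T₀.hom ≫ T₀.hom = (toUnit A).left ≫ T₀.hom := by
        rw [Over.w (toUnit A), ← pullback.condition]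
        rfl
      have : IsIso T₀.hom := by
        show IsIso (𝟙_ (Over (Spec (CommRingCat.of k)))).hom
        rw [Over.tensorUnit_hom]; exact IsIso.id _
      exact (cancel_mono T₀.hom).1 h1
  exact congrArg (fun q : A ⟶ J => q.left) key

/-- The class of the family. -/
def famCls : PicLoc.PicSet (PicF.XT (X ↘ Spec (CommRingCat.of k)) J) :=
  pull (abelFam e).left (divCls hI)

include hnat hmul hn hS in
/-- At a good point the family gives the divisor. -/
theorem pull_famCls_of_good [LocallyOfFiniteType J.hom]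
    (D : Fin (n + 1) → (𝟙_ _ ⟶ Over.mk (X ↘ Spec (CommRingCat.of k))))
    (hgood : GoodC (PicF.XTproj (X ↘ Spec (CommRingCat.of k)) (𝟙_ _)) (dC hf (sumD hf D))
      (IsLocalRing.closedPoint k)) :
    pull (PicF.XTmap (X ↘ Spec (CommRingCat.of k)) (∏ i, D i ≫ abel e)) (famCls e hSc hI) =
      dC hf (sumD hf D) := by
  let f := X ↘ Spec (CommRingCat.of k)
  let T₀ := 𝟙_ (Over (Spec (CommRingCat.of k)))
  have := hf.proper
  have := hf.smoothOne
  set a := ∏ i, D i ≫ abel e with ha
  let t := Jac.transl J a⁻¹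
  have : IsIso t.left := by
    refine ⟨⟨(Jac.transl J a).left, ?_, ?_⟩⟩
    · exact congrArg (fun q : J ⟶ J => q.left) (transl_inv_comp a).1
    · exact congrArg (fun q : J ⟶ J => q.left) (transl_inv_comp a).2
  let Sa : Set J.left := t.left.base ⁻¹' S
  have hSa : IsClosed Sa := hSc.preimage t.left.continuous
  have hcomap := comap_abel_eq_prod_ker e hnat hmul hn D hgood (S := Sa) (fun z => by
    show t.left.base (z.left.base _) ∈ S ↔ _
    have : z ≫ t = z * a⁻¹ := by
      rw [comp_transl, toUnit_unique (toUnit (𝟙_ _)) (𝟙 _), Category.id_comp]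
    rw [show t.left.base (z.left.base (IsLocalRing.closedPoint k)) =
      (z * a⁻¹).left.base (IsLocalRing.closedPoint k) by rw [← this]; rfl, hS]
    simp only [mul_inv_rev, inv_inv]
    rfl) hSa
  let pr := pullback.fst f T₀.hom
  have hgr : (sumD hf D).1 = (∏ i, (D i).left.ker).comap pr := by
    have h1 : ∀ i, gr (D i) = (show Spec (CommRingCat.of k) ⟶ X from (D i).left).ker.comap pr := fun i => by
      have hw : (show Spec (CommRingCat.of k) ⟶ X from (D i).left) ≫ f = 𝟙 _ := Over.w (D i)
      rw [← gr_point hw T₀]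
      exact congrArg gr (Over.OverMorphism.ext (by
        show (D i).left = T₀.hom ≫ (D i).left
        rw [show T₀.hom = 𝟙 _ from Over.tensorUnit_hom]
        exact (Category.id_comp _).symm))
    have h2 : ∀ {m : ℕ} (I : Fin m → X.IdealSheafData), (∏ i, I i).comap pr = ∏ i, (I i).comap pr := by
      intro m
      induction m with
      | zero => intro I; simp [Scheme.IdealSheafData.one_eq_top, Scheme.IdealSheafData.comap_top]
      | succ m ih => intro I; rw [Fin.prod_univ_succ, Fin.prod_univ_succ, Groth.Divisors.comap_mul, ih]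
    show (∏ i, gr (D i)) = _
    simp only [h1]
    exact (h2 _).symm
  have hid : ((Scheme.IdealSheafData.vanishingIdeal (X := J.left) ⟨S, hSc⟩).comap
      (pr ≫ (abel e ≫ t).left)) = (sumD hf D).1 := by
    rw [hgr, ← hcomap, Scheme.IdealSheafData.comap_comp, Over.comp_left,
      Scheme.IdealSheafData.comap_comp, comap_vanishingIdeal_of_isIso]
    rfl
  have := hf.smoothOne_proj T₀
  have hD := (isEffCartierIdeal_of_finLocFree (PicF.XTproj f T₀) (sumD hf D).2).1
  show pull (PicF.XTmap f a) (pull (abelFam e).left (divCls hI)) = _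
  refine (pull_comp (PicF.XTmap f a) (abelFam e).left _).symm.trans ?_
  rw [XTmap_comp_abelFam, pull_divCls _ hI (hid ▸ hD)]
  exact divCls_congr hid _ _

variable [IsProper J.hom] [Smooth J.hom] [GeometricallyIrreducible J.hom]

include hnat hmul hn hS in
/-- The family is the universal class twisted by `g P`. -/
theorem normHom_famCls :
    normHom σ hσ J (famCls e hSc hI * (clsPt hf (zSec σ hσ J) ^ (n + 1))⁻¹) = (e J (𝟙 J)).1 := by
  let f := X ↘ Spec (CommRingCat.of k)
  let T₀ := 𝟙_ (Over (Spec (CommRingCat.of k)))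
  have := hf.proper
  have := hf.smoothOne
  have : IsIntegral J.left := Groth.DivNorm.isIntegral_of_smooth J
  let G : J.left.Opens := goodOpens f hf ((e J (𝟙 J)).1 * clsPt hf (zSec σ hσ J) ^ (n + 1))
  obtain ⟨v, hv⟩ := exists_good_point e hnat
  rw [hn] at hv
  -- rational points of the good open
  have hpt : ∀ a : T₀ ⟶ J, a.left.base (IsLocalRing.closedPoint k) ∈ G →
      ∃ D : Fin (n + 1) → (T₀ ⟶ Over.mk f), a = ∏ i, D i ≫ abel e ∧
        pull (PicF.XTmap f a) (famCls e hSc hI) = dC hf (sumD hf D) := fun a ha => by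
    obtain ⟨W, hWgood, hW⟩ := exists_divisor_of_point hn (e T₀ a) fun z => by
      have h1 := (goodC_map_iff hf a ((e J (𝟙 J)).1 * clsPt hf (zSec σ hσ J) ^ (n + 1)) z).2 (by
        rw [Subsingleton.elim (α := PrimeSpectrum k) z (IsLocalRing.closedPoint k)]
        exact ha)
      rwa [map_mul, map_pow, pull_base, ← hnat, Category.comp_id] at h1
    obtain ⟨D, hD⟩ := exists_points_of_obj hf W
    have he : a = ∏ i, D i ≫ abel e := by
      apply (e T₀).injective
      rw [← hW, divPoint_congr σ hσ hf (W' := sumD hf D) hD, divPoint_sumD,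
        show e T₀ (∏ i, D i ≫ abel e) = ∏ i, e T₀ (D i ≫ abel e) from
          map_prod (MonoidHom.mk' (fun z : _ ⟶ J => e _ z) fun a b => hmul _ a b) _ Finset.univ]
      simp only [e_comp_abel e hnat]
    refine ⟨D, he, ?_⟩
    subst he
    refine pull_famCls_of_good e hnat hmul hn hSc hS hI D ?_
    rw [← dC_congr hf (W := W) (W' := sumD hf D) hD]
    exact hWgood _
  have hex : ∃ a : T₀ ⟶ J, a.left.base (IsLocalRing.closedPoint k) ∈ G := by
    have := LocallyOfFiniteType.jacobsonSpace J.hom
    obtain ⟨q, hq, hqc⟩ := nonempty_inter_closedPoints (Z := (G : Set J.left)) ⟨v, hv⟩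
      G.isOpen.isLocallyClosed
    exact ⟨Over.homMk (pointOfClosedPoint J.hom q hqc) (pointOfClosedPoint_comp J.hom q hqc), by
      rw [show (Over.homMk (pointOfClosedPoint J.hom q hqc) (pointOfClosedPoint_comp J.hom q hqc) :
        T₀ ⟶ J).left.base (IsLocalRing.closedPoint k) = q from pointOfClosedPoint_apply J.hom q hqc _]
      exact hq⟩
  -- the degree of the family
  obtain ⟨a₀, ha₀⟩ := hex
  have hdeg : ∀ y, degC (PicF.XTproj f J) (famCls e hSc hI) y = ((n + 1 : ℕ) : ℤ) := fun y => by
    obtain ⟨D, -, hD⟩ := hpt a₀ ha₀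
    have := hf.isProper_proj J
    have := hf.smoothOne_proj J
    have : Smooth (PicF.XTproj f J) := SmoothOfRelativeDimension.smooth 1 _
    rw [(isLocallyConstant_degC_flat (PicF.XTproj f J) _).apply_eq_of_preconnectedSpace y
      (a₀.left.base (IsLocalRing.closedPoint k))]
    refine (degC_map hf a₀ _ (IsLocalRing.closedPoint k)).symm.trans ?_
    rw [hD, degC_dC hf]
  let c : zeroClasses hf σ hσ J :=
    ⟨(norm f σ hσ J (famCls e hSc hI * (clsPt hf (zSec σ hσ J) ^ (n + 1))⁻¹)).1,
      (norm f σ hσ J (famCls e hSc hI * (clsPt hf (zSec σ hσ J) ^ (n + 1))⁻¹)).2, fun t => by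
      rw [degC_norm hf, degC_mulT hf, degC_invT hf, degC_powT hf, clsPt, degC_dC hf, hdeg]
      simp⟩
  let Φ : J ⟶ J := (e J).symm c
  have hΦ : Φ = 𝟙 J := by
    refine Over.OverMorphism.ext ?_
    have hGd : Dense (G : Set J.left) := G.isOpen.dense ⟨v, hv⟩
    haveI : LocallyOfFiniteType (Φ.left ≫ J.hom) := by rw [Over.w Φ]; infer_instance
    refine ext_of_apply_eq J.hom (G : Set J.left) G.isOpen.isLocallyClosed hGd (fun x hx hxc => ?_)
      (by rw [Over.w Φ, Over.id_left, Category.id_comp])
    let a : T₀ ⟶ J := Over.homMk (pointOfClosedPoint J.hom x hxc) (pointOfClosedPoint_comp J.hom x hxc)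
    have hax : a.left.base (IsLocalRing.closedPoint k) = x := pointOfClosedPoint_apply J.hom x hxc _
    obtain ⟨D, hD₁, hD₂⟩ := hpt a (hax.symm ▸ hx)
    have h1 : a ≫ Φ = a := by
      apply (e T₀).injective
      apply Subtype.ext
      rw [hnat, Equiv.apply_symm_apply]
      show pull (PicF.XTmap f a) (normHom σ hσ J _) = _
      rw [pull_normHom, map_mul, map_inv, map_pow, pull_base, hD₂]
      conv_rhs => rw [hD₁]
      rw [show e T₀ (∏ i, D i ≫ abel e) = ∏ i, e T₀ (D i ≫ abel e) from
          map_prod (MonoidHom.mk' (fun z : _ ⟶ J => e _ z) fun a b => hmul _ a b) _ Finset.univ]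
      simp only [e_comp_abel e hnat]
      rw [← divPoint_sumD]
      rfl
    rw [← hax]
    exact congrArg (fun q : T₀ ⟶ J => q.left.base (IsLocalRing.closedPoint k)) h1
  show c.1 = _
  rw [← hΦ, Equiv.apply_symm_apply]

include hnat hmul hn hS in
/-- The pullback of the translated theta divisor along the Abel map, for every divisor. -/
theorem pull_transl_abel_eq (D : Fin (n + 1) → (𝟙_ _ ⟶ Over.mk (X ↘ Spec (CommRingCat.of k)))) :
    pull (abel e ≫ Jac.transl J (∏ i, D i ≫ abel e)⁻¹).left (divCls hI) =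
      pull toPtFibre (dC hf (sumD hf D)) := by
  let f := X ↘ Spec (CommRingCat.of k)
  let T₀ := 𝟙_ (Over (Spec (CommRingCat.of k)))
  haveI : Subsingleton T₀.left := inferInstanceAs (Subsingleton (PrimeSpectrum k))
  set a := ∏ i, D i ≫ abel e with ha
  have hn' : ∀ c, normHom σ hσ T₀ c = c := fun c => by
    show (c * (pull _ (pull _ c))⁻¹ : PicLoc.PicSet (PicF.XT f T₀)) = c
    rw [eq_one_of_subsingleton (pull (PicF.secT f σ hσ T₀) c), map_one, inv_one, _root_.mul_one]
  have h1 := congrArg (pull (PicF.XTmap f a)) (normHom_famCls e hnat hmul hn hSc hS hI)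
  rw [pull_normHom, hn', map_mul, map_inv, map_pow, pull_base, ← hnat, Category.comp_id,
    ha, show e T₀ (∏ i, D i ≫ abel e) = ∏ i, e T₀ (D i ≫ abel e) from
      map_prod (MonoidHom.mk' (fun z : _ ⟶ J => e _ z) fun a b => hmul _ a b) _ Finset.univ] at h1
  simp only [e_comp_abel e hnat] at h1
  rw [← divPoint_sumD, show (divPoint σ hσ hf (sumD hf D)).1 =
    dC hf (sumD hf D) * (clsPt hf (zSec σ hσ T₀) ^ (n + 1))⁻¹ from hn' _] at h1
  have h2 := congrArg (pull toPtFibre) (mul_right_cancel h1)
  have h3 : pull (PicF.XTmap f a) (famCls e hSc hI) =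
      pull (pullback.fst f T₀.hom ≫ (abel e ≫ Jac.transl J a⁻¹).left) (divCls hI) :=
    (pull_comp (PicF.XTmap f a) (abelFam e).left _).symm.trans (by rw [XTmap_comp_abelFam])
  rw [h3, ← pull_comp, ← Category.assoc,
    show toPtFibre ≫ pullback.fst f T₀.hom = 𝟙 X from pullback.lift_fst _ _ _, Category.id_comp] at h2
  exact h2

end Main

end Groth.PicField
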