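import Groth.Agent.PicField.SymImage
import Groth.Agent.CurveDiv.Split
import Groth.Prelude.Def_Jac
import Mathlib

/-!
# The theta locus of a bundle is a translate of the image of the symmetric power

For an invertible module `N` of degree `n` on a pointed curve over a field the classes of degree
zero `ξ` with `H⁰(ξ ⊗ N) ≠ 0` are the translate of the image of the `n`-th power by the point of
`N(−nP)`.
-/

set_option autoImplicit false
set_option linter.style.haveILetI false

universe u

open CategoryTheory CategoryTheory.Limits MonoidalCategory CartesianMonoidalCategory MonObj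
  AlgebraicGeometry TopologicalSpace Opposite
open Groth.Abvar.PicCalc
open Groth.HilbPts (pullObj)
open Groth.PicAux (pullSec)
open Groth.ModelsGraphs.PicDim (zeroClasses degC_map degC_mulT degC_invT degC_powT degC_dC degC_norm
  degC_fst deg0)

set_option maxHeartbeats 1600000
set_option backward.isDefEq.respectTransparency false
set_option backward.defeqAttrib.useBackward true
set_option backward.isDefEq.respectTransparency.types false

noncomputable section

namespace Groth.PicField

open Groth.PicCurve Groth.DivNorm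

variable {k : Type u} [Field k] {X : Scheme.{u}} {f : X ⟶ Spec (CommRingCat.of k)}
  {σ : Spec (CommRingCat.of k) ⟶ X} {hσ : σ ≫ f = 𝟙 (Spec (CommRingCat.of k))}

/-- A class with a nonzero section over an algebraically closed field is the class of a divisor. -/
theorem exists_dC_eq (hf : IsPtCurve f) {Ω : Type u} [Field Ω]
    (s : Spec (CommRingCat.of Ω) ⟶ Spec (CommRingCat.of k))
    {L : (PicF.XT f (Over.mk s)).Modules} (hL : PicF.IsInvertible L)
    (hne : letI : (PicF.XT f (Over.mk s)).Over (Spec (CommRingCat.of Ω)) := ⟨PicF.XTproj f (Over.mk s)⟩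
      ¬ Subsingleton (Coh.HH (PicF.XT f (Over.mk s)) L 0))
    {d : ℕ} (hd : degC (PicF.XTproj f (Over.mk s)) (cls hL) (IsLocalRing.closedPoint Ω) = d) :
    ∃ W : HilbD.Obj f d (Over.mk s), dC hf W = cls hL := by
  let T : Over (Spec (CommRingCat.of k)) := Over.mk s
  let t₀ : T.left := IsLocalRing.closedPoint Ω
  let π := PicF.XTproj f T
  have := hf.isProper_proj T
  have := hf.smooth_proj T
  have := hf.smoothOne_proj T
  have := hf.geomInt_proj T
  haveI : GeometricallyConnected π := MorphismProperty.pullback_snd _ _ hf.geomConn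
  have hfam := isCurveFam_of_smooth π (hf.dim_fiber T)
  letI : (PicF.XT f T).Over (Spec (CommRingCat.of Ω)) := ⟨π⟩
  haveI : IsProper (PicF.XT f T ↘ Spec (CommRingCat.of Ω)) := ‹IsProper π›
  have hsub : ∀ t : T.left, t = t₀ := fun t => Subsingleton.elim (α := PrimeSpectrum Ω) _ _
  let K := T.left.residueField t₀
  letI : (π.fiber t₀).Over (Spec (CommRingCat.of K)) := ⟨π.fiberToSpecResidueField t₀⟩
  haveI : IsProper (π.fiber t₀ ↘ Spec (CommRingCat.of K)) :=
    MorphismProperty.pullback_snd (P := @IsProper) _ _ ‹IsProper π›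
  have h0 : 0 < CohIII.fiberRank π L 0 t₀ := by
    rw [fiberRank_specField π hL 0 t₀]
    haveI : Module.Finite Ω (Coh.HH (PicF.XT f T) L 0) :=
      Groth.EulerDeg.finite_HH Ω (PicF.XT f T) (Groth.EulerDeg.isCoh_of_isInvertible hL) 0
    haveI : Nontrivial (Coh.HH (PicF.XT f T) L 0) := not_subsingleton_iff_nontrivial.1 hne
    exact Module.finrank_pos
  have : Nontrivial (CohIII.fiberH π L t₀ 0) := Module.nontrivial_of_finrank_pos (R := K) h0
  obtain ⟨w, hw⟩ := exists_ne (0 : CohIII.fiberH π L t₀ 0)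
  let v := Groth.EulerDeg.h0Equiv K (CohIII.fiberMod π L t₀) w
  haveI : IsReduced T.left := inferInstanceAs (IsReduced (Spec (CommRingCat.of Ω)))
  have : IsIso (T.left.fromSpecResidueField t₀) := by
    have hcl : IsClosedImmersion (T.left.fromSpecResidueField t₀) := IsClosedImmersion.of_isPreimmersion _ (by
      rw [show Set.range (T.left.fromSpecResidueField t₀) = Set.univ from
        Set.eq_univ_of_forall fun y => ⟨IsLocalRing.closedPoint _,
          (Scheme.fromSpecResidueField_apply _ _).trans (hsub y).symm⟩]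
      exact isClosed_univ)
    have : Surjective (T.left.fromSpecResidueField t₀) :=
      ⟨fun y => ⟨IsLocalRing.closedPoint _, (Scheme.fromSpecResidueField_apply _ _).trans (hsub y).symm⟩⟩
    exact isIso_of_isClosedImmersion_of_surjective _
  have : IsIso (π.fiberι t₀) :=
    (IsPullback.of_hasPullback π (T.left.fromSpecResidueField t₀)).isIso_fst_of_isIso
  obtain ⟨sc, hs⟩ := (Groth.PicCurve.Glue.pullSec_bijective (π.fiberι t₀) L (U := ⊤)
    (by rw [Scheme.Hom.opensRange_of_isIso])).2 v
  have hNZ : FibNZ (W := ⊤) π L (show Γ(L, π ⁻¹ᵁ ⊤) from sc) := by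
    intro t _
    obtain rfl := hsub t
    intro h
    exact hw ((Groth.EulerDeg.h0Equiv K (CohIII.fiberMod π L t₀)).map_eq_zero_iff.1 (hs.symm.trans h))
  obtain ⟨hC, hfin, hflat, hlfp⟩ := isFinLocFree_zero hfam hL hNZ
  let I := zero L (show Γ(L, (⊤ : (PicF.XT f T).Opens)) from sc)
  have hdeg : Mor2.IsFinLocFreeOfDeg ((I.subschemeι ≫ π).finrank t₀) (I.subschemeι ≫ π) :=
    ⟨⟨hfin, hflat, hlfp⟩, fun t => by rw [hsub t]⟩
  let W : HilbD.Obj f ((I.subschemeι ≫ π).finrank t₀) T := ⟨I, hdeg⟩
  have hW : dC hf W = cls hL := (cls_eq_divCls hL _ hC).symm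
  have hn : (I.subschemeι ≫ π).finrank t₀ = d := by
    have h1 := degC_dC hf W t₀
    rw [hW, hd] at h1
    exact_mod_cast h1.symm
  exact ⟨⟨I, hn ▸ hdeg⟩, hW⟩

variable {hf : IsPtCurve f} {J : Over (Spec (CommRingCat.of k))} [GrpObj J] [IsCommMonObj J]
  (e : ∀ T : Over (Spec (CommRingCat.of k)), (T ⟶ J) ≃ zeroClasses hf σ hσ T)
  (hnat : ∀ (T T' : Over (Spec (CommRingCat.of k))) (g : T' ⟶ T) (h : T ⟶ J),
    (e T' (g ≫ h)).1 = pull (PicF.XTmap f g) (e T h).1)
  (hmul : ∀ (T : Over (Spec (CommRingCat.of k))) (g h : T ⟶ J), e T (g * h) = e T g * e T h)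

include hnat in
omit [IsCommMonObj J] [GrpObj J] in
/-- The point of a class of degree `n` twisted down to degree zero. -/
theorem exists_twist_point {N : X.Modules} (hN : PicF.IsInvertible N) {n : ℕ}
    (hd : deg0 f (cls hN) = n) :
    ∃ ν : 𝟙_ (Over (Spec (CommRingCat.of k))) ⟶ J, ∀ T : Over (Spec (CommRingCat.of k)),
      (e T (toUnit T ≫ ν)).1 =
        normHom σ hσ T (tw T (cls hN) * (clsPt hf (zSec σ hσ T) ^ n)⁻¹) := by
  let T₀ := 𝟙_ (Over (Spec (CommRingCat.of k)))
  let c : zeroClasses hf σ hσ T₀ :=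
    ⟨(norm f σ hσ T₀ (tw T₀ (cls hN) * (clsPt hf (zSec σ hσ T₀) ^ n)⁻¹)).1,
      (norm f σ hσ T₀ (tw T₀ (cls hN) * (clsPt hf (zSec σ hσ T₀) ^ n)⁻¹)).2, fun t => by
      rw [degC_norm hf, degC_mulT hf, degC_invT hf, degC_powT hf, degC_fst hf, hd, clsPt,
        degC_dC hf]
      simp⟩
  refine ⟨(e T₀).symm c, fun T => ?_⟩
  rw [hnat, Equiv.apply_symm_apply]
  show pull _ (normHom σ hσ T₀ _) = _
  rw [show pull (PicF.XTmap f (toUnit T)) (normHom σ hσ T₀ (tw T₀ (cls hN) * (clsPt hf (zSec σ hσ T₀) ^ n)⁻¹)) = _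
    from congrArg Subtype.val (norm_map (toUnit T) _), map_mul, map_inv, map_pow, tw_map, pull_base]
  rfl

omit [IsCommMonObj J] in
/-- Composition with a translation, over any field. -/
theorem comp_transl' {T : Over (Spec (CommRingCat.of k))} (z : T ⟶ J) (a : 𝟙_ _ ⟶ J) :
    z ≫ Jac.transl J a = z * (toUnit T ≫ a) := by
  rw [Jac.transl, MonObj.comp_mul, Category.comp_id, ← Category.assoc,
    toUnit_unique (z ≫ toUnit J) (toUnit T)]

variable (ψ : (ModFun.PicDeg f 0).Hom ⊤ J)
  (hψ : ∀ (T : Over (Spec (CommRingCat.of k))) (hT : (⊤ : ObjectProperty (Over _)) T)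
    (L : (ModFun.PicDeg f 0).Fam T) (hL : (ModFun.PicDeg f 0).ok T L),
    (e T (ψ.app T L hT hL)).1 = (PicCurve.norm f σ hσ T (cls ((ok_iff hf 0 T L).1 hL).1)).1)

include hnat hmul hψ in
/-- The theta locus is the translate of the image of the power. -/
theorem thetaLocus_eq [IsProper J.hom] {N : X.Modules} (hN : PicF.IsInvertible N) {n : ℕ}
    {ν : 𝟙_ (Over (Spec (CommRingCat.of k))) ⟶ J}
    (hν : ∀ T : Over (Spec (CommRingCat.of k)),
      (e T (toUnit T ≫ ν)).1 = normHom σ hσ T (tw T (cls hN) * (clsPt hf (zSec σ hσ T) ^ n)⁻¹))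
    (hd : deg0 f (cls hN) = n) :
    Jac.thetaLocus f 0 ψ N = (Jac.transl J ν⁻¹).left.base ''
      Set.range (List.ofFn fun i : Fin n => projC (Over.mk f) n i ≫ abel e).prod.left.base := by
  have := hf.proper
  have := hf.smoothOne
  let φ := (List.ofFn fun i : Fin n => projC (Over.mk f) n i ≫ abel e).prod
  haveI : IsProper (Over.mk f).hom := hf.proper
  have : IsProper (powC (Over.mk f) n).hom :=
    Groth.CurveBridge.FamilyH0.isProper_fibPow_base (Over.mk f).hom n
  have : IsProper (φ.left ≫ J.hom) := by rw [Over.w φ]; infer_instance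
  have : IsProper φ.left := IsProper.of_comp φ.left J.hom
  have hcl : IsClosed ((Jac.transl J ν⁻¹).left.base '' Set.range φ.left.base) := by
    rw [image_transl]
    exact φ.left.isClosedMap.isClosed_range.preimage (Scheme.Hom.continuous _)
  suffices h : Jac.jumpLocus f 0 ψ N = (Jac.transl J ν⁻¹).left.base '' Set.range φ.left.base by
    show closure _ = _
    rw [h]
    exact hcl.closure_eq
  -- points of products
  have hprod : ∀ {T : Over (Spec (CommRingCat.of k))} (x : Fin n → (T ⟶ Over.mk f)),
      (e T (∏ i, x i ≫ abel e)).1 =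
        normHom σ hσ T (dC hf (sumD hf x) * (clsPt hf (zSec σ hσ T) ^ n)⁻¹) := fun {T} x => by
    rw [show e T (∏ i, x i ≫ abel e) = ∏ i, e T (x i ≫ abel e) from
      map_prod (MonoidHom.mk' (fun z : T ⟶ J => e T z) fun a b => hmul T a b) _ Finset.univ]
    simp only [e_comp_abel e hnat]
    rw [← divPoint_sumD]
    rfl
  have hNs : ∀ {Ω : Type u} [Field Ω] (s : Spec (CommRingCat.of Ω) ⟶ Spec (CommRingCat.of k)),
      cls (Groth.PicAux.isInvertible_pullback (pullback.fst f s) hN) =
        tw (Over.mk s) (cls hN) := fun s => (pull_cls (pullback.fst f s) hN).symm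
  ext p
  constructor
  · rintro ⟨Ω, _, _, s, hP, L, hL, hne, pt, rfl⟩
    let T : Over (Spec (CommRingCat.of k)) := Over.mk s
    obtain ⟨hLi, hLd⟩ := (ok_iff hf 0 T L).1 hL
    have hM := Groth.PicAux.isInvertible_pullback (pullback.fst f s) hN
    have hMi := isInvertible_tensorMod hLi hM
    have hdeg : degC (PicF.XTproj f T) (cls hMi) (IsLocalRing.closedPoint Ω) = (n : ℤ) := by
      rw [cls_tensorMod hLi hM, hNs s, degC_mulT hf, hLd, degC_fst hf, hd, zero_add]
    obtain ⟨W, hW⟩ := exists_dC_eq hf s hMi hne hdeg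
    obtain ⟨T', g, -, hgs, -, x, hx, he⟩ := Groth.CurveDiv.exists_split f n T W
    let xo : Fin n → (T' ⟶ Over.mk f) := fun i => Over.homMk (x i) (hx i)
    let z := ψ.app T L hP hL
    have hWx : dC hf (sumD hf xo) =
        pull (PicF.XTmap f g) (cls hLi) * tw T' (cls hN) := by
      rw [← dC_congr hf (W := pullObj g W) (W' := sumD hf xo) he, ← pull_dC hf, hW,
        cls_tensorMod hLi hM, map_mul, hNs s, tw_map]
    have key : (g ≫ z) * (toUnit T' ≫ ν) = ∏ i, xo i ≫ abel e := by
      apply (e T').injective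
      apply Subtype.ext
      rw [hmul, hprod, hWx, Subgroup.coe_mul, hν, hnat, hψ]
      rw [show pull (PicF.XTmap f g) (PicCurve.norm f σ hσ T (cls ((ok_iff hf 0 T L).1 hL).1)).1 = _
        from congrArg Subtype.val (norm_map g _)]
      show normHom σ hσ T' _ * normHom σ hσ T' _ = _
      rw [← map_mul, _root_.mul_assoc]
    have key2 : (g ≫ z) ≫ Jac.transl J ν = ∏ i, xo i ≫ abel e := by
      rw [comp_transl', key]
    let tp : T' ⟶ powC (Over.mk f) n :=
      Over.homMk (WidePullback.lift (f := T'.hom) (fun i => (xo i).left) fun i => Over.w (xo i))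
        (WidePullback.lift_base _ _ _ _)
    have htp : tp ≫ φ = ∏ i, xo i ≫ abel e := by
      rw [comp_ofFn_prod]
      refine Finset.prod_congr rfl fun i _ => congrArg (· ≫ abel e) (Over.OverMorphism.ext ?_)
      exact WidePullback.lift_π _ _ _ _ i
    rw [image_transl, inv_inv]
    obtain ⟨q, rfl⟩ := g.left.surjective pt
    refine ⟨tp.left.base q, ?_⟩
    show φ.left.base (tp.left.base q) = (Jac.transl J ν).left.base (z.left.base (g.left.base q))
    rw [show φ.left.base (tp.left.base q) = (tp ≫ φ).left.base q from rfl, htp, ← key2]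
    rfl
  · rintro ⟨_, ⟨q, rfl⟩, rfl⟩
    let Ω : Type u := AlgebraicClosure ((powC (Over.mk f) n).left.residueField q)
    let t : Spec (CommRingCat.of Ω) ⟶ (powC (Over.mk f) n).left :=
      Spec.map (CommRingCat.ofHom (algebraMap ((powC (Over.mk f) n).left.residueField q) Ω)) ≫
        (powC (Over.mk f) n).left.fromSpecResidueField q
    let s : Spec (CommRingCat.of Ω) ⟶ Spec (CommRingCat.of k) := t ≫ (powC (Over.mk f) n).hom
    let T : Over (Spec (CommRingCat.of k)) := Over.mk s
    let tq : T ⟶ powC (Over.mk f) n := Over.homMk t rfl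
    let x : Fin n → (T ⟶ Over.mk f) := fun i => tq ≫ projC (Over.mk f) n i
    obtain ⟨L, hLi, hLc⟩ := PicGrp.exists_eq_cls (dC hf (sumD hf x) * (tw T (cls hN))⁻¹)
    have hL : (ModFun.PicDeg f 0).ok T L := (ok_iff hf 0 T L).2 ⟨hLi, fun u => by
      rw [show cls hLi = _ from hLc.symm, degC_mulT hf, degC_invT hf, degC_dC hf, degC_fst hf, hd,
        add_neg_cancel]⟩
    have hM := Groth.PicAux.isInvertible_pullback (pullback.fst f s) hN
    have hMi := isInvertible_tensorMod hLi hM
    have hMc : cls hMi = dC hf (sumD hf x) := by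
      rw [cls_tensorMod hLi hM, show cls hLi = _ from hLc.symm, hNs s, inv_mul_cancel_right]
    refine ⟨Ω, inferInstance, inferInstance, s, trivial, L, hL, ?_, IsLocalRing.closedPoint Ω, ?_⟩
    · let π := PicF.XTproj f T
      have := hf.isProper_proj T
      have := hf.smoothOne_proj T
      have := hf.geomInt_proj T
      let pt : T.left := IsLocalRing.closedPoint Ω
      letI : (PicF.XT f T).Over (Spec (CommRingCat.of Ω)) := ⟨π⟩
      haveI : IsProper (PicF.XT f T ↘ Spec (CommRingCat.of Ω)) := ‹IsProper π›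
      have hI := (isEffCartierIdeal_of_finLocFree π (sumD hf x).2).1
      obtain ⟨M, hMm, sec, hz, hc⟩ := exists_section hI
      have hs : FibNZ (W := ⊤) π M sec := fibNZ_of_zero π hMm (d := n) (hz ▸ (sumD hf x).2)
      letI : (π.fiber pt).Over (Spec (CommRingCat.of (T.left.residueField pt))) :=
        ⟨π.fiberToSpecResidueField pt⟩
      haveI : IsProper (π.fiber pt ↘ Spec (CommRingCat.of (T.left.residueField pt))) :=
        MorphismProperty.pullback_snd (P := @IsProper) _ _ ‹IsProper π›
      haveI : Module.Finite (T.left.residueField pt) (CohIII.fiberH π M pt 0) :=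
        Groth.EulerDeg.finite_HH (T.left.residueField pt) (π.fiber pt)
          (Groth.EulerDeg.isCoh_of_isInvertible (Groth.PicAux.isInvertible_pullback (π.fiberι pt) hMm)) 0
      let e' := Groth.EulerDeg.h0Equiv (T.left.residueField pt)
        ((Scheme.Modules.pullback (π.fiberι pt)).obj M)
      have : Nontrivial (CohIII.fiberH π M pt 0) :=
        ⟨⟨e'.symm (pullSec (π.fiberι pt) M sec), 0, fun h => hs pt trivial (by
          have := congrArg e' h
          rwa [LinearEquiv.apply_symm_apply, map_zero] at this)⟩⟩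
      have hpos : 0 < CohIII.fiberRank π M 0 pt := Module.finrank_pos
      rw [fiberRank_specField π hMm 0 pt] at hpos
      obtain ⟨iso⟩ := (nonempty_iso_iff hMm hMi).2 (hc.trans hMc.symm)
      rw [Groth.EulerDeg.finrank_congr (k := Ω) iso 0] at hpos
      intro hss
      exact hpos.ne' Module.finrank_zero_of_subsingleton
    · have hq : t (IsLocalRing.closedPoint Ω) = q := by
        rw [Scheme.Hom.comp_apply]
        exact Scheme.fromSpecResidueField_apply q _
      have hz : ψ.app T L trivial hL = (tq ≫ φ) ≫ Jac.transl J ν⁻¹ := by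
        rw [comp_transl', GrpObj.comp_inv, eq_mul_inv_iff_mul_eq]
        apply (e T).injective
        apply Subtype.ext
        rw [hmul, Subgroup.coe_mul, hψ, hν, comp_ofFn_prod, hprod]
        show normHom σ hσ T (cls hLi) * normHom σ hσ T _ = _
        rw [← map_mul, show cls hLi = _ from hLc.symm, ← _root_.mul_assoc, inv_mul_cancel_right]
      show (ψ.app T L trivial hL).left.base (IsLocalRing.closedPoint Ω) = _
      rw [hz]
      show (Jac.transl J ν⁻¹).left.base (φ.left.base (t (IsLocalRing.closedPoint Ω))) = _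
      rw [hq]

end Groth.PicField
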