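import Groth.Agent.PicField.Canonical
import Groth.Agent.CurveDiv.Split
import Groth.Agent.AlgSp3.RedInduced
import Groth.Agent.Agf.SmoothRed
import Mathlib

/-!
# The pullback of a translated theta divisor along the Abel map

A morphism `T ⟶ C` lands in the pullback of the reduced translate `a - Θ` exactly when it lands in
the divisor `D` of degree the genus with one section summing to `a`.
-/

set_option autoImplicit false
set_option linter.style.haveILetI false

universe u

open CategoryTheory CategoryTheory.Limits MonoidalCategory CartesianMonoidalCategory MonObj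
  AlgebraicGeometry TopologicalSpace Opposite
open Groth.Abvar.PicCalc Groth.CurveBridge
open Groth.HilbPts (pullObj)
open Groth.ModelsGraphs.PicDim (zeroClasses)

set_option maxHeartbeats 1600000
set_option backward.isDefEq.respectTransparency false
set_option backward.defeqAttrib.useBackward true
set_option backward.isDefEq.respectTransparency.types false

noncomputable section

namespace Groth.PicField

open Groth.PicCurve Groth.DivNorm

/-- Disjoint closed subschemes: the intersection of the ideals is the product. -/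
theorem inf_eq_mul_of_sup_eq_top {Y : Scheme.{u}} {I J : Y.IdealSheafData} (h : I ⊔ J = ⊤) :
    I ⊓ J = I * J := by
  refine le_antisymm (Scheme.IdealSheafData.le_def.2 fun U => ?_) ?_
  · have h' : I.ideal U ⊔ J.ideal U = ⊤ := by
      rw [← Pi.sup_apply, ← Scheme.IdealSheafData.ideal_sup, h]
      rfl
    rw [Scheme.IdealSheafData.ideal_inf, Scheme.IdealSheafData.ideal_mul, Pi.inf_apply, Pi.mul_apply,
      Ideal.mul_eq_inf_of_coprime h']
  · exact le_inf (mul_comm I J ▸ Groth.CurveDiv.mul_le_right' J I) (Groth.CurveDiv.mul_le_right' I J)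

section Classes

variable {k : Type u} [Field k] {X : Scheme.{u}} {f : X ⟶ Spec (CommRingCat.of k)}
  {σ : Spec (CommRingCat.of k) ⟶ X} {hσ : σ ≫ f = 𝟙 (Spec (CommRingCat.of k))}
  {hf : IsPtCurve f}

/-- Normalisation commutes with pullback. -/
theorem pull_normHom {T T' : Over (Spec (CommRingCat.of k))} (g : T' ⟶ T)
    (c : PicLoc.PicSet (PicF.XT f T)) :
    pull (PicF.XTmap f g) (normHom σ hσ T c) = normHom σ hσ T' (pull (PicF.XTmap f g) c) :=
  congrArg Subtype.val (norm_map g c)

/-- The point of a sum of two families. -/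
theorem divPoint_mul {d e m : ℕ} (hm : d + e = m) {T : Over (Spec (CommRingCat.of k))}
    (W : HilbD.Obj f d T) (W' : HilbD.Obj f e T) (V : HilbD.Obj f m T) (h : V.1 = W.1 * W'.1) :
    divPoint σ hσ hf V = divPoint σ hσ hf W * divPoint σ hσ hf W' := by
  subst hm
  apply Subtype.ext
  show normHom σ hσ T (dC hf V * _) = normHom σ hσ T _ * normHom σ hσ T _
  rw [← map_mul, dC_mul hf W W' V h, pow_add, mul_inv, _root_.mul_mul_mul_comm]

/-- A good family is determined by its point. -/
theorem eq_of_divPoint_eq {d : ℕ} {T : Over (Spec (CommRingCat.of k))} {W W' : HilbD.Obj f d T}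
    (hgood : ∀ t, GoodC (PicF.XTproj f T) (dC hf W) t)
    (h : divPoint σ hσ hf W = divPoint σ hσ hf W') : W.1 = W'.1 := by
  refine eq_of_norm_eq (σ := σ) (hσ := hσ) hf hgood (Subtype.ext ?_)
  have h1 := congrArg Subtype.val h
  change normHom σ hσ T (dC hf W * _) = normHom σ hσ T (dC hf W' * _) at h1
  rw [map_mul, map_mul] at h1
  exact mul_right_cancel h1

/-- Goodness of a family in terms of its point. -/
theorem goodC_divPoint {d : ℕ} {T : Over (Spec (CommRingCat.of k))} (W : HilbD.Obj f d T) (t : T.left) :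
    GoodC (PicF.XTproj f T) ((divPoint σ hσ hf W).1 * clsPt hf (zSec σ hσ T) ^ d) t ↔
      GoodC (PicF.XTproj f T) (dC hf W) t := by
  show GoodC _ ((norm f σ hσ T _).1 * _) t ↔ _
  rw [goodC_norm hf, inv_mul_cancel_right]

/-- A family of good classes is the point of a family of divisors. -/
theorem exists_divisor_of_point {d : ℕ} (hd : genus f = d) {T : Over (Spec (CommRingCat.of k))}
    (q : zeroClasses hf σ hσ T)
    (h : ∀ t, GoodC (PicF.XTproj f T) (q.1 * clsPt hf (zSec σ hσ T) ^ d) t) :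
    ∃ W : HilbD.Obj f d T, (∀ t, GoodC (PicF.XTproj f T) (dC hf W) t) ∧
      divPoint σ hσ hf W = q := by
  subst hd
  obtain ⟨W, hW⟩ := exists_divisor (σ := σ) (hσ := hσ) hf _ h
  have h1 : divPoint σ hσ hf W = q := by
    apply Subtype.ext
    show normHom σ hσ T (dC hf W * _) = q.1
    rw [map_mul, show normHom σ hσ T (dC hf W) = _ from congrArg Subtype.val hW]
    show normHom σ hσ T (q.1 * _) * _ = _
    rw [map_mul, map_inv, mul_inv_cancel_right]
    exact congrArg Subtype.val (norm_self (⟨q.1, q.2.1⟩ : RS f σ hσ T))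
  refine ⟨W, fun t => ?_, h1⟩
  rw [← goodC_divPoint (σ := σ) (hσ := hσ), h1]
  exact h t

end Classes

section Points

variable {k : Type u} [Field k] [IsAlgClosed k] {X : Scheme.{u}} {f : X ⟶ Spec (CommRingCat.of k)}

/-- An open containing all rational points is everything. -/
theorem mem_of_forall_point {T : Over (Spec (CommRingCat.of k))} [LocallyOfFiniteType T.hom]
    (U : T.left.Opens) (h : ∀ t : 𝟙_ _ ⟶ T, t.left.base (IsLocalRing.closedPoint k) ∈ U) (p : T.left) :
    p ∈ U := by
  have := LocallyOfFiniteType.jacobsonSpace T.hom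
  by_contra hp
  obtain ⟨q, hq, hqc⟩ := nonempty_inter_closedPoints (Z := (U : Set T.left)ᶜ) ⟨p, hp⟩
    U.isOpen.isClosed_compl.isLocallyClosed
  have := h (Over.homMk (pointOfClosedPoint T.hom q hqc) (pointOfClosedPoint_comp T.hom q hqc))
  rw [show (Over.homMk (pointOfClosedPoint T.hom q hqc) (pointOfClosedPoint_comp T.hom q hqc) :
    𝟙_ _ ⟶ T).left.base (IsLocalRing.closedPoint k) = q from pointOfClosedPoint_apply T.hom q hqc _] at this
  exact hq this

/-- Over a reduced base a family contains a section as soon as it does so over every rational point. -/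
theorem le_gr_of_forall_point {T : Over (Spec (CommRingCat.of k))} [IsReduced T.left]
    [LocallyOfFiniteType T.hom] {d : ℕ} (W : HilbD.Obj f d T) (x : T ⟶ Over.mk f)
    (h : ∀ t : 𝟙_ _ ⟶ T, HilbD.pull f t W.1 ≤ gr (t ≫ x)) : W.1 ≤ gr x := by
  let ga : T.left ⟶ PicF.XT f T := Groth.HilbPts.graph f T x.left (Over.w x)
  show W.1 ≤ ga.ker
  rw [Groth.AlgSp3.ker_eq_vanishingIdeal_of_isReduced,
    ← Scheme.IdealSheafData.le_support_iff_le_vanishingIdeal]
  refine closure_minimal ?_ W.1.support.isClosed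
  rintro _ ⟨p, rfl⟩
  have := LocallyOfFiniteType.jacobsonSpace T.hom
  by_contra hp
  obtain ⟨q, hq, hqc⟩ := nonempty_inter_closedPoints (Z := ga.base ⁻¹' ((W.1.support : Set (PicF.XT f T)))ᶜ)
    ⟨p, hp⟩ (W.1.support.isClosed.isOpen_compl.preimage ga.continuous).isLocallyClosed
  let tq : 𝟙_ (Over (Spec (CommRingCat.of k))) ⟶ T :=
    Over.homMk (pointOfClosedPoint T.hom q hqc) (pointOfClosedPoint_comp T.hom q hqc)
  have h1 := h tq
  rw [show gr (tq ≫ x) = (Groth.HilbPts.graph f _ (tq ≫ x).left (Over.w (tq ≫ x))).ker from rfl,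
    Groth.HilbPts.pull_le_ker] at h1
  have h2 : Groth.HilbPts.graph f _ (tq ≫ x).left (Over.w (tq ≫ x)) ≫ PicF.XTmap f tq =
      tq.left ≫ ga := by
    apply pullback.hom_ext
    · simp [ga, Groth.HilbPts.graph, Groth.HilbPts.XTmap_fst]
    · simp [ga, Groth.HilbPts.graph, Groth.HilbPts.XTmap_proj]
  rw [h2] at h1
  apply hq
  have h3 := Scheme.IdealSheafData.support_antitone h1
    ((tq.left ≫ ga).range_subset_ker_support ⟨IsLocalRing.closedPoint k, rfl⟩)
  rwa [Scheme.Hom.comp_apply, show tq.left.base (IsLocalRing.closedPoint k) = q from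
    pointOfClosedPoint_apply T.hom q hqc _] at h3

/-- A divisor on the curve is a sum of rational points. -/
theorem exists_points_of_obj (hf : IsPtCurve f) {d : ℕ}
    (W : HilbD.Obj f d (𝟙_ (Over (Spec (CommRingCat.of k))))) :
    ∃ y : Fin d → (𝟙_ _ ⟶ Over.mk f), W.1 = (sumD hf y).1 := by
  have := hf.proper
  have := hf.smoothOne
  obtain ⟨T', g, -, hg2, hg3, x, hx, he⟩ := Groth.CurveDiv.exists_split f d _ W
  have : LocallyOfFinitePresentation T'.hom := by
    rw [← Over.w g]
    have : IsIso (𝟙_ (Over (Spec (CommRingCat.of k)))).hom := by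
      rw [Over.tensorUnit_hom]; exact IsIso.id _
    infer_instance
  have := LocallyOfFiniteType.jacobsonSpace T'.hom
  obtain ⟨p, -⟩ := g.left.surjective (IsLocalRing.closedPoint k)
  obtain ⟨q, -, hqc⟩ := nonempty_inter_closedPoints (Z := (Set.univ : Set T'.left)) ⟨p, trivial⟩
    isOpen_univ.isLocallyClosed
  let tq : 𝟙_ (Over (Spec (CommRingCat.of k))) ⟶ T' :=
    Over.homMk (pointOfClosedPoint T'.hom q hqc) (pointOfClosedPoint_comp T'.hom q hqc)
  let xo : Fin d → (T' ⟶ Over.mk f) := fun i => Over.homMk (x i) (hx i)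
  refine ⟨fun i => tq ≫ xo i, ?_⟩
  have hid : tq ≫ g = 𝟙 _ := (toUnit_unique _ _)
  have h1 := congrArg (HilbD.pull f tq) (he.trans (rfl : _ = ∏ i, gr (xo i)))
  rw [Groth.HilbPts.pull_pull, hid, Groth.CurveDiv.pull_id, Groth.DivNorm.pull_prod] at h1
  exact h1

end Points

section Main

variable {k : Type u} [Field k] [IsAlgClosed k] {X : Scheme.{u}} [X.Over (Spec (CommRingCat.of k))]
  [IsProper (X ↘ Spec (CommRingCat.of k))] [IsIntegral X]
  {σ : Spec (CommRingCat.of k) ⟶ X}
  {hσ : σ ≫ (X ↘ Spec (CommRingCat.of k)) = 𝟙 (Spec (CommRingCat.of k))}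
  {hf : IsPtCurve (X ↘ Spec (CommRingCat.of k))}
  {J : Over (Spec (CommRingCat.of k))} [GrpObj J] [IsCommMonObj J]
  (e : ∀ T : Over (Spec (CommRingCat.of k)), (T ⟶ J) ≃ zeroClasses hf σ hσ T)
  (hnat : ∀ (T T' : Over (Spec (CommRingCat.of k))) (g : T' ⟶ T) (h : T ⟶ J),
    (e T' (g ≫ h)).1 = pull (PicF.XTmap (X ↘ Spec (CommRingCat.of k)) g) (e T h).1)
  (hmul : ∀ (T : Over (Spec (CommRingCat.of k))) (g h : T ⟶ J), e T (g * h) = e T g * e T h)
  {n : ℕ} (hn : genus (X ↘ Spec (CommRingCat.of k)) = n + 1)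
  (D : Fin (n + 1) → (𝟙_ _ ⟶ Over.mk (X ↘ Spec (CommRingCat.of k))))
  (hgood : GoodC (PicF.XTproj (X ↘ Spec (CommRingCat.of k)) (𝟙_ _)) (dC hf (sumD hf D))
    (IsLocalRing.closedPoint k))
  {S : Set J.left}
  (hS : ∀ z : 𝟙_ _ ⟶ J, z.left.base (IsLocalRing.closedPoint k) ∈ S ↔
    ∃ y : Fin n → (𝟙_ _ ⟶ Over.mk (X ↘ Spec (CommRingCat.of k))),
      (∏ i, D i ≫ abel e) * z⁻¹ = ∏ i, y i ≫ abel e)
  (hSc : IsClosed S)

omit [IsAlgClosed k] [IsCommMonObj J] [GrpObj J] in
/-- The constant family containing a section, in terms of ideals on the curve. -/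
theorem sumD_const_le_gr_iff {T : Over (Spec (CommRingCat.of k))}
    (τ : T ⟶ Over.mk (X ↘ Spec (CommRingCat.of k))) :
    (sumD hf fun i => toUnit T ≫ D i).1 ≤ gr τ ↔ ∏ i, (D i).left.ker ≤ τ.left.ker := by
  let f := X ↘ Spec (CommRingCat.of k)
  let ga : T.left ⟶ PicF.XT f T := Groth.HilbPts.graph f T τ.left (Over.w τ)
  have hγ : ga ≫ pullback.fst f T.hom = τ.left := pullback.lift_fst _ _ _
  let pr := pullback.fst f T.hom
  have h1 : ∀ i, gr (toUnit T ≫ D i) = (show Spec (CommRingCat.of k) ⟶ X from (D i).left).ker.comap pr := fun i => by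
    have hw : (show Spec (CommRingCat.of k) ⟶ X from (D i).left) ≫ f = 𝟙 _ := Over.w (D i)
    rw [← gr_point hw T]
    exact congrArg gr (Over.OverMorphism.ext rfl)
  have h2 : ∀ {m : ℕ} (I : Fin m → X.IdealSheafData), (∏ i, I i).comap pr = ∏ i, (I i).comap pr := by
    intro m
    induction m with
    | zero => intro I; simp [Scheme.IdealSheafData.one_eq_top, Scheme.IdealSheafData.comap_top]
    | succ m ih => intro I; rw [Fin.prod_univ_succ, Fin.prod_univ_succ, Groth.Divisors.comap_mul, ih]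
  show (∏ i, gr (toUnit T ≫ D i)) ≤ ga.ker ↔ _
  simp only [h1]
  rw [← h2, ← Scheme.IdealSheafData.map_bot, Scheme.IdealSheafData.le_map_iff_comap_le,
    ← Scheme.IdealSheafData.comap_comp, hγ, ← Scheme.IdealSheafData.le_map_iff_comap_le,
    Scheme.IdealSheafData.map_bot]

omit [IsAlgClosed k] in
include hnat hmul in
/-- The point of the constant family. -/
theorem divPoint_const (T : Over (Spec (CommRingCat.of k))) {d : ℕ}
    (D : Fin d → (𝟙_ _ ⟶ Over.mk (X ↘ Spec (CommRingCat.of k)))) :
    e T (toUnit T ≫ ∏ i, D i ≫ abel e) = divPoint σ hσ hf (sumD hf fun i => toUnit T ≫ D i) := by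
  rw [show toUnit T ≫ (∏ i, D i ≫ abel e) = ∏ i, (toUnit T ≫ D i) ≫ abel e from
      (Groth.DivNorm.comp_prod (toUnit T) fun i => D i ≫ abel e).trans (by simp only [Category.assoc]),
    show e T (∏ i, (toUnit T ≫ D i) ≫ abel e) = ∏ i, e T ((toUnit T ≫ D i) ≫ abel e) from
      map_prod (MonoidHom.mk' (fun z : T ⟶ J => e T z) fun a b => hmul T a b) _ Finset.univ,
    divPoint_sumD]
  simp only [e_comp_abel e hnat]

include hnat hmul hS hSc in
/-- A family of points of the divisor lands in the translated theta divisor. -/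
theorem vanishingIdeal_le_of_le_gr {T : Over (Spec (CommRingCat.of k))}
    (τ : T ⟶ Over.mk (X ↘ Spec (CommRingCat.of k)))
    (hτ : (sumD hf fun i => toUnit T ≫ D i).1 ≤ gr τ) :
    Scheme.IdealSheafData.vanishingIdeal ⟨S, hSc⟩ ≤ (τ ≫ abel e).left.ker := by
  let f := X ↘ Spec (CommRingCat.of k)
  have := hf.proper
  have := hf.smoothOne
  obtain ⟨R, hR⟩ := Groth.CurveDiv.exists_residual f (sumD hf fun i => toUnit T ≫ D i) τ.left
    (Over.w τ) hτ
  obtain ⟨H, Z, hZ, hHp, hHs⟩ := Groth.CurveDiv.exists_proper_smooth k X f hf.curve n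
  have : IsReduced H.left := Groth.Agf.isReduced_of_smooth H.hom
  obtain ⟨t, ht, -⟩ := hZ T R
  let a := ∏ i, D i ≫ abel e
  let m : H ⟶ J := (toUnit H ≫ a) * ((e H).symm (divPoint σ hσ hf Z))⁻¹
  have htm : t ≫ m = τ ≫ abel e := by
    have h1 : t ≫ (e H).symm (divPoint σ hσ hf Z) = (e T).symm (divPoint σ hσ hf R) := by
      apply (e T).injective
      apply Subtype.ext
      rw [hnat, Equiv.apply_symm_apply, Equiv.apply_symm_apply, pull_divPoint]
      exact congrArg Subtype.val (divPoint_congr σ hσ hf (W' := R) ht)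
    show t ≫ (_ * _) = _
    rw [MonObj.comp_mul, GrpObj.comp_inv, h1, ← Category.assoc, toUnit_unique (t ≫ toUnit H) (toUnit T),
      mul_inv_eq_iff_eq_mul]
    apply (e T).injective
    rw [divPoint_const e hnat hmul, hmul, e_comp_abel e hnat, Equiv.apply_symm_apply,
      divPoint_mul (σ := σ) (hσ := hσ) (Nat.add_comm 1 n) (ptD hf τ) R _ hR]
    rfl
  have hle : Scheme.IdealSheafData.vanishingIdeal ⟨S, hSc⟩ ≤ m.left.ker := by
    rw [Groth.AlgSp3.ker_eq_vanishingIdeal_of_isReduced]
    refine Scheme.IdealSheafData.vanishingIdeal_antimono (closure_minimal ?_ hSc)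
    rintro _ ⟨p, rfl⟩
    have : LocallyOfFiniteType H.hom := inferInstance
    have := LocallyOfFiniteType.jacobsonSpace H.hom
    by_contra hp
    obtain ⟨q, hq, hqc⟩ := nonempty_inter_closedPoints (Z := m.left.base ⁻¹' Sᶜ)
      ⟨p, hp⟩ (hSc.isOpen_compl.preimage m.left.continuous).isLocallyClosed
    let tq : 𝟙_ (Over (Spec (CommRingCat.of k))) ⟶ H :=
      Over.homMk (pointOfClosedPoint H.hom q hqc) (pointOfClosedPoint_comp H.hom q hqc)
    obtain ⟨y, hy⟩ := exists_points_of_obj hf (pullObj tq Z)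
    apply hq
    have hmem := (hS (tq ≫ m)).2 ⟨y, by
      have h1 : tq ≫ (e H).symm (divPoint σ hσ hf Z) = ∏ i, y i ≫ abel e := by
        apply (e _).injective
        apply Subtype.ext
        rw [hnat, Equiv.apply_symm_apply, pull_divPoint,
          show e _ (∏ i, y i ≫ abel e) = ∏ i, e _ (y i ≫ abel e) from
            map_prod (MonoidHom.mk' (fun z : _ ⟶ J => e _ z) fun a b => hmul _ a b) _ Finset.univ]
        simp only [e_comp_abel e hnat]
        rw [← divPoint_sumD]
        exact congrArg Subtype.val (divPoint_congr σ hσ hf hy)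
      show (∏ i, D i ≫ abel e) * (tq ≫ (_ * _))⁻¹ = _
      rw [MonObj.comp_mul, GrpObj.comp_inv, h1, ← Category.assoc,
        toUnit_unique (tq ≫ toUnit H) (𝟙 _), Category.id_comp, mul_inv_rev, inv_inv]
      exact mul_inv_cancel_comm_assoc a _⟩
    rwa [show (tq ≫ m).left.base (IsLocalRing.closedPoint k) = m.left.base q from by
      show (tq.left ≫ m.left).base _ = _
      rw [Scheme.Hom.comp_apply]
      exact congrArg _ (pointOfClosedPoint_apply H.hom q hqc _)] at hmem
  rw [← htm]
  exact hle.trans (Scheme.Hom.le_ker_comp t.left m.left)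

include hnat hmul hn hgood hS hSc in
/-- A family of points in the translated theta divisor lands in the divisor. -/
theorem prod_ker_le_of_vanishingIdeal_le [LocallyOfFiniteType J.hom]
    {T : Over (Spec (CommRingCat.of k))} [LocallyOfFiniteType T.hom]
    (τ : T ⟶ Over.mk (X ↘ Spec (CommRingCat.of k))) [QuasiCompact τ.left]
    (hτ : Scheme.IdealSheafData.vanishingIdeal ⟨S, hSc⟩ ≤ (τ ≫ abel e).left.ker) :
    ∏ i, (D i).left.ker ≤ τ.left.ker := by
  let f := X ↘ Spec (CommRingCat.of k)
  have := hf.proper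
  have := hf.smoothOne
  let a := ∏ i, D i ≫ abel e
  let V := Scheme.IdealSheafData.vanishingIdeal (X := J.left) ⟨S, hSc⟩
  let Zc : Over (Spec (CommRingCat.of k)) := Over.mk (V.subschemeι ≫ J.hom)
  let inc : Zc ⟶ J := Over.homMk V.subschemeι rfl
  have : IsReduced Zc.left := Groth.PropsBasic2.isReduced_vanishingIdeal_subscheme ⟨S, hSc⟩
  have : LocallyOfFiniteType Zc.hom := inferInstanceAs (LocallyOfFiniteType (V.subschemeι ≫ J.hom))
  obtain ⟨r, hr⟩ := (Groth.HilbPts.le_ker_iff _ _).1 hτ
  let ρ : T ⟶ Zc := Over.homMk r (by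
    show r ≫ V.subschemeι ≫ J.hom = T.hom
    rw [reassoc_of% hr]
    exact Over.w (τ ≫ abel e))
  have hρ : ρ ≫ inc = τ ≫ abel e := Over.OverMorphism.ext hr
  -- the piece of the family attached to a point of the curve
  let u : ∀ x : 𝟙_ _ ⟶ Over.mk f, Zc ⟶ J := fun x =>
    (toUnit Zc ≫ a) * inc⁻¹ * (toUnit Zc ≫ x ≫ abel e)
  let G : (𝟙_ _ ⟶ Over.mk f) → Zc.left.Opens := fun x =>
    goodOpens f hf ((e Zc (u x)).1 * clsPt hf (zSec σ hσ Zc) ^ (n + 1))
  let Tp : (𝟙_ _ ⟶ T) → T.left.Opens := fun t => r ⁻¹ᵁ G (t ≫ τ)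
  have hsub : ∀ p : (𝟙_ (Over (Spec (CommRingCat.of k)))).left, p = IsLocalRing.closedPoint k :=
    fun p => Subsingleton.elim (α := PrimeSpectrum k) _ _
  have hgood' : ∀ p, GoodC (PicF.XTproj f (𝟙_ _)) (dC hf (sumD hf D)) p := fun p => hsub p ▸ hgood
  have hmem : ∀ t : 𝟙_ _ ⟶ T, t.left.base (IsLocalRing.closedPoint k) ∈ Tp t := fun t => by
    show r (t.left.base (IsLocalRing.closedPoint k)) ∈ G (t ≫ τ)
    have h1 : (t ≫ ρ).left (IsLocalRing.closedPoint k) = r (t.left.base (IsLocalRing.closedPoint k)) :=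
      rfl
    rw [← h1]
    show GoodC _ _ _
    rw [← goodC_map_iff hf (t ≫ ρ), map_mul, map_pow, pull_base, ← hnat]
    have h2 : (t ≫ ρ) ≫ u (t ≫ τ) = a := by
      show (t ≫ ρ) ≫ (_ * _ * _) = _
      rw [MonObj.comp_mul, MonObj.comp_mul, GrpObj.comp_inv, Category.assoc t ρ inc, hρ,
        ← Category.assoc (t ≫ ρ), toUnit_unique ((t ≫ ρ) ≫ toUnit Zc) (𝟙 _), Category.id_comp,
        ← Category.assoc (t ≫ ρ), toUnit_unique ((t ≫ ρ) ≫ toUnit Zc) (𝟙 _), Category.id_comp,
        Category.assoc, inv_mul_cancel_right]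
    have h3 := divPoint_const e hnat hmul (𝟙_ (Over (Spec (CommRingCat.of k)))) D
    simp only [toUnit_unique (toUnit (𝟙_ (Over (Spec (CommRingCat.of k))))) (𝟙 _), Category.id_comp] at h3
    rw [h2, h3, goodC_divPoint]
    exact hgood
  have hcov : iSup Tp = ⊤ := top_le_iff.1 fun p _ =>
    mem_of_forall_point (iSup Tp) (fun t => TopologicalSpace.Opens.mem_iSup.2 ⟨t, hmem t⟩) p
  rw [← Scheme.Hom.iInf_ker_openCover_map_comp τ.left (Scheme.openCoverOfIsOpenCover _ Tp hcov)]
  refine le_iInf fun t => ?_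
  -- the family over the piece
  let x := t ≫ τ
  let G' : Over (Spec (CommRingCat.of k)) := opn Zc (G x)
  let jG : G' ⟶ Zc := opnHom _ _
  have : IsReduced G'.left := inferInstanceAs (IsReduced (G x).toScheme)
  have : LocallyOfFiniteType G'.hom :=
    inferInstanceAs (LocallyOfFiniteType ((G x).ι ≫ Zc.hom))
  obtain ⟨W, hWgood, hW⟩ := exists_divisor_of_point hn (e G' (jG ≫ u x)) fun z => by
    rw [hnat, ← pull_base σ hσ hf jG, ← map_pow, ← map_mul, goodC_map_iff hf]
    exact z.2
  have hWle : W.1 ≤ gr (toUnit G' ≫ x) := by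
    refine le_gr_of_forall_point W _ fun s => ?_
    obtain ⟨y, hy⟩ := (hS (s ≫ jG ≫ inc)).1 (by
      have h1 : ∀ z : Zc.left, V.subschemeι z ∈ S := fun z => by
        have h2 : V.subschemeι z ∈ V.support :=
          V.range_subschemeι.le ⟨z, rfl⟩
        rwa [← SetLike.mem_coe, Scheme.IdealSheafData.coe_support_vanishingIdeal] at h2
      exact h1 _)
    let V' : HilbD.Obj f (n + 1) (𝟙_ _) := sumD hf (Fin.cons x y)
    have hV : (pullObj s W).1 = V'.1 := by
      refine eq_of_divPoint_eq (σ := σ) (hσ := hσ) (hf := hf) (W := pullObj s W) (W' := V') (fun z => ?_) ?_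
      · rw [← pull_dC hf, goodC_map_iff hf]
        exact hWgood _
      · apply Subtype.ext
        rw [← pull_divPoint, hW, ← hnat]
        have : s ≫ jG ≫ u x = ∏ i, (Fin.cons x y : Fin (n + 1) → _) i ≫ abel e := by
          show s ≫ jG ≫ (_ * _ * _) = _
          rw [Fin.prod_univ_succ]
          simp only [Fin.cons_zero, Fin.cons_succ]
          rw [← hy]
          simp only [MonObj.comp_mul, GrpObj.comp_inv, ← Category.assoc]
          rw [toUnit_unique (((s ≫ jG) ≫ toUnit Zc)) (𝟙 _), Category.id_comp, mul_comm]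
          rfl
        rw [this]
        have h3 := divPoint_const e hnat hmul (𝟙_ (Over (Spec (CommRingCat.of k)))) (Fin.cons x y)
        simp only [toUnit_unique (toUnit (𝟙_ (Over (Spec (CommRingCat.of k))))) (𝟙 _), Category.id_comp] at h3
        rw [h3]
    show HilbD.pull f s W.1 ≤ _
    rw [show HilbD.pull f s W.1 = V'.1 from hV, ← Category.assoc, toUnit_unique (s ≫ toUnit G') (𝟙 _),
      Category.id_comp]
    show (∏ i, gr ((Fin.cons x y : Fin (n + 1) → _) i)) ≤ _
    rw [Fin.prod_univ_succ, Fin.cons_zero, mul_comm]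
    exact Groth.CurveDiv.mul_le_right' _ _
  let T' : Over (Spec (CommRingCat.of k)) := opn T (Tp t)
  let ρ' : T' ⟶ G' := Over.homMk (r.resLE (G x) (Tp t) le_rfl) (by
    show _ ≫ (G x).ι ≫ Zc.hom = (Tp t).ι ≫ T.hom
    rw [Scheme.Hom.resLE_comp_ι_assoc]
    exact congrArg ((Tp t).ι ≫ ·) (Over.w ρ))
  have hρ' : ρ' ≫ jG = opnHom T (Tp t) ≫ ρ := Over.OverMorphism.ext (Scheme.Hom.resLE_comp_ι _ _)
  let τ' : T' ⟶ Over.mk f := opnHom T (Tp t) ≫ τ
  suffices h : (sumD hf fun i => toUnit T' ≫ D i).1 ≤ gr τ' from (sumD_const_le_gr_iff D τ').1 h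
  let W' : HilbD.Obj f (n + 1) T' := pullObj ρ' W
  have hle : W'.1 ≤ gr (toUnit T' ≫ x) := by
    have h1 := Scheme.IdealSheafData.comap_mono (f := PicF.XTmap f ρ') hWle
    change W.1.comap (PicF.XTmap f ρ') ≤ (gr (toUnit G' ≫ x)).comap (PicF.XTmap f ρ') at h1
    rw [← Groth.CurveDiv.pull_eq_comap, ← Groth.CurveDiv.pull_eq_comap, pull_gr, ← Category.assoc,
      toUnit_unique (ρ' ≫ toUnit G') (toUnit T')] at h1
    exact h1
  obtain ⟨R, hR⟩ := Groth.CurveDiv.exists_residual f W' (toUnit T' ≫ x).left (Over.w _) hle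
  have := hf.smoothOne_proj T'
  let Vn : HilbD.Obj f (n + 1) T' := ⟨(ptD hf τ').1 * R.1, by
    have := Groth.CurveDiv.isFinLocFreeOfDeg_mul (PicF.XTproj f T') (ptD hf τ').2 R.2
    rwa [Nat.add_comm] at this⟩
  have hDV : (sumD hf fun i => toUnit T' ≫ D i).1 = Vn.1 := by
    refine eq_of_divPoint_eq (σ := σ) (hσ := hσ) (hf := hf) (fun z => ?_) ?_
    · have : (sumD hf fun i => toUnit T' ≫ D i).1 = (pullObj (toUnit T') (sumD hf D)).1 :=
        by
          show _ = HilbD.pull f (toUnit T') (∏ i, gr (D i))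
          rw [Groth.DivNorm.pull_prod]
          rfl
      rw [dC_congr hf this, ← pull_dC hf, goodC_map_iff hf]
      exact hgood' _
    · rw [← divPoint_const e hnat hmul, divPoint_mul (σ := σ) (hσ := hσ) (Nat.add_comm 1 n) (ptD hf τ') R Vn rfl,
        show divPoint σ hσ hf (ptD hf τ') = e T' (τ' ≫ abel e) from (e_comp_abel e hnat τ').symm]
      have h1 : divPoint σ hσ hf W' = e T' (ρ' ≫ jG ≫ u x) := by
        apply Subtype.ext
        rw [hnat, ← hW, pull_divPoint]
      rw [divPoint_mul (σ := σ) (hσ := hσ) (Nat.add_comm 1 n) (ptD hf (toUnit T' ≫ x)) R W' hR,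
        show divPoint σ hσ hf (ptD hf (toUnit T' ≫ x)) = e T' ((toUnit T' ≫ x) ≫ abel e) from
          (e_comp_abel e hnat _).symm] at h1
      have h2 : ρ' ≫ jG ≫ u x =
          (toUnit T' ≫ a) * (τ' ≫ abel e)⁻¹ * ((toUnit T' ≫ x) ≫ abel e) := by
        rw [reassoc_of% hρ']
        show _ ≫ _ ≫ (_ * _ * _) = _
        simp only [MonObj.comp_mul, GrpObj.comp_inv, ← Category.assoc]
        rw [Category.assoc (opnHom T (Tp t)) ρ inc, hρ, toUnit_unique ((opnHom T (Tp t) ≫ ρ) ≫ toUnit Zc) (toUnit T')]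
        rfl
      rw [h2, hmul, mul_comm (e T' (_ * _))] at h1
      rw [mul_left_cancel h1, ← hmul, mul_inv_cancel_comm_assoc]
  rw [hDV]
  show (ptD hf τ').1 * R.1 ≤ _
  rw [mul_comm]
  exact Groth.CurveDiv.mul_le_right' _ _

include hnat hmul hn hgood hS hSc in
/-- The pullback of the translated theta divisor along the Abel map is the divisor. -/
theorem comap_abel_eq_prod_ker [LocallyOfFiniteType J.hom] :
    (Scheme.IdealSheafData.vanishingIdeal ⟨S, hSc⟩).comap (abel e).left = ∏ i, (D i).left.ker := by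
  let f := X ↘ Spec (CommRingCat.of k)
  have := hf.proper
  let mkT : ∀ P : X.IdealSheafData, ∃ (T : Over (Spec (CommRingCat.of k)))
      (τ : T ⟶ Over.mk f), IsClosedImmersion τ.left ∧ LocallyOfFiniteType T.hom ∧ τ.left.ker = P :=
    fun P => ⟨Over.mk (P.subschemeι ≫ f), Over.homMk P.subschemeι rfl,
      inferInstanceAs (IsClosedImmersion P.subschemeι),
      inferInstanceAs (LocallyOfFiniteType (P.subschemeι ≫ f)), P.ker_subschemeι⟩
  apply le_antisymm
  · obtain ⟨T, τ, hc, hlft, hk⟩ := mkT (∏ i, (D i).left.ker)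
    have h := vanishingIdeal_le_of_le_gr e hnat hmul D hS hSc τ
      ((sumD_const_le_gr_iff D τ).2 hk.ge)
    rw [Over.comp_left, ← Scheme.IdealSheafData.map_bot, Scheme.IdealSheafData.map_comp,
      Scheme.IdealSheafData.map_bot, Scheme.IdealSheafData.le_map_iff_comap_le] at h
    exact h.trans hk.le
  · obtain ⟨T, τ, hc, hlft, hk⟩ := mkT ((Scheme.IdealSheafData.vanishingIdeal ⟨S, hSc⟩).comap (abel e).left)
    refine le_of_le_of_eq (prod_ker_le_of_vanishingIdeal_le e hnat hmul hn D hgood hS hSc τ ?_) hk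
    rw [Over.comp_left, ← Scheme.IdealSheafData.map_bot, Scheme.IdealSheafData.map_comp,
      Scheme.IdealSheafData.map_bot, Scheme.IdealSheafData.le_map_iff_comap_le]
    exact hk.ge

end Main

section Numerics

variable {k : Type u} [Field k] [IsAlgClosed k] {X : Scheme.{u}} [X.Over (Spec (CommRingCat.of k))]
  [IsProper (X ↘ Spec (CommRingCat.of k))] [IsIntegral X] {h : IsRegCurve X}
  (hf : IsPtCurve (X ↘ Spec (CommRingCat.of k))) (hK : FunFld.IsFunctionField k X.functionField)

include hK in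
/-- A sum of genus many points with one section is good. -/
theorem goodC_sumD_of_ell {g : ℕ} (hg : genus (X ↘ Spec (CommRingCat.of k)) = g)
    (D : Fin g → (𝟙_ _ ⟶ Over.mk (X ↘ Spec (CommRingCat.of k))))
    (hl : FunFld.ell (∑ i, Finsupp.single (plOf h (D i)) 1 : FunFld.Divisor k X.functionField) = 1) :
    GoodC (PicF.XTproj (X ↘ Spec (CommRingCat.of k)) (𝟙_ _)) (dC hf (sumD hf D))
      (IsLocalRing.closedPoint k) := by
  let f := X ↘ Spec (CommRingCat.of k)
  let T := 𝟙_ (Over (Spec (CommRingCat.of k)))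
  let π := PicF.XTproj f T
  let pr := pullback.fst f T.hom
  obtain ⟨L, hL, hLc⟩ := PicGrp.exists_eq_cls (pull toPtFibre (dC hf (sumD hf D)))
  obtain ⟨φ, A, hA, hA0, -, -⟩ := exists_divEmb h hK hL
  have hD : IsDivCls k h (cls hL) (∑ i, Finsupp.single (plOf h (D i)) 1) := by
    rw [show cls hL = _ from hLc.symm, dC_sumD, map_prod]
    exact IsDivCls.prod hK fun i => isDivCls_clsPt hK hf (D i) (h := h)
  obtain ⟨w, hw, he⟩ := IsDivCls.linEquiv hK ⟨L, hL, φ, rfl, hA⟩ hD
  have hX0 : Module.finrank k (Coh.HH X L 0) = 1 := by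
    rw [hA0, ← hl, he, (Groth.FunFld1.IsFF.of_isFunctionField hK).ell_add_div _ hw]
  have hid : pr ≫ toPtFibre = 𝟙 _ := by
    refine pullback.hom_ext ?_ ?_
    · rw [Category.assoc, Category.id_comp, toPtFibre, pullback.lift_fst, Category.comp_id]
    · simp only [pr, toPtFibre, Category.assoc, pullback.lift_snd, Category.id_comp]
      rw [pullback.condition]
      simp [Over.tensorUnit_hom, f, T]
  have hc : cls (Groth.PicAux.isInvertible_pullback pr hL) = dC hf (sumD hf D) := by
    rw [← pull_cls pr hL, show cls hL = _ from hLc.symm, ← pull_comp, hid, pull_id]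
  have := hf.isProper_proj T
  letI : (PicF.XT f T).Over (Spec (CommRingCat.of k)) := ⟨π⟩
  let pt : T.left := IsLocalRing.closedPoint k
  have h0 : CohIII.fiberRank π ((Scheme.Modules.pullback pr).obj L) 0 pt = 1 := by
    rw [fiberRank_specField (K := k) π (Groth.PicAux.isInvertible_pullback pr hL) 0 pt, ← hX0]
    refine Groth.Curves1.RR.finrank_pullback (K := k) ?_ L (Groth.EulerDeg.isCoh_of_isInvertible hL).1 0
    have hT : T.hom = 𝟙 _ := Over.tensorUnit_hom
    rw [Algebra.algebraMap_self, show Spec.map (CommRingCat.ofHom (RingHom.id k)) = T.hom by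
      rw [hT]; exact Spec.map_id _]
    exact IsPullback.of_hasPullback f T.hom
  refine ⟨_, Groth.PicAux.isInvertible_pullback pr hL, hc, ?_, h0⟩
  letI : (π.fiber pt).Over (Spec (CommRingCat.of (T.left.residueField pt))) :=
    ⟨π.fiberToSpecResidueField pt⟩
  have hd := Groth.ModelsGraphs.PicDim.degC_dC hf (sumD hf D) pt
  rw [← hc, degC_cls, fibEuler_eq_sub π (hf.dim_fiber T), fibEuler_structure, h0] at hd
  rw [show Curv2.euler _ _ _ = _ from hf.euler_fiber T pt, hg] at hd
  haveI : IsProper (π.fiber pt ↘ Spec (CommRingCat.of (T.left.residueField pt))) :=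
    MorphismProperty.pullback_snd (P := @IsProper) _ _ ‹IsProper π›
  haveI : Module.Finite (T.left.residueField pt) (CohIII.fiberH π ((Scheme.Modules.pullback pr).obj L) pt 1) :=
    Groth.EulerDeg.finite_HH (T.left.residueField pt) (π.fiber pt)
      (Groth.EulerDeg.isCoh_of_isInvertible (Groth.PicAux.isInvertible_pullback (π.fiberι pt)
        (Groth.PicAux.isInvertible_pullback pr hL))) 1
  refine (Module.finrank_zero_iff (R := T.left.residueField pt)).1 ?_
  show CohIII.fiberRank π _ 1 pt = 0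
  push_cast at hd
  omega

include hf hK in
/-- The degree of a class over the ground field is the degree of its divisor. -/
theorem degC_eq_deg_of_isDivCls
    {c : PicLoc.PicSet (PicF.XT (X ↘ Spec (CommRingCat.of k)) (𝟙_ (Over (Spec (CommRingCat.of k)))))}
    {A : FunFld.Divisor k X.functionField} (hA : IsDivCls k h (pull toPtFibre c) A) :
    degC (PicF.XTproj (X ↘ Spec (CommRingCat.of k)) (𝟙_ _)) c (IsLocalRing.closedPoint k) = A.deg := by
  let f := X ↘ Spec (CommRingCat.of k)
  let T := 𝟙_ (Over (Spec (CommRingCat.of k)))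
  let π := PicF.XTproj f T
  let pr := pullback.fst f T.hom
  let pt : T.left := IsLocalRing.closedPoint k
  obtain ⟨L, hL, hLc⟩ := PicGrp.exists_eq_cls (pull toPtFibre c)
  obtain ⟨φ, A', hA', hA0, -, hA1⟩ := exists_divEmb h hK hL
  rw [show pull toPtFibre c = cls hL from hLc] at hA
  obtain ⟨w, hw, he⟩ := IsDivCls.linEquiv hK ⟨L, hL, φ, rfl, hA'⟩ hA
  have hid : pr ≫ toPtFibre = 𝟙 _ := by
    refine pullback.hom_ext ?_ ?_
    · rw [Category.assoc, Category.id_comp, toPtFibre, pullback.lift_fst, Category.comp_id]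
    · simp only [pr, toPtFibre, Category.assoc, pullback.lift_snd, Category.id_comp]
      rw [pullback.condition]
      simp [Over.tensorUnit_hom, f, T]
  have hc : cls (Groth.PicAux.isInvertible_pullback pr hL) = c := by
    rw [← pull_cls pr hL, show cls hL = _ from hLc.symm, ← pull_comp, hid, pull_id]
  have := hf.isProper_proj T
  letI : (PicF.XT f T).Over (Spec (CommRingCat.of k)) := ⟨π⟩
  have hr : ∀ i, CohIII.fiberRank π ((Scheme.Modules.pullback pr).obj L) i pt =
      Module.finrank k (Coh.HH X L i) := fun i => by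
    rw [fiberRank_specField (K := k) π (Groth.PicAux.isInvertible_pullback pr hL) i pt]
    refine Groth.Curves1.RR.finrank_pullback (K := k) ?_ L (Groth.EulerDeg.isCoh_of_isInvertible hL).1 i
    have hT : T.hom = 𝟙 _ := Over.tensorUnit_hom
    rw [Algebra.algebraMap_self, show Spec.map (CommRingCat.ofHom (RingHom.id k)) = T.hom by
      rw [hT]; exact Spec.map_id _]
    exact IsPullback.of_hasPullback f T.hom
  rw [← hc, degC_cls, fibEuler_eq_sub π (hf.dim_fiber T), fibEuler_structure, hr, hr]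
  letI : (π.fiber pt).Over (Spec (CommRingCat.of (T.left.residueField pt))) :=
    ⟨π.fiberToSpecResidueField pt⟩
  rw [show Curv2.euler _ _ _ = _ from hf.euler_fiber T pt, hA1, hA0, he, Groth.FunFld1.deg_add,
    (Groth.FunFld1.IsFF.of_isFunctionField hK).deg_div _, genus_eq (k := k) X]
  omega

include hf in
/-- The ideals of points have minus the sum of the points as a divisor. -/
theorem isDivCls_tensorList_ideal : ∀ {m : ℕ} (s : Fin m → (Spec (CommRingCat.of k) ⟶ X))
    (hs : ∀ i, s i ≫ (X ↘ Spec (CommRingCat.of k)) = 𝟙 _)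
    (x : Fin m → (𝟙_ _ ⟶ Over.mk (X ↘ Spec (CommRingCat.of k)))) (_ : ∀ i, (x i).left = s i),
    FunFld.IsFunctionField k X.functionField →
    ∃ hi : PicF.IsInvertible (FGA.tensorList (List.ofFn fun i => ClSub.idealMod (s i).ker)),
      IsDivCls k h (cls hi) (-∑ i, Finsupp.single (plOf h (x i)) 1) := by
  intro m
  have := hf.proper
  have := hf.smoothOne
  induction m with
  | zero =>
    intro s hs x hx hK
    rw [List.ofFn_zero]
    refine ⟨PicLoc.isInvertible_structureModule X, ?_⟩
    have h1 : cls (L := FGA.tensorList ([] : List X.Modules)) (PicLoc.isInvertible_structureModule X) = 1 :=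
      (PicGrp.cls_eq_one_iff _).2 ⟨Iso.refl _⟩
    rw [Finset.univ_eq_empty, Finset.sum_empty, neg_zero]
    exact h1.symm ▸ isDivCls_one hK
  | succ m ih =>
    intro s hs x hx hK
    obtain ⟨hi, hd⟩ := ih (fun i => s i.succ) (fun i => hs i.succ) (fun i => x i.succ)
      (fun i => hx i.succ) hK
    have h0 : PicF.IsInvertible (ClSub.idealMod (s 0).ker) :=
      Groth.PicAux.isInvertible_idealMod (Groth.Agent.S15990.result _ (s 0) (hs 0)).1
    have key : ∃ hj : PicF.IsInvertible (CohB1.tensorMod (ClSub.idealMod (s 0).ker)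
        (FGA.tensorList (List.ofFn fun i : Fin m => ClSub.idealMod (s i.succ).ker))),
        IsDivCls k h (cls hj) (-∑ i, Finsupp.single (plOf h (x i)) 1) := by
      refine ⟨isInvertible_tensorMod h0 hi, ?_⟩
      rw [cls_tensorMod h0 hi, Fin.sum_univ_succ, neg_add]
      exact (isDivCls_section (x 0) (s 0) (hs 0) (hx 0) h0).mul hd
    rw [List.ofFn_succ]
    exact key

include hf hK in
/-- The sections of `O(D)` as a Riemann-Roch space. -/
theorem ell_eq_finrank_of_tensorList {m : ℕ} (s : Fin m → (Spec (CommRingCat.of k) ⟶ X))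
    (hs : ∀ i, s i ≫ (X ↘ Spec (CommRingCat.of k)) = 𝟙 _) (M : X.Modules) (hM : PicF.IsInvertible M)
    (hMD : Nonempty (CohB1.tensorMod M (FGA.tensorList (List.ofFn fun i => ClSub.idealMod (s i).ker)) ≅
      Coh.structureModule X)) :
    FunFld.ell (∑ i, Finsupp.single (plOf h (Over.homMk (s i) (hs i) :
      𝟙_ _ ⟶ Over.mk (X ↘ Spec (CommRingCat.of k)))) 1 : FunFld.Divisor k X.functionField) =
      Module.finrank k (Coh.HH X M 0) := by
  obtain ⟨hi, hd⟩ := isDivCls_tensorList_ideal (h := h) hf s hs (fun i => Over.homMk (s i) (hs i))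
    (fun i => rfl) hK
  have h1 : cls hM * cls hi = 1 := by
    rw [← cls_tensorMod hM hi]
    exact (PicGrp.cls_eq_one_iff _).2 hMD
  obtain ⟨φ, A, hA, hA0, -, -⟩ := exists_divEmb h hK hM
  have h2 := hd.inv hK
  rw [neg_neg, ← eq_inv_of_mul_eq_one_left h1] at h2
  obtain ⟨w, hw, he⟩ := IsDivCls.linEquiv hK ⟨M, hM, φ, rfl, hA⟩ h2
  rw [hA0, he, (Groth.FunFld1.IsFF.of_isFunctionField hK).ell_add_div _ hw]

omit [IsAlgClosed k] [IsIntegral X] in
/-- Products of ideals of different points are intersections. -/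
theorem prod_ker_eq_iInf : ∀ {m : ℕ} (s : Fin m → (Spec (CommRingCat.of k) ⟶ X)),
    (∀ i, s i ≫ (X ↘ Spec (CommRingCat.of k)) = 𝟙 _) →
    (∀ i i', (s i).base (IsLocalRing.closedPoint k) = (s i').base (IsLocalRing.closedPoint k) → i = i') →
    ∏ i, (s i).ker = ⨅ i, (s i).ker := by
  intro m
  induction m with
  | zero => intro s _ _; rw [Finset.univ_eq_empty, Finset.prod_empty, iInf_of_empty]; rfl
  | succ m ih =>
    intro s hs hinj
    rw [Fin.prod_univ_succ, ih (fun i => s i.succ) (fun i => hs i.succ)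
      (fun i i' e => Fin.succ_injective _ (hinj _ _ e))]
    have hsup : (s 0).ker ⊔ (⨅ i, (s (Fin.succ i)).ker) = ⊤ := by
      rw [← Scheme.IdealSheafData.support_eq_bot_iff, Scheme.IdealSheafData.support_sup]
      have hp : ∀ i, ((s i).ker.support : Set X) = {(s i).base (IsLocalRing.closedPoint k)} := fun i => by
        have : QuasiCompact (s i) := by
          have : IsClosedImmersion (s i ≫ (X ↘ Spec (CommRingCat.of k))) := by rw [hs i]; infer_instance
          have := IsClosedImmersion.of_comp (s i) (X ↘ Spec (CommRingCat.of k))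
          infer_instance
        rw [Scheme.Hom.support_ker]
        have hr : Set.range (s i).base = {(s i).base (IsLocalRing.closedPoint k)} :=
          Set.eq_singleton_iff_unique_mem.2 ⟨⟨_, rfl⟩, by
            rintro _ ⟨p, rfl⟩
            exact congrArg _ (Subsingleton.elim (α := PrimeSpectrum k) _ _)⟩
        show closure (Set.range (s i).base) = _
        rw [hr]
        have : IsClosedImmersion (s i) := by
          have : IsClosedImmersion (s i ≫ (X ↘ Spec (CommRingCat.of k))) := by rw [hs i]; infer_instance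
          exact IsClosedImmersion.of_comp (s i) (X ↘ Spec (CommRingCat.of k))
        exact (hr ▸ (s i).isClosedEmbedding.isClosed_range).closure_eq
      refine SetLike.coe_injective ?_
      simp only [TopologicalSpace.Closeds.coe_inf, TopologicalSpace.Closeds.coe_bot]
      refine Set.disjoint_iff_inter_eq_empty.1 (Set.disjoint_left.2 fun p h1 h2 => ?_)
      rw [hp 0, Set.mem_singleton_iff] at h1
      subst h1
      have h3 : ∀ {n : ℕ} (I : Fin n → X.IdealSheafData),
          ((⨅ i, I i).support : Set X) ⊆ ⋃ i, ((I i).support : Set X) := by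
        intro n
        induction n with
        | zero => intro I; simp [iInf_of_empty]
        | succ n ihn =>
          intro I
          have : (⨅ i, I i) = I 0 ⊓ ⨅ i : Fin n, I i.succ :=
            le_antisymm (le_inf (iInf_le _ _) (le_iInf fun i => iInf_le _ _))
              (le_iInf fun i => Fin.cases inf_le_left (fun l => inf_le_right.trans (iInf_le _ l)) i)
          rw [this]
          refine (SetLike.coe_subset_coe.2 (Scheme.IdealSheafData.support_antitone
            (Scheme.IdealSheafData.le_def.2 fun U => ?_ : I 0 * (⨅ i : Fin n, I i.succ) ≤ I 0 ⊓ _))).trans ?_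
          · simp only [Scheme.IdealSheafData.ideal_mul, Scheme.IdealSheafData.ideal_inf, Pi.mul_apply,
              Pi.inf_apply]
            exact Ideal.mul_le_inf
          · rw [Scheme.IdealSheafData.support_mul, TopologicalSpace.Closeds.coe_sup]
            exact Set.union_subset (Set.subset_iUnion_of_subset 0 le_rfl)
              ((ihn _).trans (Set.iUnion_subset fun i => Set.subset_iUnion_of_subset i.succ le_rfl))
      obtain ⟨i, hi⟩ := Set.mem_iUnion.1 (h3 _ h2)
      rw [hp, Set.mem_singleton_iff] at hi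
      exact Fin.succ_ne_zero i (hinj _ _ hi).symm
    rw [← inf_eq_mul_of_sup_eq_top hsup]
    exact le_antisymm
      (le_iInf fun i => Fin.cases inf_le_left (fun l => inf_le_right.trans (iInf_le _ l)) i)
      (le_inf (iInf_le _ _) (le_iInf fun i => iInf_le _ _))

end Numerics

end Groth.PicField
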