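import Groth.Agent.PicField.PointDiv
import Groth.Agent.PicField.JacobianAlbanese
import Groth.Agent.PicField.Correspondence
import Groth.Agent.GrpschAbsch.AbVarEtale
import Groth.Agent.AlgGrp1.Points
import Groth.Agent.Abvar.AlgClosedAux
import Mathlib

/-!
# Automorphisms of a curve acting on its Jacobian by a translation or a reflection
-/

set_option autoImplicit false
set_option linter.style.haveILetI false

universe u

open CategoryTheory CategoryTheory.Limits MonoidalCategory CartesianMonoidalCategory MonObj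
  AlgebraicGeometry TopologicalSpace Opposite
open Groth.CurveBridge
open Groth.ModelsGraphs.PicDim (zeroClasses)

set_option maxHeartbeats 1600000
set_option backward.isDefEq.respectTransparency false
set_option backward.defeqAttrib.useBackward true
set_option backward.isDefEq.respectTransparency.types false

noncomputable section

namespace Groth.PicField

open Groth.DivNorm

variable {k : Type u} [Field k] [IsAlgClosed k] {C : Scheme.{u}}
  [C.Over (Spec (CommRingCat.of k))] [IsProper (C ↘ Spec (CommRingCat.of k))]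
  [Smooth (C ↘ Spec (CommRingCat.of k))] [GeometricallyConnected (C ↘ Spec (CommRingCat.of k))]

/-- Morphisms agreeing on rational points agree. -/
theorem hom_ext_rational {T Y : Over (Spec (CommRingCat.of k))} [LocallyOfFiniteType T.hom]
    [GeometricallyReduced T.hom] [IsSeparated Y.hom] (a b : T ⟶ Y)
    (h : ∀ x : 𝟙_ _ ⟶ T, x ≫ a = x ≫ b) : a = b := by
  refine Groth.AlgGrp1.eq_of_sepClosed_points (K := k) a b fun t => ?_
  have := h (Groth.Abvar.unitIsoSpecAlg.hom ≫ t)
  rw [Category.assoc, Category.assoc] at this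
  exact (cancel_epi _).1 this

variable (hdim : topologicalKrullDim ↥C = 1) (σ : Spec (CommRingCat.of k) ⟶ C)
  (hσ : σ ≫ (C ↘ Spec (CommRingCat.of k)) = 𝟙 _)
  {J : Over (Spec (CommRingCat.of k))} [GrpObj J] [IsCommMonObj J]
  (ψ : (ModFun.PicDeg (C ↘ Spec (CommRingCat.of k)) 0).Hom ⊤ J)
  (hJ : Jac.IsJacobian (C ↘ Spec (CommRingCat.of k)) ⊤ J ψ)
  (j : Over.mk (C ↘ Spec (CommRingCat.of k)) ⟶ J)
  (hj : Jac.IsAbelJacobiAt (C ↘ Spec (CommRingCat.of k)) σ ψ j)

include hdim hσ hJ hj in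
theorem linEquiv_of_pair [IsIntegral C] (h : IsRegCurve C)
    (hK : FunFld.IsFunctionField k C.functionField)
    (x₁ x₂ y₁ y₂ : 𝟙_ _ ⟶ Over.mk (C ↘ Spec (CommRingCat.of k)))
    (he : (x₁ ≫ j) * (x₂ ≫ j) = (y₁ ≫ j) * (y₂ ≫ j)) :
    ∃ w : C.functionField, w ≠ 0 ∧
      (Finsupp.single (plOf h y₁) 1 + Finsupp.single (plOf h y₂) 1 :
          FunFld.Divisor k C.functionField) =
        (Finsupp.single (plOf h x₁) 1 + Finsupp.single (plOf h x₂) 1) + FunFld.div k w := by
  let f := C ↘ Spec (CommRingCat.of k)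
  have hf := isPtCurve_of_connected f hdim σ hσ
  obtain ⟨-, -, -, e, hnat, hmul, hψ⟩ := exists_points_equiv hf σ hσ ψ hJ
  have hje := abel_eq hf ψ e hψ hj
  have h2 := linEquiv_of_prod_ajPt (σ := σ) (hσ := hσ) (h := h) hK hf ![x₁, x₂] ![y₁, y₂] (by
    simp only [Fin.prod_univ_two, Matrix.cons_val_zero, Matrix.cons_val_one]
    rw [← e_comp_abel e hnat, ← e_comp_abel e hnat, ← e_comp_abel e hnat, ← e_comp_abel e hnat,
      ← hje, ← hmul, ← hmul, he])
  simpa only [Fin.sum_univ_two, Matrix.cons_val_zero, Matrix.cons_val_one] using h2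

include hdim hσ hJ hj in
/-- An automorphism acting as a translation is the identity, in genus at least two. -/
theorem eq_id_of_comp_abel_eq_mul (hg : 2 ≤ Curv2.genus k C)
    (gm : Over.mk (C ↘ Spec (CommRingCat.of k)) ⟶ Over.mk (C ↘ Spec (CommRingCat.of k)))
    (d : 𝟙_ _ ⟶ J) (he : gm ≫ j = j * (toUnit _ ≫ d)) : gm = 𝟙 _ := by
  let f := C ↘ Spec (CommRingCat.of k)
  have : ConnectedSpace C := GeometricallyConnected.connectedSpace f f.isOpenMap
  have : IsIntegral C := Groth.CurveBridge.isIntegral_of_smooth k C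
  have h := isRegCurve_of_smooth k C hdim
  have hK := Groth.CurveBridge.isFunctionField (k := k) (X := C) hdim
  rw [Groth.CurveBridge.genus_eq h hK] at hg
  let O := Over.mk f
  have : LocallyOfFiniteType O.hom := inferInstanceAs (LocallyOfFiniteType f)
  have : IsSeparated O.hom := inferInstanceAs (IsSeparated f)
  have : GeometricallyReduced O.hom :=
    Groth.GrpschAbsch.FibreFlat.geometricallyReduced_of_smooth f
  refine hom_ext_rational _ _ fun x₀ => ?_
  rw [Category.comp_id]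
  by_contra hne
  obtain ⟨R, hR, hRl⟩ := exists_pair_ell_lt hK hg (plOf h (x₀ ≫ gm)) (plOf h x₀)
  obtain ⟨y, rfl⟩ := plOf_surjective (h := h) R
  have hpt : ∀ x : 𝟙_ _ ⟶ O, (x ≫ gm) ≫ j = (x ≫ j) * d := fun x => by
    rw [Category.assoc, he, MonObj.comp_mul, ← Category.assoc, toUnit_unique (x ≫ toUnit _) (𝟙 _),
      Category.id_comp]
  obtain ⟨w, hw, hD⟩ := linEquiv_of_pair hdim σ hσ ψ hJ j hj h hK (x₀ ≫ gm) y (y ≫ gm) x₀ (by
    rw [hpt, hpt, mul_right_comm, mul_comm (x₀ ≫ j) (y ≫ j), mul_right_comm])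
  have h2 := two_le_ell hK
    (add_nonneg (Finsupp.single_nonneg.mpr zero_le_one) (Finsupp.single_nonneg.mpr zero_le_one))
    (add_nonneg (Finsupp.single_nonneg.mpr zero_le_one) (Finsupp.single_nonneg.mpr zero_le_one))
    (fun h' => by
      have h3 := congrArg (fun D : FunFld.Divisor k C.functionField => D (plOf h x₀)) h'
      have hp : plOf h (x₀ ≫ gm) ≠ plOf h x₀ := fun e => hne (plOf_injective e)
      simp only [Finsupp.add_apply, Finsupp.single_eq_same,
        Finsupp.single_eq_of_ne (Ne.symm hp), Finsupp.single_eq_of_ne (Ne.symm hR)] at h3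
      have h4 : (0 : ℤ) ≤ (Finsupp.single (plOf h (y ≫ gm)) 1 : FunFld.Divisor k C.functionField)
          (plOf h x₀) := (Finsupp.single_nonneg.mpr zero_le_one : (0 : FunFld.Divisor k _) ≤ _) _
      omega) hw hD
  omega

include hdim hσ hJ hj in
/-- A curve with a map acting as a reflection is hyperelliptic. -/
theorem exists_pencil_of_comp_abel_mul_eq (hg : 2 ≤ Curv2.genus k C)
    (gm : Over.mk (C ↘ Spec (CommRingCat.of k)) ⟶ Over.mk (C ↘ Spec (CommRingCat.of k)))
    (d : 𝟙_ _ ⟶ J) (he : (gm ≫ j) * j = toUnit _ ≫ d) :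
    ∃ L : C.Modules, PicF.IsInvertible L ∧ Curv2.deg k C L 1 = 2 ∧
      Module.finrank k (Coh.HH C L 0) = 2 := by
  classical
  let f := C ↘ Spec (CommRingCat.of k)
  have : ConnectedSpace C := GeometricallyConnected.connectedSpace f f.isOpenMap
  have : IsIntegral C := Groth.CurveBridge.isIntegral_of_smooth k C
  have h := isRegCurve_of_smooth k C hdim
  have hK := Groth.CurveBridge.isFunctionField (k := k) (X := C) hdim
  have hF := Groth.FunFld1.IsFF.of_isFunctionField hK
  rw [Groth.CurveBridge.genus_eq h hK] at hg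
  have := Groth.CurveBridge.infinite_place hF
  let O := Over.mk f
  let x : 𝟙_ _ ⟶ O := Over.homMk σ hσ
  obtain ⟨R, hR⟩ := Infinite.exists_notMem_finset {plOf h x, plOf h (x ≫ gm)}
  simp only [Finset.mem_insert, Finset.mem_singleton, not_or] at hR
  obtain ⟨y, rfl⟩ := plOf_surjective (h := h) R
  have hpt : ∀ z : 𝟙_ _ ⟶ O, ((z ≫ gm) ≫ j) * (z ≫ j) = d := fun z => by
    rw [Category.assoc, ← MonObj.comp_mul, he, ← Category.assoc,
      toUnit_unique (z ≫ toUnit _) (𝟙 _), Category.id_comp]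
  obtain ⟨w, hw, hD⟩ := linEquiv_of_pair hdim σ hσ ψ hJ j hj h hK (x ≫ gm) x (y ≫ gm) y
    (by rw [hpt, hpt])
  let D : FunFld.Divisor k C.functionField :=
    Finsupp.single (plOf h (x ≫ gm)) 1 + Finsupp.single (plOf h x) 1
  have hD0 : 0 ≤ D :=
    add_nonneg (Finsupp.single_nonneg.mpr zero_le_one) (Finsupp.single_nonneg.mpr zero_le_one)
  have h2 : 2 ≤ FunFld.ell D := two_le_ell hK hD0
    (add_nonneg (Finsupp.single_nonneg.mpr zero_le_one) (Finsupp.single_nonneg.mpr zero_le_one))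
    (fun h' => by
      have h3 := congrArg (fun D : FunFld.Divisor k C.functionField => D (plOf h y)) h'
      simp only [D, Finsupp.add_apply, Finsupp.single_eq_same,
        Finsupp.single_eq_of_ne hR.1, Finsupp.single_eq_of_ne hR.2] at h3
      have h4 : (0 : ℤ) ≤ (Finsupp.single (plOf h (y ≫ gm)) 1 : FunFld.Divisor k C.functionField)
          (plOf h y) := (Finsupp.single_nonneg.mpr zero_le_one : (0 : FunFld.Divisor k _) ≤ _) _
      omega) hw hD
  have hd : D.deg = 2 := by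
    rw [Groth.FunFld1.deg_add, Groth.FunFld1.deg_single, Groth.FunFld1.deg_single,
      Groth.FunFld1.deg_eq_one_of_isAlgClosed hF, Groth.FunFld1.deg_eq_one_of_isAlgClosed hF]
    rfl
  obtain ⟨L, hL, h0, hdL, -⟩ := exists_invertible_numerics h hK D
  exact ⟨L, hL, hdL.trans hd, h0.trans (ell_eq_two_of_deg_two hK hg hd h2)⟩

end Groth.PicField

namespace Groth.PicField

section Signs

variable {k : Type u} [Field k] {C J J' : Over (Spec (CommRingCat.of k))} [GrpObj J] [GrpObj J']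
  [IsCommMonObj J] [IsCommMonObj J']

/-- Equal signs: a reparametrisation differing by a constant acts as a translation. -/
theorem comp_eq_mul_of_signs (β : J ≅ J') [IsMonHom β.hom] (j : C ⟶ J) (gm : C ⟶ C)
    (c₁ c₂ : 𝟙_ _ ⟶ J') (s : ℤ) (hs : s = 1 ∨ s = -1)
    (he : gm ≫ ((j ≫ β.hom) ^ s * (toUnit C ≫ c₁)) = (j ≫ β.hom) ^ s * (toUnit C ≫ c₂)) :
    gm ≫ j = j * (toUnit C ≫ (((c₂ * c₁⁻¹) ^ s) ≫ β.inv)) := by
  have h1 : (gm ≫ (j ≫ β.hom)) ^ s = (j ≫ β.hom) ^ s * (toUnit C ≫ (c₂ * c₁⁻¹)) := by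
    rw [MonObj.comp_mul, ← Category.assoc, toUnit_unique (gm ≫ toUnit C) (toUnit C),
      GrpObj.comp_zpow] at he
    rw [MonObj.comp_mul, GrpObj.comp_inv, ← _root_.mul_assoc, ← he, mul_inv_cancel_right]
  have h2 : gm ≫ (j ≫ β.hom) = (j ≫ β.hom) * (toUnit C ≫ ((c₂ * c₁⁻¹) ^ s)) := by
    have h3 := congrArg (fun z => z ^ s) h1
    have hss : s * s = 1 := by rcases hs with rfl | rfl <;> rfl
    simp only [← zpow_mul, hss, zpow_one, mul_zpow] at h3
    rw [GrpObj.comp_zpow, h3]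
  have h4 := congrArg (· ≫ β.inv) h2
  simpa [MonObj.mul_comp, Category.assoc] using h4

/-- Opposite signs: the reparametrisation acts as a reflection. -/
theorem comp_mul_eq_of_signs (β : J ≅ J') [IsMonHom β.hom] (j : C ⟶ J) (gm : C ⟶ C)
    (c₁ c₂ : 𝟙_ _ ⟶ J') (s : ℤ) (hs : s = 1 ∨ s = -1)
    (he : gm ≫ ((j ≫ β.hom) ^ s * (toUnit C ≫ c₁)) = (j ≫ β.hom) ^ (-s) * (toUnit C ≫ c₂)) :
    (gm ≫ j) * j = toUnit C ≫ (((c₂ * c₁⁻¹) ^ s) ≫ β.inv) := by
  have h1 : (gm ≫ (j ≫ β.hom)) ^ s * (j ≫ β.hom) ^ s = toUnit C ≫ (c₂ * c₁⁻¹) := by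
    rw [MonObj.comp_mul, ← Category.assoc, toUnit_unique (gm ≫ toUnit C) (toUnit C),
      GrpObj.comp_zpow, zpow_neg] at he
    have h5 := eq_mul_inv_of_mul_eq he
    rw [h5, MonObj.comp_mul, GrpObj.comp_inv, mul_comm _ ((j ≫ β.hom) ^ s), ← _root_.mul_assoc,
      ← _root_.mul_assoc, mul_inv_cancel, _root_.one_mul]
  have h2 : (gm ≫ (j ≫ β.hom)) * (j ≫ β.hom) = toUnit C ≫ ((c₂ * c₁⁻¹) ^ s) := by
    have h3 := congrArg (fun z => z ^ s) h1
    have hss : s * s = 1 := by rcases hs with rfl | rfl <;> rfl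
    simp only [mul_zpow, ← zpow_mul, hss, zpow_one] at h3
    rw [GrpObj.comp_zpow, h3]
  have h4 := congrArg (· ≫ β.inv) h2
  simpa [MonObj.mul_comp, Category.assoc] using h4

end Signs

end Groth.PicField
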